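import Mathlib

/-! Central extensions of alternating groups: canonical lifts of three-cycles. -/

set_option autoImplicit false
set_option linter.unusedSectionVars false

namespace Cfsg.Agent.H18.Dc

open Equiv Equiv.Perm

variable {α : Type} [Fintype α] [DecidableEq α] {Γ : Type*} [Group Γ]

/-- the three-cycle `a ↦ b ↦ c ↦ a` -/
def T (a b c : α) : Perm α := swap a b * swap b c

/-- three distinct points -/
def D (a b c : α) : Prop := a ≠ b ∧ a ≠ c ∧ b ≠ c

theorem D.rot {a b c : α} (h : D a b c) : D b c a := ⟨h.2.2, h.1.symm, h.2.1.symm⟩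
theorem D.swp {a b c : α} (h : D a b c) : D a c b := ⟨h.2.1, h.1, h.2.2.symm⟩
theorem D.map {a b c : α} (h : D a b c) (g : Perm α) : D (g a) (g b) (g c) :=
  ⟨g.injective.ne h.1, g.injective.ne h.2.1, g.injective.ne h.2.2⟩

theorem T_fst {a b c : α} (h : D a b c) : T a b c a = b := by
  simp [T, swap_apply_of_ne_of_ne h.1 h.2.1]
theorem T_snd {a b c : α} (h : D a b c) : T a b c b = c := by
  simp [T, swap_apply_of_ne_of_ne h.2.1.symm h.2.2.symm]
theorem T_thd (a b c : α) : T a b c c = a := by simp [T]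
theorem T_other {a b c x : α} (h1 : x ≠ a) (h2 : x ≠ b) (h3 : x ≠ c) : T a b c x = x := by
  simp [T, swap_apply_of_ne_of_ne, h1, h2, h3]

theorem T_conj (g : Perm α) (a b c : α) : g * T a b c * g⁻¹ = T (g a) (g b) (g c) := by
  simp [T, swap_apply_apply, mul_assoc]

theorem T_rot {a b c : α} (h : D a b c) : T a b c = T b c a := by
  obtain ⟨h1, h2, h3⟩ := h
  ext x
  simp only [T, Perm.mul_apply, swap_apply_def]
  grind

theorem T_inv {a b c : α} (h : D a b c) : (T a b c)⁻¹ = T a c b := by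
  obtain ⟨h1, h2, h3⟩ := h
  rw [inv_eq_iff_mul_eq_one]
  ext x
  simp only [T, Perm.mul_apply, swap_apply_def, Perm.one_apply]
  grind

theorem T_sq {i k a b : α} (h : D i a b) (h' : D k a b) (hik : i ≠ k) :
    T i a b * T k a b = swap i a * swap b k := by
  obtain ⟨h1, h2, h3⟩ := h
  obtain ⟨h4, h5, -⟩ := h'
  ext x
  simp only [T, Perm.mul_apply, swap_apply_def]
  grind

theorem sign_T {a b c : α} (h : D a b c) : sign (T a b c) = 1 := by
  simp [T, sign_swap h.1, sign_swap h.2.2]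

theorem exists_T {σ : Perm α} (h : σ.IsThreeCycle) : ∃ a b c, D a b c ∧ σ = T a b c := by
  obtain ⟨a, ha⟩ : σ.support.Nonempty := by
    rw [← Finset.card_pos, h.card_support]; norm_num
  have h1 := h.nodup_iff_mem_support.2 ha
  simp only [List.nodup_cons, List.mem_cons, List.not_mem_nil, or_false, not_or] at h1
  exact ⟨a, σ a, σ (σ a), ⟨h1.1.1, h1.1.2, h1.2.1⟩, h.eq_swap_mul_swap_iff_mem_support.2 ha⟩

/-- a central extension of the alternating group with canonical lifts of three-cycles -/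
structure Cov (π : Γ →* Perm α) (P : Γ → Prop) : Prop where
  cen : ∀ z, π z = 1 → ∀ g, g * z = z * g
  surj : ∀ σ, sign σ = 1 → ∃ g, π g = σ
  even : ∀ g, sign (π g) = 1
  conj : ∀ g x, P x → P (g * x * g⁻¹)
  inv : ∀ x, P x → P x⁻¹
  cube : ∀ x, P x → x * x = x⁻¹
  ex : ∀ a b c, D a b c → ∃ x, P x ∧ π x = T a b c
  uniq : ∀ x y a b c, D a b c → P x → P y → π x = T a b c → π y = T a b c → x = y

open Classical in
/-- the canonical lift -/
noncomputable def L (π : Γ →* Perm α) (P : Γ → Prop) (a b c : α) : Γ :=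
  if h : ∃ x, P x ∧ π x = T a b c then h.choose else 1

/-- the square of a lifted double transposition -/
noncomputable def β (π : Γ →* Perm α) (P : Γ → Prop) (i k a b : α) : Γ :=
  L π P i a b * L π P k a b * (L π P i a b * L π P k a b)

/-- generators: lifts of three-cycles inside `S` and `K` -/
def gens (π : Γ →* Perm α) (P : Γ → Prop) (K : Subgroup Γ) (S : Finset α) : Set Γ :=
  {g | g ∈ K ∨ ∃ a ∈ S, ∃ b ∈ S, ∃ c ∈ S, D a b c ∧ g = L π P a b c}

namespace Cov

variable {π : Γ →* Perm α} {P : Γ → Prop} (H : Cov π P)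
include H

theorem L_spec {a b c : α} (h : D a b c) : P (L π P a b c) ∧ π (L π P a b c) = T a b c := by
  have := H.ex a b c h
  rw [L, dif_pos this]
  exact this.choose_spec

theorem L_eq {a b c : α} (h : D a b c) {x : Γ} (h1 : P x) (h2 : π x = T a b c) : x = L π P a b c :=
  H.uniq _ _ a b c h h1 (H.L_spec h).1 h2 (H.L_spec h).2

theorem L_conj {a b c : α} (h : D a b c) (g : Γ) :
    g * L π P a b c * g⁻¹ = L π P (π g a) (π g b) (π g c) :=
  H.L_eq (h.map _) (H.conj _ _ (H.L_spec h).1) (by simp [(H.L_spec h).2, T_conj])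

theorem L_rot {a b c : α} (h : D a b c) : L π P a b c = L π P b c a :=
  H.L_eq h.rot (H.L_spec h).1 ((H.L_spec h).2.trans (T_rot h))

theorem L_inv {a b c : α} (h : D a b c) : (L π P a b c)⁻¹ = L π P a c b :=
  H.L_eq h.swp (H.inv _ (H.L_spec h).1) (by rw [map_inv, (H.L_spec h).2, T_inv h])

theorem β_ker {i k a b : α} (h : D i a b) (h' : D k a b) (hik : i ≠ k) : π (β π P i k a b) = 1 := by
  rw [β, map_mul, map_mul, (H.L_spec h).2, (H.L_spec h').2, T_sq h h' hik]
  obtain ⟨h1, h2, h3⟩ := h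
  obtain ⟨h4, h5, -⟩ := h'
  ext x
  simp only [Perm.mul_apply, swap_apply_def, Perm.one_apply]
  grind

theorem β_conj {i k a b : α} (h : D i a b) (h' : D k a b) (hik : i ≠ k) (g : Γ) :
    β π P (π g i) (π g k) (π g a) (π g b) = β π P i k a b := by
  have h1 := H.cen _ (H.β_ker h h' hik) g
  calc _ = g * β π P i k a b * g⁻¹ := by
        rw [β, ← H.L_conj h, ← H.L_conj h', β]; group
    _ = _ := by rw [h1]; group

theorem β_symm {i k a b : α} (h : D i a b) (h' : D k a b) (hik : i ≠ k) :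
    β π P k i a b = β π P i k a b := by
  have h1 := H.cen _ (H.β_ker h h' hik) (L π P i a b)⁻¹
  calc _ = (L π P i a b)⁻¹ * β π P i k a b * L π P i a b := by rw [β, β]; group
    _ = _ := by rw [h1]; group

theorem L_mul {i k a b : α} (h : D i a b) (h' : D k a b) (hik : i ≠ k) :
    (L π P k a b)⁻¹ * L π P i a b = (β π P i k a b)⁻¹ * L π P k b i := by
  have h1 := H.L_conj h' (L π P i a b)
  rw [(H.L_spec h).2, T_other hik.symm h'.1 h'.2.1, T_snd h, T_thd] at h1
  have h2 := H.cube _ (H.L_spec h).1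
  rw [← h1, eq_inv_mul_iff_mul_eq, ← h2, β]
  have h3 : (L π P i a b) * (L π P i a b * L π P i a b) = 1 := by rw [h2]; group
  calc _ = L π P i a b * L π P k a b * (L π P i a b * L π P i a b) := by group
    _ = _ := rfl

theorem β_sq {i k a b : α} (h : D i a b) (h' : D k a b) (hik : i ≠ k) :
    β π P i k a b * β π P i k a b = 1 := by
  have h1 := H.L_mul h h' hik
  have h2 := H.L_mul h' h hik.symm
  have d : D k b i := ⟨h'.2.1, hik.symm, h.2.1.symm⟩
  rw [H.β_symm h h' hik, ← H.L_rot d.swp, ← H.L_inv d] at h2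
  have h3 := H.cen _ (H.β_ker h h' hik) (L π P k b i)
  have h4 : (L π P k b i)⁻¹ * β π P i k a b = (β π P i k a b)⁻¹ * (L π P k b i)⁻¹ := by
    rw [← h2, ← inv_inj, mul_inv_rev, mul_inv_rev, inv_inv, inv_inv, h1]
  calc _ = β π P i k a b * L π P k b i * ((L π P k b i)⁻¹ * β π P i k a b) := by group
    _ = L π P k b i * β π P i k a b * ((β π P i k a b)⁻¹ * (L π P k b i)⁻¹) := by rw [h3, h4]
    _ = 1 := by group

theorem β_eq {i k a b i' k' a' b' : α} (h : D i a b) (h' : D k a b) (hik : i ≠ k) (g : D i' a' b')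
    (g' : D k' a' b') (hik' : i' ≠ k') : β π P i' k' a' b' = β π P i k a b := by
  obtain ⟨σ, hσ⟩ := Perm.exists_extending_pair ![i, k, a, b] ![i', k', a', b']
    (by
      obtain ⟨h1, h2, h3⟩ := h
      obtain ⟨h4, h5, -⟩ := h'
      intro x y; fin_cases x <;> fin_cases y <;> simp <;> grind)
    (by
      obtain ⟨h1, h2, h3⟩ := g
      obtain ⟨h4, h5, -⟩ := g'
      intro x y; fin_cases x <;> fin_cases y <;> simp <;> grind)
  have e0 : σ i = i' := hσ 0
  have e1 : σ k = k' := hσ 1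
  have e2 : σ a = a' := hσ 2
  have e3 : σ b = b' := hσ 3
  rcases Int.units_eq_one_or (sign σ) with hs | hs
  · obtain ⟨u, rfl⟩ := H.surj σ hs
    rw [← e0, ← e1, ← e2, ← e3, H.β_conj h h' hik]
  · obtain ⟨u, hu⟩ := H.surj (σ * swap i k) (by simp [hs, sign_swap hik])
    have := H.β_conj h' h hik.symm u
    rw [hu] at this
    simp only [Perm.mul_apply, swap_apply_left, swap_apply_right,
      swap_apply_of_ne_of_ne h.1.symm h'.1.symm, swap_apply_of_ne_of_ne h.2.1.symm h'.2.1.symm,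
      e0, e1, e2, e3] at this
    rw [this, H.β_symm h h' hik]

theorem fix {K : Subgroup Γ} (hK : K ≤ π.ker) {S : Finset α} {g : Γ}
    (hg : g ∈ Subgroup.closure (gens π P K S)) {x : α} (hx : x ∉ S) : π g x = x := by
  induction hg using Subgroup.closure_induction with
  | mem y hy =>
    rcases hy with hy | ⟨a, ha, b, hb, c, hc, d, rfl⟩
    · rw [hK hy]; rfl
    · rw [(H.L_spec d).2, T_other] <;> rintro rfl <;> contradiction
  | one => simp
  | mul y z _ _ h1 h2 => simp [h1, h2]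
  | inv y _ h1 => rw [map_inv, Perm.inv_eq_iff_eq, h1]

theorem maps {K : Subgroup Γ} (hK : K ≤ π.ker) {S : Finset α} {g : Γ}
    (hg : g ∈ Subgroup.closure (gens π P K S)) {x : α} (hx : x ∈ S) : π g x ∈ S := by
  by_contra h
  have := (π g).injective (H.fix hK hg h)
  exact h (this.symm ▸ hx)

theorem step {K : Subgroup Γ} (hK : K ≤ π.ker)
    (hβ : ∀ i k a b, D i a b → D k a b → i ≠ k → β π P i k a b ∈ K) {S : Finset α} {m : α}
    (hm : m ∉ S) {g : Γ} (hg : g ∈ Subgroup.closure (gens π P K (insert m S))) :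
    g ∈ Subgroup.closure (gens π P K S) ∨ ∃ i ∈ S, ∃ j ∈ S, i ≠ j ∧
      ∃ h ∈ Subgroup.closure (gens π P K S), g = h * L π P m i j := by
  set A := Subgroup.closure (gens π P K S)
  have hKA : ∀ z ∈ K, z ∈ A := fun z hz => Subgroup.subset_closure (Or.inl hz)
  have hLA : ∀ a ∈ S, ∀ b ∈ S, ∀ c ∈ S, D a b c → L π P a b c ∈ A := fun a ha b hb c hc d =>
    Subgroup.subset_closure (Or.inr ⟨a, ha, b, hb, c, hc, d, rfl⟩)
  have ne : ∀ a ∈ S, m ≠ a := fun a ha h => hm (h ▸ ha)
  let Q : Γ → Prop := fun g => g ∈ A ∨ ∃ i ∈ S, ∃ j ∈ S, i ≠ j ∧ ∃ h ∈ A, g = h * L π P m i j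
  have QA : ∀ g y, Q g → y ∈ A → Q (g * y) := by
    rintro g y (h | ⟨i, hi, j, hj, hij, h, hh, rfl⟩) hy
    · exact Or.inl (A.mul_mem h hy)
    · have h1 := H.L_conj (a := m) ⟨ne i hi, ne j hj, hij⟩ y⁻¹
      rw [H.fix hK (A.inv_mem hy) hm] at h1
      refine Or.inr ⟨_, H.maps hK (A.inv_mem hy) hi, _, H.maps hK (A.inv_mem hy) hj,
        (π y⁻¹).injective.ne hij, h * y, A.mul_mem hh hy, ?_⟩
      rw [← h1]; group
  have QL : ∀ g, ∀ k ∈ S, ∀ l ∈ S, k ≠ l → Q g → Q (g * L π P m k l) := by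
    rintro g k hk l hl hkl (h | ⟨i, hi, j, hj, hij, h, hh, rfl⟩)
    · exact Or.inr ⟨k, hk, l, hl, hkl, g, h, rfl⟩
    have d1 : D m i j := ⟨ne i hi, ne j hj, hij⟩
    have d2 : D m k l := ⟨ne k hk, ne l hl, hkl⟩
    by_cases h1 : k = j
    · subst h1
      by_cases h2 : l = i
      · subst h2
        exact Or.inl (by rw [← H.L_inv d1]; simpa using hh)
      have h3 := H.L_mul d2.rot.rot d1.swp.rot.rot h2
      rw [← H.L_rot d2.rot, ← H.L_rot d2, ← H.L_rot d1.swp.rot, ← H.L_rot d1.swp,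
        H.L_inv d1.swp] at h3
      refine Or.inl ?_
      rw [mul_assoc, h3]
      exact A.mul_mem hh (A.mul_mem (A.inv_mem (hKA _ (hβ _ _ _ _ d2.rot.rot d1.swp.rot.rot h2)))
        (hLA _ hi _ hj _ hl ⟨hij, Ne.symm h2, hkl⟩))
    by_cases h2 : l = j
    · subst h2
      by_cases h3 : k = i
      · subst h3
        refine Or.inr ⟨l, hl, k, hk, hkl.symm, h, hh, ?_⟩
        rw [mul_assoc, H.cube _ (H.L_spec d1).1, H.L_inv d1]
      have h4 := H.L_mul d1.rot d2.rot (Ne.symm h3)
      rw [← H.L_rot d1, ← H.L_rot d2] at h4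
      have h5 := H.L_conj (a := k) (b := m) (c := i) ⟨(ne k hk).symm, h3, ne i hi⟩ (L π P m k l)
      rw [(H.L_spec d2).2, T_snd d2, T_fst d2, T_other (ne i hi).symm (Ne.symm h3) hij] at h5
      have b1 := hβ _ _ _ _ d1.rot d2.rot (Ne.symm h3)
      have b2 := H.cen _ (hK (K.inv_mem b1)) (L π P m k l)
      refine Or.inr ⟨l, hl, k, hk, hkl.symm, h * ((β π P i k l m)⁻¹ * L π P l k i),
        A.mul_mem hh (A.mul_mem (A.inv_mem (hKA _ b1))
          (hLA _ hl _ hk _ hi ⟨hkl.symm, hij.symm, h3⟩)), ?_⟩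
      rw [← h5, ← H.L_inv d2]
      have h6 := H.cube _ (H.L_spec d2).1
      calc _ = h * (L π P m k l * ((L π P m k l)⁻¹ * L π P m i l)) * L π P m k l := by group
        _ = h * ((L π P m k l * (β π P i k l m)⁻¹) * L π P k m i) * L π P m k l := by
          rw [h4]; group
        _ = h * ((β π P i k l m)⁻¹ * (L π P m k l * L π P k m i * (L π P m k l)⁻¹)) *
            (L π P m k l * L π P m k l) := by rw [b2]; group
        _ = _ := by rw [h6]
    have h3 := H.L_conj d2 (L π P m i j)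
    have h4 : ∀ x ∈ S, x ≠ j → T m i j x ∈ S := fun x hx hxj => by
      by_cases h5 : x = i
      · rw [h5, T_snd d1]; exact hj
      · rw [T_other (ne x hx).symm h5 hxj]; exact hx
    have d3 := d2.map (T m i j)
    rw [(H.L_spec d1).2] at h3
    refine Or.inr ⟨i, hi, j, hj, hij, h * L π P (T m i j m) (T m i j k) (T m i j l),
      A.mul_mem hh (hLA _ (by rw [T_fst d1]; exact hi) _ (h4 k hk h1) _ (h4 l hl h2) d3), ?_⟩
    rw [← h3]; group
  have QG : ∀ g, ∀ a ∈ insert m S, ∀ b ∈ insert m S, ∀ c ∈ insert m S, D a b c → Q g →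
      Q (g * L π P a b c) := by
    intro g a ha b hb c hc d hg
    rcases Finset.mem_insert.1 ha with rfl | ha'
    · exact QL g b (Finset.mem_of_mem_insert_of_ne hb d.1.symm) c
        (Finset.mem_of_mem_insert_of_ne hc d.2.1.symm) d.2.2 hg
    rcases Finset.mem_insert.1 hb with rfl | hb'
    · rw [H.L_rot d]
      exact QL g c (Finset.mem_of_mem_insert_of_ne hc d.2.2.symm) a ha' d.2.1.symm hg
    rcases Finset.mem_insert.1 hc with rfl | hc'
    · rw [H.L_rot d, H.L_rot d.rot]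
      exact QL g a ha' b hb' d.1 hg
    exact QA g _ hg (hLA a ha' b hb' c hc' d)
  change Q g
  induction hg using Subgroup.closure_induction_right with
  | one => exact Or.inl A.one_mem
  | mul_right x _ y hy hx =>
    rcases hy with hy | ⟨a, ha, b, hb, c, hc, d, rfl⟩
    · exact QA _ _ hx (hKA _ hy)
    · exact QG _ a ha b hb c hc d hx
  | mul_inv_cancel x _ y hy hx =>
    rcases hy with hy | ⟨a, ha, b, hb, c, hc, d, rfl⟩
    · exact QA _ _ hx (A.inv_mem (hKA _ hy))
    · rw [H.L_inv d]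
      exact QG _ a ha c hc b hb d.swp hx

theorem ker_le {K : Subgroup Γ} (hK : K ≤ π.ker)
    (hβ : ∀ i k a b, D i a b → D k a b → i ≠ k → β π P i k a b ∈ K) (S : Finset α) {g : Γ}
    (hg : g ∈ Subgroup.closure (gens π P K S)) (h1 : π g = 1) : g ∈ K := by
  induction S using Finset.induction_on with
  | empty =>
    refine (Subgroup.closure_le K).2 ?_ hg
    rintro y (hy | ⟨a, ha, -⟩)
    · exact hy
    · simp at ha
  | insert m S hm ih =>
    rcases H.step hK hβ hm hg with h | ⟨i, hi, j, hj, hij, h, hh, rfl⟩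
    · exact ih h
    exfalso
    have d : D m i j := ⟨fun h => hm (h ▸ hi), fun h => hm (h ▸ hj), hij⟩
    have h2 := congrArg (fun σ : Perm α => σ m) h1
    simp only [map_mul, Perm.mul_apply, (H.L_spec d).2, T_fst d, Perm.one_apply] at h2
    exact hm (h2 ▸ H.maps hK hh hi)

theorem exists_gen (K : Subgroup Γ) (g : Γ) :
    ∃ h ∈ Subgroup.closure (gens π P K Finset.univ), π h = π g := by
  have h1 : π g ∈ Subgroup.closure {σ : Perm α | σ.IsThreeCycle} := by
    rw [closure_three_cycles_eq_alternating]; exact H.even g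
  refine (Subgroup.closure_le ((Subgroup.closure (gens π P K Finset.univ)).map π)).2 ?_ h1
  intro σ hσ
  obtain ⟨a, b, c, d, rfl⟩ := exists_T hσ
  exact ⟨_, Subgroup.subset_closure (Or.inr ⟨a, by simp, b, by simp, c, by simp, d, rfl⟩),
    (H.L_spec d).2⟩

theorem commutator_le (K : Subgroup Γ) :
    commutator Γ ≤ Subgroup.closure (gens π P K Finset.univ) := by
  refine Subgroup.commutator_le.2 fun g _ g' _ => ?_
  obtain ⟨h, hh, e⟩ := H.exists_gen K g
  obtain ⟨h', hh', e'⟩ := H.exists_gen K g'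
  have c1 := H.cen (h⁻¹ * g) (by simp [e])
  have c2 := H.cen (h'⁻¹ * g') (by simp [e'])
  have : g * g' * g⁻¹ * g'⁻¹ = h * h' * h⁻¹ * h'⁻¹ := by
    calc _ = h * ((h⁻¹ * g) * g') * g⁻¹ * g'⁻¹ := by group
      _ = h * g' * h⁻¹ * g'⁻¹ := by rw [← c1]; group
      _ = h * h' * ((h'⁻¹ * g') * h⁻¹) * g'⁻¹ := by group
      _ = _ := by rw [← c2]; group
  rw [commutatorElement_def, this]
  exact Subgroup.mul_mem _ (Subgroup.mul_mem _ (Subgroup.mul_mem _ hh hh') (Subgroup.inv_mem _ hh))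
    (Subgroup.inv_mem _ hh')

/-- the part of the kernel inside the commutator subgroup has order at most two -/
theorem ker_comm {i k a b : α} (h : D i a b) (h' : D k a b) (hik : i ≠ k) {z : Γ} (hz : π z = 1)
    (hc : z ∈ commutator Γ) : z = 1 ∨ z = β π P i k a b := by
  have h1 : z ∈ Subgroup.zpowers (β π P i k a b) :=
    H.ker_le ((Subgroup.zpowers_le).2 (H.β_ker h h' hik))
      (fun _ _ _ _ g g' hik' => by rw [H.β_eq h h' hik g g' hik']; exact Subgroup.mem_zpowers _) _
      (H.commutator_le _ hc) hz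
  obtain ⟨n, rfl⟩ := h1
  have h2 : β π P i k a b ^ (2 : ℤ) = 1 := by rw [zpow_two, H.β_sq h h' hik]
  rcases Int.even_or_odd' n with ⟨m, rfl | rfl⟩
  · left; simp only [zpow_mul, h2, one_zpow]
  · right; simp only [zpow_add, zpow_mul, h2, one_zpow, one_mul, zpow_one]

end Cov

end Cfsg.Agent.H18.Dc
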