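import Cfsg.Agent.H18.Dc1
import Cfsg.Agent.H27.Schur4

/-! Central extensions of alternating groups: existence of canonical lifts; the multiplier bound. -/

set_option autoImplicit false
set_option linter.unusedSectionVars false

namespace Cfsg.Agent.H18.Dc

open Equiv Equiv.Perm

variable {α : Type} [Fintype α] [DecidableEq α] {Γ : Type*} [Group Γ]

theorem T_cube {a b c : α} (h : D a b c) : T a b c * T a b c * T a b c = 1 := by
  obtain ⟨h1, h2, h3⟩ := h
  ext x
  simp only [T, Perm.mul_apply, swap_apply_def, Perm.one_apply]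
  grind

/-- a central extension of the alternating group -/
structure Ce (π : Γ →* Perm α) : Prop where
  cen : ∀ z, π z = 1 → ∀ g, g * z = z * g
  surj : ∀ σ, sign σ = 1 → ∃ g, π g = σ
  even : ∀ g, sign (π g) = 1

namespace Ce

variable {π : Γ →* Perm α} (H : Ce π)
include H

theorem cube_mul {x z : Γ} (hz : π z = 1) : x * z * (x * z) * (x * z) = x * x * x * (z * z * z) := by
  have h := H.cen z hz x
  calc _ = x * (z * x) * (z * x) * z := by group
    _ = x * (x * z) * (x * z) * z := by rw [h]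
    _ = x * x * (z * x) * z * z := by group
    _ = x * x * (x * z) * z * z := by rw [h]
    _ = _ := by group

theorem cov_of_three [Finite Γ] (h3 : ∀ z, π z = 1 → z * z * z = 1 → z = 1) :
    Cov π fun x => x * x * x = 1 where
  cen := H.cen
  surj := H.surj
  even := H.even
  conj g x h := by
    calc _ = g * (x * x * x) * g⁻¹ := by group
      _ = 1 := by rw [h]; group
  inv x h := by
    calc _ = (x * x * x)⁻¹ := by group
      _ = 1 := by rw [h]; group
  cube x h := eq_inv_of_mul_eq_one_left h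
  ex a b c d := by
    obtain ⟨x, hx⟩ := H.surj _ (sign_T d)
    let f : π.ker → π.ker := fun z => z * z * z
    have hf : Function.Injective f := fun u v huv => by
      have h1 : (u : Γ) * u * u = v * v * v := congrArg Subtype.val huv
      have h2 := h3 (u * (v : Γ)⁻¹) (π.ker.mul_mem u.2 (π.ker.inv_mem v.2)) (by
        rw [H.cube_mul (π.ker.inv_mem v.2), h1]; group)
      exact Subtype.ext (mul_inv_eq_one.1 h2)
    obtain ⟨z, hz⟩ := Finite.injective_iff_surjective.1 hf
      ⟨(x * x * x)⁻¹, π.ker.inv_mem (by simp [MonoidHom.mem_ker, hx, T_cube d])⟩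
    have h1 : (z : Γ) * z * z = (x * x * x)⁻¹ := congrArg Subtype.val hz
    exact ⟨x * z, by rw [H.cube_mul z.2, h1]; group, by rw [map_mul, hx, z.2, mul_one]⟩
  uniq x y a b c _ h1 h2 h4 h5 := by
    have h6 : π (x⁻¹ * y) = 1 := by simp [h4, h5]
    have h7 := H.cube_mul (x := x) h6
    rw [mul_inv_cancel_left, h1, h2, one_mul] at h7
    exact inv_mul_eq_one.1 (h3 _ h6 h7.symm)

theorem comm_pow {g x : Γ} (h : π g * π x = π x * π g) :
    ∃ w, π w = 1 ∧ g * x = w * x * g :=
  ⟨g * x * g⁻¹ * x⁻¹, by simp [h], by group⟩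

theorem comm_of_small (h8 : 8 ≤ Fintype.card α) {a b c : α} (d : D a b c) {x g : Γ}
    (hx : π x = T a b c) (hg : (π g).support.card ≤ 3) (ha : π g a = a) (hb : π g b = b)
    (hc : π g c = c) : g * x = x * g := by
  obtain ⟨u, v, hu, hv, huv⟩ : ∃ u v, u ∈ Finset.univ \ ({a, b, c} ∪ (π g).support) ∧
      v ∈ Finset.univ \ ({a, b, c} ∪ (π g).support) ∧ u ≠ v := by
    rw [← Finset.one_lt_card_iff, Finset.card_univ_sdiff]
    have h1 := Finset.card_union_le ({a, b, c} : Finset α) (π g).support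
    have h2 : ({a, b, c} : Finset α).card ≤ 3 := Finset.card_le_three
    omega
  simp only [Finset.mem_sdiff, Finset.mem_univ, Finset.mem_union, Finset.mem_insert,
    Finset.mem_singleton, mem_support, true_and, not_or, not_not] at hu hv
  obtain ⟨t, ht⟩ := H.surj (swap b c * swap u v) (by simp [sign_swap d.2.2, sign_swap huv])
  obtain ⟨w, hw, e⟩ := H.comm_pow (g := g) (x := x) (by
    rw [hx, ← mul_inv_eq_iff_eq_mul, T_conj, ha, hb, hc])
  have cw := H.cen w hw
  have e1 : g * x * g⁻¹ = w * x := by rw [e]; group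
  -- cube
  have h3 : w * w * w = 1 := by
    have h1 := H.cen (x * x * x) (by simp [hx, T_cube d]) g
    have h2 : g * (x * x * x) * g⁻¹ = x * w * (x * w) * (x * w) := by
      rw [cw x, ← e1]; group
    rw [H.cube_mul hw, h1] at h2
    simpa using h2.symm
  -- inversion
  have h4 : π (t * x * t⁻¹ * x) = 1 := by
    rw [map_mul, map_mul, map_mul, map_inv, hx, T_conj, ht]
    simp only [Perm.mul_apply, swap_apply_of_ne_of_ne (Ne.symm hu.1.1) (Ne.symm hv.1.1),
      swap_apply_of_ne_of_ne (Ne.symm hu.1.2.1) (Ne.symm hv.1.2.1),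
      swap_apply_of_ne_of_ne (Ne.symm hu.1.2.2) (Ne.symm hv.1.2.2), swap_apply_left,
      swap_apply_right, swap_apply_of_ne_of_ne d.1 d.2.1]
    rw [← T_inv d, inv_mul_cancel]
  have h5 : π (t⁻¹ * g * t * g⁻¹) = 1 := by
    have : π g * π t * (π g)⁻¹ = π t := by
      rw [ht]
      calc _ = (π g * swap b c * (π g)⁻¹) * (π g * swap u v * (π g)⁻¹) := by group
        _ = _ := by rw [← swap_apply_apply, ← swap_apply_apply, hb, hc, hu.2, hv.2]
    rw [map_mul, map_mul, map_mul, map_inv, map_inv, mul_assoc, mul_assoc, ← mul_assoc (π g), this,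
      inv_mul_cancel]
  have c4 := H.cen _ h4 g
  have c5 := H.cen _ h5
  -- conjugate `t x t⁻¹ x` by `g`
  have h6 : g * t * g⁻¹ = t * (t⁻¹ * g * t * g⁻¹) := by group
  have h7 : t * x * t⁻¹ * x = w * w * (t * x * t⁻¹ * x) := by
    calc _ = g * (t * x * t⁻¹ * x) * g⁻¹ := by rw [c4]; group
      _ = (g * t * g⁻¹) * (g * x * g⁻¹) * (g * t * g⁻¹)⁻¹ * (g * x * g⁻¹) := by group
      _ = t * ((t⁻¹ * g * t * g⁻¹) * (w * x)) * (t⁻¹ * g * t * g⁻¹)⁻¹ * t⁻¹ * (w * x) := by
        rw [h6, e1]; group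
      _ = t * (w * x) * t⁻¹ * (w * x) := by rw [← c5]; group
      _ = (t * w) * (x * t⁻¹ * w) * x := by group
      _ = w * ((t * x * t⁻¹) * w) * x := by rw [cw t]; group
      _ = _ := by rw [cw]; group
  have h8' : w * w = 1 := by simpa using h7.symm
  rw [h8', one_mul] at h3
  rw [e, h3, one_mul]

theorem comm_of_fix (h8 : 8 ≤ Fintype.card α) {a b c : α} (d : D a b c) {x g : Γ}
    (hx : π x = T a b c) (ha : π g a = a) (hb : π g b = b) (hc : π g c = c) : g * x = x * g := by
  let p : α → Prop := fun y => y ≠ a ∧ y ≠ b ∧ y ≠ c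
  have h1 : ∀ y, p (π g y) ↔ p y := fun y => by
    simp only [p]
    conv_lhs => rw [← ha, ← hb, ← hc]
    simp
  have h2 : ∀ y, π g y ≠ y → p y := fun y hy => by
    refine ⟨?_, ?_, ?_⟩ <;> rintro rfl <;> contradiction
  have h3 : (π g).subtypePerm h1 ∈ Subgroup.closure {σ : Perm {y // p y} | σ.IsThreeCycle} := by
    rw [closure_three_cycles_eq_alternating, mem_alternatingGroup, sign_subtypePerm _ _ h2, H.even]
  have key : ∀ τ ∈ Subgroup.closure {σ : Perm {y // p y} | σ.IsThreeCycle}, ∃ u, π u = ofSubtype τ ∧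
      u * x = x * u := by
    intro τ hτ
    induction hτ using Subgroup.closure_induction with
    | mem τ h =>
      obtain ⟨u, hu⟩ := H.surj (ofSubtype τ) (by rw [sign_ofSubtype, h.sign])
      refine ⟨u, hu, H.comm_of_small h8 d hx ?_ ?_ ?_ ?_⟩
      · rw [hu, support_ofSubtype, Finset.card_map, h.card_support]
      all_goals rw [hu, ofSubtype_apply_of_not_mem]; simp [p]
    | one => exact ⟨1, by simp, by simp⟩
    | mul y z _ _ h4 h5 =>
      obtain ⟨u, hu, e⟩ := h4
      obtain ⟨v, hv, e'⟩ := h5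
      exact ⟨u * v, by simp [hu, hv], by rw [mul_assoc, e', ← mul_assoc, e, mul_assoc]⟩
    | inv y _ h4 =>
      obtain ⟨u, hu, e⟩ := h4
      exact ⟨u⁻¹, by simp [hu], by rw [inv_mul_eq_iff_eq_mul, ← mul_assoc, e]; group⟩
  obtain ⟨u, hu, e⟩ := key _ h3
  rw [ofSubtype_subtypePerm h1 h2] at hu
  have h4 := H.cen (u⁻¹ * g) (by simp [hu]) x
  calc _ = u * (u⁻¹ * g * x) := by group
    _ = u * x * (u⁻¹ * g) := by rw [← h4]; group
    _ = _ := by rw [e]; group

theorem comm_of_comm (h8 : 8 ≤ Fintype.card α) {a b c : α} (d : D a b c) {x g : Γ}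
    (hx : π x = T a b c) (h : π g * T a b c = T a b c * π g) : g * x = x * g := by
  have key : ∀ u : Γ, π u * T a b c = T a b c * π u → π u a = a → u * x = x * u := by
    intro u hu ha
    have hb : π u b = b := by
      have := congrArg (fun σ : Perm α => σ a) hu
      simpa [T_fst d, ha] using this
    have hc : π u c = c := by
      have := congrArg (fun σ : Perm α => σ b) hu
      simpa [T_snd d, hb] using this
    exact H.comm_of_fix h8 d hx ha hb hc
  have h1 : π g b = T a b c (π g a) := by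
    have := congrArg (fun σ : Perm α => σ a) h
    simpa [T_fst d] using this
  by_cases e1 : π g a = a
  · exact key g h e1
  by_cases e2 : π g a = c
  · have := key (x * g) (by rw [map_mul, hx, mul_assoc, h]) (by simp [hx, e2, T_thd])
    rw [mul_assoc] at this
    exact mul_left_cancel this
  by_cases e3 : π g a = b
  · have := key (x * (x * g)) (by rw [map_mul, map_mul, hx, mul_assoc, mul_assoc, h])
      (by simp [hx, e3, T_snd d, T_thd])
    rw [mul_assoc, mul_assoc] at this
    exact mul_left_cancel (mul_left_cancel this)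
  rw [T_other e1 e3 e2] at h1
  exact absurd ((π g).injective h1) d.1.symm

theorem cov_of_eight (h8 : 8 ≤ Fintype.card α) :
    Cov π fun x => x * x * x = 1 ∧ IsConj x x⁻¹ where
  cen := H.cen
  surj := H.surj
  even := H.even
  conj g x h := by
    constructor
    · calc _ = g * (x * x * x) * g⁻¹ := by group
        _ = 1 := by rw [h.1]; group
    · obtain ⟨t, ht⟩ := isConj_iff.1 h.2
      refine isConj_iff.2 ⟨g * t * g⁻¹, ?_⟩
      calc _ = g * (t * x * t⁻¹) * g⁻¹ := by group
        _ = _ := by rw [ht]; group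
  inv x h := by
    constructor
    · calc _ = (x * x * x)⁻¹ := by group
        _ = 1 := by rw [h.1]; group
    · rw [inv_inv]; exact h.2.symm
  cube x h := eq_inv_of_mul_eq_one_left h.1
  ex a b c d := by
    obtain ⟨x, hx⟩ := H.surj _ (sign_T d)
    obtain ⟨u, v, hu, hv, huv⟩ : ∃ u v, u ∈ Finset.univ \ ({a, b, c} : Finset α) ∧
        v ∈ Finset.univ \ ({a, b, c} : Finset α) ∧ u ≠ v := by
      rw [← Finset.one_lt_card_iff, Finset.card_univ_sdiff]
      have h2 : ({a, b, c} : Finset α).card ≤ 3 := Finset.card_le_three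
      omega
    simp only [Finset.mem_sdiff, Finset.mem_univ, Finset.mem_insert,
      Finset.mem_singleton, true_and, not_or] at hu hv
    obtain ⟨t, ht⟩ := H.surj (swap b c * swap u v) (by simp [sign_swap d.2.2, sign_swap huv])
    have h4 : π (t * x * t⁻¹ * x) = 1 := by
      rw [map_mul, map_mul, map_mul, map_inv, hx, T_conj, ht]
      simp only [Perm.mul_apply, swap_apply_of_ne_of_ne (Ne.symm hu.1) (Ne.symm hv.1),
        swap_apply_of_ne_of_ne (Ne.symm hu.2.1) (Ne.symm hv.2.1),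
        swap_apply_of_ne_of_ne (Ne.symm hu.2.2) (Ne.symm hv.2.2), swap_apply_left,
        swap_apply_right, swap_apply_of_ne_of_ne d.1 d.2.1]
      rw [← T_inv d, inv_mul_cancel]
    have h5 : π (x * x * x) = 1 := by simp [hx, T_cube d]
    obtain ⟨w, hw⟩ : ∃ w, w = t * x * t⁻¹ * x := ⟨_, rfl⟩
    obtain ⟨s, hs⟩ : ∃ s, s = x * x * x := ⟨_, rfl⟩
    rw [← hw] at h4
    rw [← hs] at h5
    have e1 : t * x * t⁻¹ = x⁻¹ * w := by rw [H.cen w h4, hw]; group
    have e2 : s * s = w * w * w := by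
      have h6 : t * s * t⁻¹ = x⁻¹ * w * (x⁻¹ * w) * (x⁻¹ * w) := by rw [← e1, hs]; group
      rw [H.cube_mul h4, H.cen s h5] at h6
      calc _ = s * (s * t * t⁻¹) := by group
        _ = _ := by rw [h6, hs]; group
    have h7 : π (w * s⁻¹) = 1 := by simp [h4, h5]
    have c1 := H.cen w h4 s⁻¹
    have e3 : w * (w * s⁻¹) * (w * s⁻¹) = 1 := by
      calc _ = w * w * (s⁻¹ * w) * s⁻¹ := by group
        _ = w * w * w * (s * s)⁻¹ := by rw [c1]; group
        _ = 1 := by rw [e2]; group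
    refine ⟨x * (w * s⁻¹), ⟨?_, isConj_iff.2 ⟨t, ?_⟩⟩, by rw [map_mul, h7, hx, mul_one]⟩
    · rw [H.cube_mul h7, ← hs]
      calc _ = s * (w * s⁻¹) * (w * s⁻¹ * (w * s⁻¹)) := by group
        _ = w * (w * s⁻¹) * (w * s⁻¹) := by rw [H.cen _ h7 s]; group
        _ = 1 := e3
    · rw [← mul_assoc, mul_assoc (t * x), ← H.cen _ h7, ← mul_assoc, e1,
        eq_inv_iff_mul_eq_one, ← mul_assoc, mul_assoc _ _ x, ← H.cen _ h7 x]
      calc _ = x⁻¹ * (w * x) * (w * s⁻¹) * (w * s⁻¹) := by group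
        _ = w * (w * s⁻¹) * (w * s⁻¹) := by rw [← H.cen w h4 x]; group
        _ = 1 := e3
  uniq x y a b c d h1 h2 h4 h5 := by
    have h6 : π (x⁻¹ * y) = 1 := by simp [h4, h5]
    obtain ⟨z, hz⟩ : ∃ z, z = x⁻¹ * y := ⟨_, rfl⟩
    rw [← hz] at h6
    obtain rfl : y = x * z := by rw [hz]; group
    have h7 := H.cube_mul (x := x) h6
    rw [h1.1, h2.1, one_mul] at h7
    obtain ⟨g, hg⟩ := isConj_iff.1 h1.2
    obtain ⟨k, hk⟩ := isConj_iff.1 h2.2
    have e1 : π g * T a b c * (π g)⁻¹ = π k * T a b c * (π k)⁻¹ := by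
      have t1 := congrArg π hg
      have t2 := congrArg π hk
      simp only [map_mul, map_inv, h4, h6, mul_one] at t1 t2
      rw [t1, t2]
    have e2 := H.comm_of_comm h8 d h4 (g := g⁻¹ * k) (by
      rw [map_mul, map_inv]
      calc _ = (π g)⁻¹ * (π k * T a b c * (π k)⁻¹) * π k := by group
        _ = _ := by rw [← e1]; group)
    have e3 : k * x * k⁻¹ = x⁻¹ := by
      calc _ = g * (g⁻¹ * k * x) * k⁻¹ := by group
        _ = g * x * g⁻¹ := by rw [e2]; group
        _ = _ := hg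
    have e4 : z * z = 1 := by
      have t1 : x⁻¹ * z = (x * z)⁻¹ := by
        rw [← hk, ← e3, mul_assoc _ k⁻¹, H.cen z h6]; group
      calc _ = x * (x⁻¹ * z) * z := by group
        _ = (x * z⁻¹) * x⁻¹ * z := by rw [t1]; group
        _ = 1 := by rw [H.cen z⁻¹ (by simp [h6])]; group
    rw [e4, one_mul] at h7
    rw [← h7, mul_one]

end Ce

theorem ce_of_quot {Z : Subgroup Γ} [Z.Normal] (hZ : Z ≤ Subgroup.center Γ)
    (e : Γ ⧸ Z ≃* alternatingGroup α) : ∃ π : Γ →* Perm α, Ce π ∧ ∀ z, π z = 1 ↔ z ∈ Z := by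
  have key : ∀ z, ((alternatingGroup α).subtype.comp
      (e.toMonoidHom.comp (QuotientGroup.mk' Z))) z = 1 ↔ z ∈ Z := fun z => by simp
  refine ⟨_, ⟨fun z hz g => Subgroup.mem_center_iff.1 (hZ ((key z).1 hz)) g, fun σ hσ => ?_,
    fun g => (e (g : Γ ⧸ Z)).2⟩, key⟩
  obtain ⟨x, hx⟩ := e.surjective ⟨σ, hσ⟩
  obtain ⟨g, rfl⟩ := QuotientGroup.mk_surjective x
  exact ⟨g, congrArg Subtype.val hx⟩

theorem exists_four (h4 : 4 ≤ Fintype.card α) : ∃ i k a b : α, D i a b ∧ D k a b ∧ i ≠ k := by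
  obtain ⟨f⟩ : Nonempty (Fin 4 ↪ α) := Function.Embedding.nonempty_of_card_le (by simpa using h4)
  exact ⟨f 0, f 1, f 2, f 3, ⟨by simp, by simp, by simp⟩, ⟨by simp, by simp, by simp⟩, by simp⟩

theorem Ce.no_three [Finite Γ] {π : Γ →* Perm α} (H : Ce π)
    (hn : Fintype.card α = 4 ∨ Fintype.card α = 5) {z : Γ} (hz : π z = 1) (hc : z ∈ commutator Γ)
    (h3 : z * z * z = 1) : z = 1 := by
  obtain ⟨a, -, b, c, d, -⟩ := exists_four (α := α) (by omega)
  obtain ⟨x, hx⟩ := H.surj _ (sign_T d)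
  let π' : Γ →* alternatingGroup α := π.codRestrict _ H.even
  have hs : Function.Surjective π' := fun σ => by
    obtain ⟨g, hg⟩ := H.surj σ σ.2
    exact ⟨g, Subtype.ext hg⟩
  let K := (Subgroup.zpowers (π' x)).comap π'
  have h1 := H27.central_pow_index_mem_commutator K
    (Subgroup.mem_center_iff.2 (H.cen z hz)) hc
  have h2 : ⁅K, K⁆ = ⊥ := by
    have key : ∀ g ∈ K, ∃ (n : ℤ) (w : Γ), π w = 1 ∧ g = x ^ n * w := by
      rintro g ⟨n, hn⟩
      have : π x ^ n = π g := congrArg Subtype.val hn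
      exact ⟨n, (x ^ n)⁻¹ * g, by simp [this], by group⟩
    rw [eq_bot_iff, Subgroup.commutator_le]
    intro g hg k hk
    obtain ⟨n, w, hw, rfl⟩ := key g hg
    obtain ⟨m, v, hv, rfl⟩ := key k hk
    rw [Subgroup.mem_bot, commutatorElement_eq_one_iff_mul_comm]
    calc _ = x ^ n * (w * (x ^ m * v)) := by group
      _ = x ^ m * (x ^ n * v) * w := by rw [← H.cen w hw]; group
      _ = _ := by rw [H.cen v hv]; group
  rw [h2, Subgroup.mem_bot, Subgroup.index_comap_of_surjective _ hs] at h1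
  have h4 := (Subgroup.zpowers (π' x)).index_mul_card
  haveI := Fact.mk Nat.prime_three
  have h5 : orderOf (π' x) = 3 := by
    refine orderOf_eq_prime (Subtype.ext ?_) fun h => ?_
    · change π x ^ 3 = 1
      simpa [hx, pow_succ] using T_cube d
    · have h6 : T a b c = 1 := hx ▸ congrArg Subtype.val h
      have := T_fst d
      rw [h6] at this
      exact d.1 this
  haveI : Nontrivial α := Fintype.one_lt_card_iff_nontrivial.1 (by omega)
  have h6 := two_mul_nat_card_alternatingGroup (α := α)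
  rw [Nat.card_eq_fintype_card (α := Perm α), Fintype.card_perm, ← h4, Nat.card_zpowers, h5] at h6
  have h7 : z ^ 3 = 1 := by simpa [pow_succ] using h3
  have h8 : (Subgroup.zpowers (π' x)).index.gcd 3 = 1 := by
    rcases hn with h | h <;> rw [h] at h6 <;> simp only [Nat.factorial] at h6
    · rw [show (Subgroup.zpowers (π' x)).index = 4 by omega]; rfl
    · rw [show (Subgroup.zpowers (π' x)).index = 20 by omega]; rfl
  simpa [h8] using pow_gcd_eq_one.2 ⟨h1, h7⟩

theorem mult_le_two [Finite Γ] (h4 : 4 ≤ Fintype.card α) (h6 : Fintype.card α ≠ 6)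
    (h7 : Fintype.card α ≠ 7) (Z : Subgroup Γ) [Z.Normal] (hZc : Z ≤ Subgroup.center Γ)
    (hZd : Z ≤ commutator Γ) (e : Γ ⧸ Z ≃* alternatingGroup α) : Nat.card Z ≤ 2 := by
  obtain ⟨π, H, hπ⟩ := ce_of_quot hZc e
  obtain ⟨P, C⟩ : ∃ P, Cov π P := by
    by_cases h8 : 8 ≤ Fintype.card α
    · exact ⟨_, H.cov_of_eight h8⟩
    · exact ⟨_, H.cov_of_three fun z hz => H.no_three (by omega) hz (hZd ((hπ z).1 hz))⟩
  obtain ⟨i, k, a, b, d, d', hik⟩ := exists_four h4
  have h1 : (Z : Set Γ) ⊆ {1, β π P i k a b} := fun z hz =>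
    C.ker_comm d d' hik ((hπ z).2 hz) (hZd hz)
  exact (Set.ncard_le_ncard h1).trans (by classical simpa using Set.ncard_insert_le 1 {β π P i k a b})

end Cfsg.Agent.H18.Dc
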