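import Mathlib
import Cfsg.Agent.H28.FM2

/-! The field with 25 elements and models of unitary groups over it (variant of `H28.FM` with
five-bit digits). -/

set_option autoImplicit false
set_option linter.all false

namespace Cfsg.Agent.H18.F25
open Cfsg.Agent.H25 Matrix

/-- coded operations of a small field -/
structure FT where
  q : ℕ
  m1 : ℕ
  ad : ℕ → ℕ → ℕ
  ml : ℕ → ℕ → ℕ

/-- the tables describe the field -/
structure FM {F : Type*} [Field F] (K : FT) (φ : ℕ → F) : Prop where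
  add : ∀ a b, φ (K.ad a b) = φ a + φ b
  mul : ∀ a b, φ (K.ml a b) = φ a * φ b
  zero : φ 0 = 0
  one : φ 1 = 1
  neg : φ K.m1 = -1
  inj : ∀ a < K.q, ∀ b < K.q, φ a = φ b → a = b
  surj : ∀ x, ∃ a < K.q, φ a = x
  lt : ∀ a b, K.ml a b < K.q

noncomputable def ad25 (a b : ℕ) : ℕ :=
  Nat.add (Nat.mod (Nat.add a b) 5) (Nat.mul 5 (Nat.mod (Nat.add (Nat.div a 5) (Nat.div b 5)) 5))

noncomputable def ml25 (a b : ℕ) : ℕ :=
  force a fun a => force b fun b => force (Nat.div a 5) fun c => force (Nat.div b 5) fun d =>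
    Nat.add (Nat.mod (Nat.add (Nat.mul a b) (Nat.mul 2 (Nat.mul c d))) 5)
      (Nat.mul 5 (Nat.mod (Nat.add (Nat.mul a d) (Nat.mul c b)) 5))

theorem ad25_eq (a b : ℕ) : ad25 a b = (a + b) % 5 + 5 * ((a / 5 + b / 5) % 5) := rfl
theorem ml25_eq (a b : ℕ) : ml25 a b =
    (a * b + 2 * (a / 5 * (b / 5))) % 5 + 5 * ((a * (b / 5) + a / 5 * b) % 5) := by
  simp only [ml25, force_eq]; rfl

noncomputable def K25 : FT := ⟨25, 4, ad25, ml25⟩

theorem fm25 {F : Type*} [Field F] [Fintype F] (hF : Fintype.card F = 25) : ∃ φ : ℕ → F, FM K25 φ := by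
  have h5 : ((5 : ℕ) : F) = 0 := H28.cast_eq_zero_of_card (p := 5) (k := 2) hF
  have h5' : (5 : F) = 0 := by simpa using h5
  haveI : CharP F 5 := (CharP.charP_iff_prime_eq_zero (by norm_num)).2 h5
  obtain ⟨y, hy⟩ : IsSquare (2 : F) := FiniteField.isSquare_two_iff.2 (by rw [hF]; norm_num)
  have hm : ∀ x : ℕ, ((x % 5 : ℕ) : F) = x := fun x => by
    conv_rhs => rw [← Nat.div_add_mod x 5]
    push_cast; rw [h5']; ring
  have hd : ∀ x z : ℕ, (x % 5 + 5 * (z % 5)) / 5 = z % 5 := fun x z => by omega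
  have hinj : ∀ a : ℕ, a < 25 → ∀ b : ℕ, b < 25 →
      (a : F) + (a / 5 : ℕ) * y = b + (b / 5 : ℕ) * y → a = b := by
    intro a ha b hb e
    have e2 : ((((a : ℤ) - b) ^ 2 - 2 * (((a / 5 : ℕ) : ℤ) - (b / 5 : ℕ)) ^ 2 : ℤ) : F) = 0 := by
      generalize a / 5 = c at e ⊢
      generalize b / 5 = d at e ⊢
      push_cast
      linear_combination ((a : F) - b - (c - d) * y) * e - ((c : F) - d) ^ 2 * hy
    rw [CharP.intCast_eq_zero_iff F 5] at e2
    clear e
    revert e2
    revert a b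
    decide +kernel
  refine ⟨fun a => (a : F) + (a / 5 : ℕ) * y, fun a b => ?_, fun a b => ?_, by simp, by simp, ?_, hinj,
    fun x => ?_, fun a b => ?_⟩
  · show ((ad25 a b : ℕ) : F) + (ad25 a b / 5 : ℕ) * y = _
    rw [ad25_eq, hd]
    generalize a / 5 = c
    generalize b / 5 = d
    rw [Nat.cast_add, Nat.cast_mul, h5, hm, hm]
    push_cast; ring
  · show ((ml25 a b : ℕ) : F) + (ml25 a b / 5 : ℕ) * y = _
    rw [ml25_eq, hd]
    generalize a / 5 = c
    generalize b / 5 = d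
    rw [Nat.cast_add, Nat.cast_mul, h5, hm, hm]
    push_cast; linear_combination (c : F) * d * hy
  · show ((4 : ℕ) : F) + (4 / 5 : ℕ) * y = _
    norm_num; linear_combination h5'
  · have : Function.Bijective fun a : Fin 25 => ((a : ℕ) : F) + ((a : ℕ) / 5 : ℕ) * y := by
      rw [Fintype.bijective_iff_injective_and_card]
      exact ⟨fun a b e => Fin.ext (hinj _ a.2 _ b.2 e), by simp [hF]⟩
    obtain ⟨a, ha⟩ := this.2 x
    exact ⟨a, a.2, ha⟩
  · show ml25 a b < 25
    rw [ml25_eq]; omega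

/-- a digit -/
noncomputable def d4 (m j : ℕ) : ℕ := Nat.land (Nat.shiftRight m (Nat.mul j 5)) 31

/-- entries from packed rows -/
noncomputable def ent (rs : List ℕ) (i j : ℕ) : ℕ := d4 (gd 0 rs i) j

def trE (A : ℕ → ℕ → ℕ) (i j : ℕ) : ℕ := A j i

noncomputable def oneE (i j : ℕ) : ℕ := Bool.rec 0 1 (Nat.beq i j)

noncomputable def eqE (n : ℕ) (A B : ℕ → ℕ → ℕ) : Bool :=
  allLin (fun i => allLin (fun j => Nat.beq (A i j) (B i j)) 0 n) 0 n

noncomputable def minor (j : ℕ) (A : ℕ → ℕ → ℕ) (a b : ℕ) : ℕ :=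
  A (Nat.succ a) (Bool.rec (Nat.succ b) b (Nat.ble (Nat.succ b) j))

namespace FT
variable (K : FT)

noncomputable def sum (f : ℕ → ℕ) (n : ℕ) : ℕ :=
  Nat.rec (motive := fun _ => ℕ) 0 (fun j ih => K.ad ih (f j)) n

noncomputable def pw (a n : ℕ) : ℕ := Nat.rec (motive := fun _ => ℕ) 1 (fun _ ih => K.ml ih a) n

noncomputable def mulE (n : ℕ) (A B : ℕ → ℕ → ℕ) (i j : ℕ) : ℕ :=
  K.sum (fun l => K.ml (A i l) (B l j)) n

noncomputable def det (n : ℕ) : (ℕ → ℕ → ℕ) → ℕ :=
  Nat.rec (motive := fun _ => (ℕ → ℕ → ℕ) → ℕ) (fun _ => 1)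
    (fun m ih A => K.sum (fun j => force (A 0 j) fun c => Bool.rec
      (K.ml (K.ml (K.pw K.m1 j) c) (ih (minor j A))) 0 (Nat.beq c 0)) (Nat.succ m)) n

noncomputable def dot (n u v : ℕ) : ℕ := K.sum (fun l => K.ml (d4 u l) (d4 v l)) n

noncomputable def key (n c v : ℕ) : ℕ :=
  Nat.rec (motive := fun _ => ℕ) 0 (fun l ih => Nat.add (Nat.shiftLeft ih 5) (K.ml c (d4 v l))) n

noncomputable def amOK (n : ℕ) (T : PT) (Ms : List (List ℕ)) (vs : ℕ → ℕ) (lo hi : ℕ) : Bool :=
  allRange (fun i => force (vs i) fun vi => allLin (fun a => force (T.tgt i a) fun t =>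
    force (T.cv i a) fun c => band (Nat.ble (Nat.succ t) T.N) (band (Nat.ble 1 c)
      (band (Nat.ble (Nat.succ c) K.q) (force (vs t) fun vt =>
        allLin (fun l => Nat.beq (K.dot n (gd 0 (gd [] Ms a) l) vt) (K.ml c (d4 vi l))) 0 n)))) 0 T.G)
    lo hi

def AmP (n : ℕ) (T : PT) (Ms : List (List ℕ)) (vs : ℕ → ℕ) (i : ℕ) : Prop :=
  ∀ a < T.G, T.tgt i a < T.N ∧ ∃ c, 1 ≤ c ∧ c < K.q ∧
    ∀ l < n, K.dot n (gd 0 (gd [] Ms a) l) (vs (T.tgt i a)) = K.ml c (d4 (vs i) l)

theorem amOK_sound {n : ℕ} {T : PT} {Ms : List (List ℕ)} {vs : ℕ → ℕ} {lo hi : ℕ}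
    (h : K.amOK n T Ms vs lo hi = true) : ∀ i, lo ≤ i → i < hi → K.AmP n T Ms vs i := by
  intro i h1 h2 a ha
  have h3 := allRange_sound h i h1 h2
  rw [force_eq] at h3
  have h4 := allLin_sound h3 a (Nat.zero_le _) (by omega)
  simp only [force_eq, band_eq, Bool.and_eq_true, Nat.ble_eq] at h4
  exact ⟨h4.1, _, h4.2.1, h4.2.2.1, fun l hl =>
    Nat.eq_of_beq_eq_true (allLin_sound h4.2.2.2 l (Nat.zero_le _) (by omega))⟩

noncomputable def injOK (n : ℕ) (vs look : ℕ → ℕ) (N : ℕ) : Bool :=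
  allRange (fun j => force (vs j) fun v => band (Nat.ble 1 (K.key n 1 v))
    (allLin (fun c => Nat.beq (look (K.key n c v)) j) 1 (Nat.pred K.q))) 0 N

end FT

section
variable {F : Type*} [Field F] {K : FT} {φ : ℕ → F} {ι : Type*} [Fintype ι] [DecidableEq ι] {n : ℕ}

variable (φ) in
/-- decode a matrix -/
def matE (e : ι ≃ Fin n) (A : ℕ → ℕ → ℕ) : Matrix ι ι F := Matrix.of fun i j => φ (A (e i) (e j))

variable (φ) in
/-- decode a vector -/
noncomputable def vecE (e : ι ≃ Fin n) (v : ℕ) : ι → F := fun i => φ (d4 v (e i))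

namespace FM
variable (h : FM K φ)
include h

theorem sum (f : ℕ → ℕ) (n : ℕ) : φ (K.sum f n) = ∑ j ∈ Finset.range n, φ (f j) := by
  induction n with
  | zero => exact h.zero
  | succ n ih => rw [Finset.sum_range_succ, ← ih, ← h.add]; rfl

theorem pw (a n : ℕ) : φ (K.pw a n) = φ a ^ n := by
  induction n with
  | zero => rw [pow_zero]; exact h.one
  | succ n ih => rw [pow_succ, ← ih, ← h.mul]; rfl

omit [DecidableEq ι] in
theorem sum' (e : ι ≃ Fin n) (f : ℕ → ℕ) : φ (K.sum f n) = ∑ j, φ (f (e j)) := by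
  rw [h.sum, Finset.sum_range, ← e.sum_comp]

omit [DecidableEq ι] in
theorem mulE (e : ι ≃ Fin n) (A B : ℕ → ℕ → ℕ) :
    matE φ e (K.mulE n A B) = matE φ e A * matE φ e B := by
  ext i j
  simp only [matE, Matrix.mul_apply, Matrix.of_apply, FT.mulE, h.sum' e, h.mul]

omit [Fintype ι] in
theorem oneE (e : ι ≃ Fin n) : matE φ e oneE = 1 := by
  ext i j
  simp only [matE, Matrix.of_apply, F25.oneE, Matrix.one_apply]
  split_ifs with hij
  · rw [hij, Nat.beq_refl]; exact h.one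
  · cases hh : Nat.beq (e i) (e j) with
    | false => exact h.zero
    | true => exact absurd (e.injective (Fin.ext (Nat.eq_of_beq_eq_true hh))) hij

theorem det (n : ℕ) (A : ℕ → ℕ → ℕ) : (matE φ (Equiv.refl (Fin n)) A).det = φ (K.det n A) := by
  induction n generalizing A with
  | zero => rw [Matrix.det_fin_zero]; exact h.one.symm
  | succ n ih =>
    rw [Matrix.det_succ_row_zero]
    have e0 : K.det (n + 1) A = K.sum (fun j => force (A 0 j) fun c => Bool.rec
      (K.ml (K.ml (K.pw K.m1 j) c) (K.det n (minor j A))) 0 (Nat.beq c 0)) (n + 1) := rfl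
    rw [e0, h.sum' (Equiv.refl _)]
    refine Finset.sum_congr rfl fun j _ => ?_
    have e : (matE φ (Equiv.refl (Fin (n + 1))) A).submatrix Fin.succ j.succAbove =
        matE φ (Equiv.refl (Fin n)) (minor j A) := by
      ext a b
      simp only [matE, Matrix.submatrix_apply, Matrix.of_apply, Equiv.refl_apply, minor, Fin.val_succ]
      congr 2
      by_cases hb : (b : ℕ) < j
      · rw [show Nat.ble (Nat.succ b) j = true from Nat.ble_eq_true_of_le hb,
          Fin.succAbove_of_castSucc_lt _ _ hb]; rfl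
      · rw [show Nat.ble (Nat.succ b) j = false from by
          cases hh : Nat.ble (Nat.succ b) j with
          | false => rfl
          | true => exact absurd (Nat.le_of_ble_eq_true hh) hb,
          Fin.succAbove_of_le_castSucc _ _ (not_lt.1 hb)]; rfl
    rw [e, ih, force_eq]
    simp only [matE, Matrix.of_apply, Equiv.refl_apply, Fin.val_zero]
    cases hh : Nat.beq (A 0 j) 0 with
    | false => show _ = φ (K.ml _ _); rw [h.mul, h.mul, h.pw, h.neg]
    | true => rw [Nat.eq_of_beq_eq_true hh, h.zero]; simp [h.zero]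

theorem ne_zero {c : ℕ} (h1 : 1 ≤ c) (h2 : c < K.q) : φ c ≠ 0 := fun e => by
  have := h.inj c h2 0 (by omega) (by rw [e, h.zero])
  omega

theorem key_congr {c c' v v' : ℕ} (n : ℕ) (H : ∀ l < n, φ c * φ (d4 v l) = φ c' * φ (d4 v' l)) :
    K.key n c v = K.key n c' v' := by
  induction n with
  | zero => rfl
  | succ n ih =>
    show Nat.add (Nat.shiftLeft (K.key n c v) 5) _ = Nat.add (Nat.shiftLeft (K.key n c' v') 5) _
    rw [ih fun l hl => H l (by omega), h.inj _ (h.lt c (d4 v n)) _ (h.lt c' (d4 v' n))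
      (by rw [h.mul, h.mul]; exact H n (by omega))]

theorem key_zero (v n : ℕ) : K.key n 0 v = 0 := by
  induction n with
  | zero => rfl
  | succ n ih =>
    show Nat.add (Nat.shiftLeft (K.key n 0 v) 5) _ = 0
    have := h.lt 0 0
    rw [ih, h.inj _ (h.lt _ _) 0 (by omega) (by rw [h.mul, h.zero, zero_mul])]; rfl

end FM

omit [Field F] [Fintype ι] [DecidableEq ι] in
theorem eqE_sound (e : ι ≃ Fin n) {A B : ℕ → ℕ → ℕ} (H : eqE n A B = true) :
    matE φ e A = matE φ e B := by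
  ext i j
  simp only [matE, Matrix.of_apply]
  rw [Nat.eq_of_beq_eq_true (allLin_sound (allLin_sound H (e i) (Nat.zero_le _) (by simp)) (e j)
    (Nat.zero_le _) (by simp))]

omit [Field F] [Fintype ι] [DecidableEq ι] in
theorem trE_eq (e : ι ≃ Fin n) (A : ℕ → ℕ → ℕ) : matE φ e (trE A) = (matE φ e A)ᵀ := rfl

end

theorem exists_md {F : Type*} [Field F] {K : FT} {φ : ℕ → F} (h : FM K φ) {ι : Type*} [Fintype ι]
    [DecidableEq ι] {n : ℕ} (e : ι ≃ Fin n) {H G : Type*} [Group H] [Group G] (π : H →* G)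
    (hπ : Function.Surjective π) (ρ : H →* Matrix ι ι F) (hk : ∀ z, π z = 1 → ∃ c : F, ρ z = c • 1)
    {T : PT} {Ms : List (List ℕ)} {vs look : ℕ → ℕ} {N : ℕ}
    (hm : ∀ M ∈ Ms, ∃ x, ρ x = matE φ e (ent M)) (hl : T.G ≤ Ms.length)
    (h1 : ∀ i < T.N, K.AmP n T Ms vs i) (h2 : K.injOK n vs look T.N = true) (hc : Nat.card G = N) :
    ∃ (_ : MulAction G (Submodule F (ι → F))) (g : ℕ → G) (pt : ℕ → Submodule F (ι → F)),
      H28.Md T N g pt := by
  letI : MulAction H (Submodule F (ι → F)) :=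
    { smul := fun x L => L.map (Matrix.toLin' (ρ x))
      one_smul := fun L => by
        show L.map _ = L
        rw [map_one, Matrix.toLin'_one, Submodule.map_id]
      mul_smul := fun x y L => by
        show L.map _ = (L.map _).map _
        rw [map_mul, Matrix.toLin'_mul, Submodule.map_comp] }
  have hs : ∀ (x : H) (L : Submodule F (ι → F)), x • L = L.map (Matrix.toLin' (ρ x)) := fun _ _ => rfl
  have hker : π.ker ≤ (MulAction.toPermHom H (Submodule F (ι → F))).ker := by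
    intro z hz
    obtain ⟨c, hc⟩ := hk z hz
    refine Equiv.ext fun L => ?_
    show z • L = L
    by_cases h0 : c = 0
    · have : ∀ L : Submodule F (ι → F), L = ⊥ := fun L => by
        rw [← smul_inv_smul z L, hs z, hc, h0, zero_smul, map_zero, Submodule.map_zero]
      rw [this L, this (z • ⊥)]
    · rw [hs, hc, map_smul, Matrix.toLin'_one, Submodule.map_smul _ _ _ h0, Submodule.map_id]
  let τ := π.liftOfRightInverse (Function.surjInv hπ) (Function.rightInverse_surjInv hπ) ⟨_, hker⟩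
  have hτ : ∀ x, τ (π x) = MulAction.toPermHom H _ x := fun x =>
    π.liftOfRightInverse_comp_apply _ _ _ x
  have hx : ∀ a, ∃ x, (a < T.G → ρ x = matE φ e (ent (gd [] Ms a))) ∧ (T.G ≤ a → x = 1) := fun a => by
    by_cases ha : a < T.G
    · obtain ⟨x, hx⟩ := hm _ (gd_mem [] (show a < Ms.length by omega))
      exact ⟨x, fun _ => hx, fun h => by omega⟩
    · exact ⟨1, fun h => absurd h ha, fun _ => rfl⟩
  choose x hx1 hx2 using hx
  letI I : MulAction G (Submodule F (ι → F)) := MulAction.compHom _ τ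
  refine ⟨I, fun a => π (x a), fun i => Submodule.span F {vecE φ e (vs i)},
    fun i hi a ha => ?_, fun i hi j hj hij => ?_, hc, fun a ha => by rw [hx2 a ha, map_one]⟩
  · obtain ⟨b1, c, b2, b3, b4⟩ := h1 i hi a ha
    refine ⟨b1, ?_⟩
    show τ (π (x a))⁻¹ _ = _
    rw [← map_inv, hτ]
    show (x a)⁻¹ • Submodule.span F {vecE φ e (vs i)} = _
    rw [inv_smul_eq_iff, hs, Submodule.map_span, Set.image_singleton, hx1 a ha,
      ← Submodule.span_singleton_smul_eq (h.ne_zero b2 b3).isUnit]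
    congr 2
    funext l
    have := congrArg φ (b4 (e l) (e l).2)
    rw [h.mul, FT.dot, h.sum' e] at this
    simp only [Matrix.toLin'_apply, Matrix.mulVec, dotProduct, matE, vecE, ent, Matrix.of_apply,
      Pi.smul_apply, smul_eq_mul, ← this, h.mul]
  · have b1 := allRange_sound h2 i (Nat.zero_le _) hi
    have b2 := allRange_sound h2 j (Nat.zero_le _) hj
    simp only [force_eq, band_eq, Bool.and_eq_true, Nat.ble_eq] at b1 b2
    have b3 : vecE φ e (vs i) ∈ Submodule.span F {vecE φ e (vs j)} :=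
      (show Submodule.span F _ = _ from hij) ▸ Submodule.mem_span_singleton_self _
    obtain ⟨y, hy⟩ := Submodule.mem_span_singleton.1 b3
    obtain ⟨c, c1, rfl⟩ := h.surj y
    have b4 : K.key n 1 (vs i) = K.key n c (vs j) := h.key_congr n fun l hl => by
      have := congrFun hy (e.symm ⟨l, hl⟩)
      simp only [vecE, Pi.smul_apply, smul_eq_mul, Equiv.apply_symm_apply] at this
      rw [h.one, one_mul, this]
    have c2 : 1 ≤ c := by
      by_contra hc
      rw [show c = 0 by omega, h.key_zero] at b4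
      omega
    have d1 := allLin_sound b1.2 1 le_rfl (by show 1 < 1 + (K.q - 1); omega)
    have d2 := allLin_sound b2.2 c c2 (by show c < 1 + (K.q - 1); omega)
    rw [b4, Nat.eq_of_beq_eq_true d2] at d1
    exact (Nat.eq_of_beq_eq_true d1).symm

namespace FT
variable (K : FT)

noncomputable def slOK (n : ℕ) (M : List ℕ) : Bool := Nat.beq (K.det n (ent M)) 1

noncomputable def suOK (n q : ℕ) (M : List ℕ) : Bool :=
  band (K.slOK n M) (eqE n (K.mulE n (trE (ent M)) (fun i j => K.pw (ent M i j) q)) oneE)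

end FT

section
variable {F : Type*} [Field F] {K : FT} {φ : ℕ → F} (h : FM K φ)
  {T : PT} {Ms : List (List ℕ)} {vs look : ℕ → ℕ} {N : ℕ}
include h

theorem FM.det_one {n : ℕ} {M : List ℕ} (H : K.slOK n M = true) :
    (matE φ (Equiv.refl (Fin n)) (ent M)).det = 1 := by
  rw [h.det, Nat.eq_of_beq_eq_true H, h.one]

theorem md_su [Fintype F] {n q : ℕ} (hF : Fintype.card F = q ^ 2) (hn : 2 ≤ n)
    (hm : allL (K.suOK n q) Ms = true) (hl : T.G ≤ Ms.length)
    (h1 : ∀ i < T.N, K.AmP n T Ms vs i) (h2 : K.injOK n vs look T.N = true)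
    (hc : Nat.card (PSU n F q) = N) :
    ∃ (_ : MulAction (PSU n F q) (Submodule F (Fin n → F))) (g : ℕ → PSU n F q)
      (pt : ℕ → Submodule F (Fin n → F)), H28.Md T N g pt := by
  have hq := H11.qConj_conjQ hF
  refine exists_md h (Equiv.refl _) (QuotientGroup.mk' _) (QuotientGroup.mk'_surjective _)
    ((slToMat n F).comp (SU n F q).subtype) (fun z hz => ?_) (fun M hM => ?_) hl h1 h2 hc
  · obtain ⟨a, ha⟩ := ((hq.isHerm _).mem_center_sisom (H11.hermB_sep _) (by simpa using hn) _).1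
      ((H11.mem_center_equiv (H11.suEquiv hq n) z).1 ((QuotientGroup.eq_one_iff _).1 hz))
    refine ⟨a.1, (H11.coe_eq_iff_suEquiv hq z _).2 fun x => ?_⟩
    rw [ha, Matrix.smul_mulVec, Matrix.one_mulVec]; rfl
  · have H := allL_sound hm M hM
    simp only [FT.suOK, band_eq, Bool.and_eq_true] at H
    refine ⟨⟨⟨_, h.det_one H.1⟩, fun u v => ?_⟩, rfl⟩
    have e := eqE_sound (φ := φ) (Equiv.refl (Fin n)) H.2
    rw [h.mulE, h.oneE, trE_eq] at e
    have e2 : matE φ (Equiv.refl (Fin n)) (fun i j => K.pw (ent M i j) q) =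
        (matE φ (Equiv.refl (Fin n)) (ent M)).map (H11.conjQ hF) := by
      ext i j; exact h.pw _ _
    rw [e2] at e
    have e3 : ∀ u v, hermForm n F q u v = u ⬝ᵥ (H11.conjQ hF ∘ v) := fun _ _ => rfl
    show hermForm n F q (matE φ (Equiv.refl (Fin n)) (ent M) *ᵥ u)
      (matE φ (Equiv.refl (Fin n)) (ent M) *ᵥ v) = _
    have e4 : H11.conjQ hF ∘ (matE φ (Equiv.refl (Fin n)) (ent M) *ᵥ v) =
        (matE φ (Equiv.refl (Fin n)) (ent M)).map (H11.conjQ hF) *ᵥ (H11.conjQ hF ∘ v) :=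
      funext fun i => RingHom.map_mulVec _ _ _ i
    rw [e3, e3, e4, ← Matrix.vecMul_transpose, ← Matrix.dotProduct_mulVec, Matrix.mulVec_mulVec, e,
      Matrix.one_mulVec]

end

end Cfsg.Agent.H18.F25
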