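import Cfsg.Agent.GO.Fg0
import Cfsg.Agent.GO.Fg1

/-! From the presentation `FR` to the multiplication table `Rp`. -/

set_option autoImplicit false

namespace Cfsg.Agent.GO.Fg

/-- code of `f ^ i y ^ j g ^ p x ^ q` -/
def r18cd (i j p q : ℕ) : ℕ := i % 8 + 8 * (j % 2) + 16 * p + 32 * q

/-- the consistent parameters -/
def r18L : List ℕ := [0, 10, 2, 5, 7, 8, 13, 15, 16, 18, 21, 23, 24, 26, 29, 31]

theorem r18_d1 : ∀ n ∈ r18L, ∀ i < 8, ∀ j < 2, ∀ p < 2, ∀ q < 2,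
    mu n 1 (r18cd i j p q) = r18cd (i + 1) j p q ∧
    mu n 8 (r18cd i j p q) = r18cd (5 * i) (j + 1) p q ∧
    mu n 16 (r18cd i j p q) = r18cd (i + 2 * (i % 2) + 2 * (n / 4 % 4) * p) (i + j + p) (1 - p) q ∧
    mu n 32 (r18cd i j p q) = r18cd (7 * i + 2 * (n % 4) * p + 4 * (n / 16) * q) (j + p) p (1 - q) := by
  decide +kernel

theorem r18_d2 : ∀ n ∈ r18L, (∀ b < 64, mu n 0 b = b) ∧ ∀ a < 64, a = 0 ∨ ∃ s ∈ [1, 8, 16, 32], s ≤ a ∧
    mu n s (a - s) = a ∧ ∀ b < 64, mu n a b = mu n s (mu n (a - s) b) := by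
  decide +kernel

theorem r18_d3 : ∀ n ∈ r18L, ∀ b < 64, ∃ c < 64, mu n b c = 0 ∧ ∀ a < 64, mu n a c = 0 → a = b := by
  decide +kernel

theorem r18_d4 : ∀ n ∈ r18L, ∀ c < 64, c = 0 ∨ c = 4 ∨ ∃ s ∈ [1, 8, 16, 32], ∃ d < 16,
    mu n d (mu n s c) = mu n c s ∧ (d = 4 ∨ ∃ r ∈ [1, 32], mu n 4 (mu n r d) = mu n d r) := by
  decide +kernel

theorem r18_d5 : ∀ a < 2, ∀ k < 4, ∀ l < 4, (k + l) % 2 = 0 → 16 * a + 4 * k + l ∈ r18L := by
  intro a ha k hk l hl
  interval_cases a <;> interval_cases k <;> interval_cases l <;> decide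

section
variable {G : Type*} [Group G] {a k l : ℕ} {f y g x : G}

theorem r18_f (h : FR a k l f y g x) {i j : ℕ} (e : i % 8 = j % 8) : f ^ i = f ^ j := by
  rw [pow_eq_pow_mod i h.f8, e, ← pow_eq_pow_mod j h.f8]

theorem r18_y (h : FR a k l f y g x) {i j : ℕ} (e : i % 2 = j % 2) : y ^ i = y ^ j := by
  have : y ^ 2 = 1 := by rw [pow_two, h.yy]
  rw [pow_eq_pow_mod i this, e, ← pow_eq_pow_mod j this]

theorem r18_sc {s t u : G} (e : s * t = u * s) (i : ℕ) : s * t ^ i = u ^ i * s :=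
  (SemiconjBy.pow_right e i : _)

theorem r18_yf (h : FR a k l f y g x) (i : ℕ) : y * f ^ i = f ^ (5 * i) * y := by
  rw [r18_sc h.yf, ← pow_mul]

theorem r18_yf2 (h : FR a k l f y g x) (i : ℕ) : Commute y (f ^ (2 * i)) := by
  show y * f ^ (2 * i) = _
  rw [r18_yf h, r18_f h (show 5 * (2 * i) % 8 = 2 * i % 8 by omega)]

theorem r18_xf (h : FR a k l f y g x) (i : ℕ) : x * f ^ i = f ^ (7 * i) * x := by
  rw [r18_sc h.xf, ← pow_mul]

theorem r18_gf (h : FR a k l f y g x) (i : ℕ) : g * f ^ i = f ^ (i + 2 * (i % 2)) * y ^ i * g := by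
  rw [r18_sc h.gf]
  congr 1
  have h2 : (f ^ 3 * y) ^ 2 = f ^ 2 := by
    rw [pow_two, mul_assoc, ← mul_assoc y, r18_yf h, mul_assoc, h.yy, mul_one, ← pow_add]
    exact r18_f h rfl
  rcases Nat.even_or_odd' i with ⟨m, rfl | rfl⟩
  · rw [pow_mul, h2, ← pow_mul, r18_y h (show 2 * m % 2 = 0 % 2 by omega), pow_zero, mul_one]
    exact r18_f h (by omega)
  · rw [pow_succ, pow_mul, h2, ← pow_mul, r18_y h (show (2 * m + 1) % 2 = 1 % 2 by omega), pow_one, ← mul_assoc,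
      ← pow_add]
    congr 1
    exact r18_f h (by omega)

theorem r18_Ly (h : FR a k l f y g x) (i j : ℕ) (z : G) :
    y * (f ^ i * y ^ j * z) = f ^ (5 * i) * y ^ (j + 1) * z := by
  rw [← mul_assoc, ← mul_assoc, r18_yf h, pow_succ', mul_assoc _ y]

theorem r18_Lg (h : FR a k l f y g x) (i j : ℕ) (z : G) :
    g * (f ^ i * y ^ j * z) = f ^ (i + 2 * (i % 2)) * y ^ (i + j) * (g * z) := by
  rw [← mul_assoc, ← mul_assoc, r18_gf h, mul_assoc _ g, r18_sc h.gy, pow_add y]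
  simp only [mul_assoc]

theorem r18_Lx (h : FR a k l f y g x) (i j : ℕ) (z : G) :
    x * (f ^ i * y ^ j * z) = f ^ (7 * i) * y ^ j * (x * z) := by
  rw [← mul_assoc, ← mul_assoc, r18_xf h, mul_assoc _ x, r18_sc h.xy]
  simp only [mul_assoc]

theorem r18_R (h : FR a k l f y g x) (i j m : ℕ) (z : G) :
    f ^ i * y ^ j * (y * f ^ (2 * m) * z) = f ^ (i + 2 * m) * y ^ (j + 1) * z := by
  calc f ^ i * y ^ j * (y * f ^ (2 * m) * z) = f ^ i * (y ^ (j + 1) * f ^ (2 * m)) * z := by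
        rw [pow_succ]; simp only [mul_assoc]
    _ = _ := by rw [((r18_yf2 h m).pow_left (j + 1)).eq, pow_add f]; simp only [mul_assoc]

theorem r18_R2 (h : FR a k l f y g x) (i j m : ℕ) (z : G) :
    f ^ i * y ^ j * (f ^ (2 * m) * z) = f ^ (i + 2 * m) * y ^ j * z := by
  calc f ^ i * y ^ j * (f ^ (2 * m) * z) = f ^ i * (y ^ j * f ^ (2 * m)) * z := by
        simp only [mul_assoc]
    _ = _ := by rw [((r18_yf2 h m).pow_left j).eq, pow_add f]; simp only [mul_assoc]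

theorem r18_g2 (h : FR a k l f y g x) (m : ℕ) : g * f ^ (2 * m) = f ^ (2 * m) * g := by
  rw [r18_gf h, r18_y h (show 2 * m % 2 = 0 % 2 by omega), pow_zero, mul_one,
    r18_f h (show (2 * m + 2 * (2 * m % 2)) % 8 = 2 * m % 8 by omega)]

theorem r18_even (h : FR a k l f y g x) : (k + l) % 2 = 0 := by
  by_contra ho
  have e1 : x * (g * g) = f ^ (7 * (5 * (2 * k))) * y ^ 1 * x := by
    have := r18_Lx h (5 * (2 * k)) 1 1
    rw [h.gg, r18_yf h]
    simpa only [pow_one, mul_one] using this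
  have e2 : x * (g * g) = f ^ (4 * l + 2 * k) * y ^ 3 * x := by
    calc x * (g * g) = y * f ^ (2 * l) * g * x * g := by rw [← mul_assoc, h.xg]
      _ = y * f ^ (2 * l) * g * (x * g) := by simp only [mul_assoc]
      _ = y * f ^ (2 * l) * (g * y * f ^ (2 * l)) * g * x := by rw [h.xg]; simp only [mul_assoc]
      _ = y * f ^ (2 * l) * (y * f ^ (2 * l) * (y * f ^ (2 * k) * x)) := by
        rw [h.gy, mul_assoc y g, r18_g2 h, ← h.gg]; simp only [mul_assoc]
      _ = f ^ 0 * y ^ 0 * (y * f ^ (2 * l) * (y * f ^ (2 * l) * (y * f ^ (2 * k) * x))) := by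
        rw [pow_zero, pow_zero, one_mul, one_mul]
      _ = _ := by
        rw [r18_R h, r18_R h, r18_R h]
        congr 3; omega
  rw [e1, r18_y h (show 3 % 2 = 1 % 2 from rfl)] at e2
  have e3 := mul_right_cancel (mul_right_cancel e2)
  have e4 : f ^ (7 * (5 * (2 * k)) + 2 * k) = f ^ (4 * l + 2 * k + 2 * k) := by
    rw [pow_add, e3, ← pow_add]
  rw [r18_f h (show (7 * (5 * (2 * k)) + 2 * k) % 8 = 0 % 8 by omega),
    r18_f h (show (4 * l + 2 * k + 2 * k) % 8 = 4 % 8 by omega), pow_zero] at e4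
  exact h.z1 e4.symm

end

theorem fR18 {G : Type*} [Group G] [Finite G] {P : Subgroup G} {a k l : ℕ} {f y g x : G}
    (hP : Nat.card P = 64) (ha : a < 2) (hk : k < 4) (hl : l < 4)
    (hf : f ∈ P) (hy : y ∈ P) (hg : g ∈ P) (hx : x ∈ P) (h : FR a k l f y g x) :
    16 * a + 4 * k + l ∈ [0, 10, 2, 5, 7, 8, 13, 15, 16, 18, 21, 23, 24, 26, 29, 31] ∧
      ∃ v : ℕ → G, Rp (16 * a + 4 * k + l) P v := by
  have hn := r18_d5 a ha k hk l hl (r18_even h)
  refine ⟨hn, ?_⟩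
  obtain ⟨n, en⟩ : ∃ n, n = 16 * a + 4 * k + l := ⟨_, rfl⟩
  rw [← en] at hn ⊢
  obtain ⟨v, hv⟩ : ∃ v : ℕ → G, ∀ c, v c = f ^ (c % 8) * y ^ (c / 8 % 2) * (g ^ (c / 16 % 2) * x ^ (c / 32 % 2)) :=
    ⟨_, fun _ => rfl⟩
  have vcd : ∀ i j p q, p < 2 → q < 2 → v (r18cd i j p q) = f ^ i * y ^ j * (g ^ p * x ^ q) := by
    intro i j p q hp hq
    rw [hv, show r18cd i j p q / 16 % 2 = p by unfold r18cd; omega,
      show r18cd i j p q / 32 % 2 = q by unfold r18cd; omega,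
      r18_f h (show r18cd i j p q % 8 % 8 = i % 8 by unfold r18cd; omega),
      r18_y h (show r18cd i j p q / 8 % 2 % 2 = j % 2 by unfold r18cd; omega)]
  have v0 : v 0 = 1 := by simp [hv]
  have v1 : v 1 = f := by simp [hv]
  have v4 : v 4 = f ^ 4 := by simp [hv]
  have v8 : v 8 = y := by simp [hv]
  have v16 : v 16 = g := by simp [hv]
  have v32 : v 32 = x := by simp [hv]
  have hL : ∀ s ∈ [1, 8, 16, 32], ∀ c < 64, v (mu n s c) = v s * v c := by
    intro s hs c hc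
    obtain ⟨i, j, p, q, hi, hj, hp, hq, rfl⟩ : ∃ i j p q, i < 8 ∧ j < 2 ∧ p < 2 ∧ q < 2 ∧ c = r18cd i j p q :=
      ⟨c % 8, c / 8 % 2, c / 16 % 2, c / 32 % 2, by omega, by omega, by omega, by omega, by unfold r18cd; omega⟩
    obtain ⟨d1, d2, d3, d4⟩ := r18_d1 n hn i hi j hj p hp q hq
    rw [show n / 4 % 4 = k by omega] at d3
    rw [show n % 4 = l by omega, show n / 16 = a by omega] at d4
    simp only [List.mem_cons, List.not_mem_nil, or_false] at hs
    rcases hs with rfl | rfl | rfl | rfl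
    · rw [d1, vcd _ _ _ _ hp hq, vcd _ _ _ _ hp hq, v1, pow_succ']; simp only [mul_assoc]
    · rw [d2, vcd _ _ _ _ hp hq, vcd _ _ _ _ hp hq, v8, r18_Ly h]
    · rw [d3, vcd _ _ _ _ (by omega) hq, vcd _ _ _ _ hp hq, v16, r18_Lg h]
      obtain rfl | rfl : p = 0 ∨ p = 1 := by omega
      · simp
      · rw [pow_one, ← mul_assoc g g, h.gg, r18_R h]; simp
    · rw [d4, vcd _ _ _ _ hp (by omega), vcd _ _ _ _ hp hq, v32, r18_Lx h]
      have xx : x * x = f ^ (2 * (2 * a)) * 1 := by rw [h.xx, mul_one]; congr 1; omega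
      obtain rfl | rfl : p = 0 ∨ p = 1 := by omega
      · obtain rfl | rfl : q = 0 ∨ q = 1 := by omega
        · simp
        · rw [pow_zero g, one_mul, one_mul, pow_one, xx, r18_R2 h]
          simp only [Nat.sub_self, pow_zero]
          congr 3; omega
      · have e : ∀ z, x * (g * z) = y * f ^ (2 * l) * (g * (x * z)) := fun z => by
          rw [← mul_assoc, h.xg]; simp only [mul_assoc]
        rw [pow_one g, e, r18_R h]
        obtain rfl | rfl : q = 0 ∨ q = 1 := by omega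
        · simp
        · rw [pow_one x, xx, mul_one (f ^ _), r18_g2 h, r18_R2 h]
          simp only [Nat.sub_self, pow_zero, mul_one]
          congr 3; omega
  have l4 : ∀ s ∈ [1, 8, 16, 32], 0 < s ∧ s < 64 := by decide
  have l2 : ∀ s ∈ [1, 32], s < 64 := by decide
  have hm : ∀ c < 64, ∀ b < 64, v (mu n c b) = v c * v b := by
    intro c
    induction c using Nat.strong_induction_on with
    | _ c ih =>
      intro hc b hb
      obtain ⟨z, w⟩ := r18_d2 n hn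
      rcases w c hc with rfl | ⟨s, hs, h1, h2, h3⟩
      · rw [z b hb, v0, one_mul]
      · have := l4 s hs
        rw [h3 b hb, hL s hs _ (mu_lt _ _ _), ih (c - s) (by omega) (by omega) b hb, ← mul_assoc,
          ← hL s hs _ (by omega), h2]
  have hk1 : ∀ c < 64, ∀ s < 64, ∀ d < 64, v c = 1 → mu n d (mu n s c) = mu n c s → v d = 1 := by
    intro c hc s hs d hd e1 e2
    have := congrArg v e2
    rw [hm d hd _ (mu_lt _ _ _), hm s hs c hc, hm c hc s hs, e1, mul_one, one_mul] at this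
    exact mul_eq_right.1 this
  have hk0 : ∀ c < 64, v c = 1 → c = 0 := by
    intro c hc e
    rcases r18_d4 n hn c hc with e0 | rfl | ⟨s, hs, d, hd, e1, e2⟩
    · exact e0
    · exact absurd (v4 ▸ e) h.z1
    · have e3 := hk1 c hc s (l4 s hs).2 d (by omega) e e1
      rcases e2 with rfl | ⟨r, hr, e2⟩
      · exact absurd (v4 ▸ e3) h.z1
      · exact absurd (v4 ▸ hk1 d (by omega) r (l2 r hr) 4 (by omega) e3 e2) h.z1
  have hi : ∀ c < 64, ∀ b < 64, v c = v b → c = b := by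
    intro c hc b hb e
    obtain ⟨d, hd, e1, e2⟩ := r18_d3 n hn b hb
    refine e2 c hc (hk0 _ (mu_lt _ _ _) ?_)
    rw [hm c hc d hd, e, ← hm b hb d hd, e1, v0]
  have hvP : ∀ c, v c ∈ P := fun c => by
    rw [hv]
    exact mul_mem (mul_mem (pow_mem hf _) (pow_mem hy _)) (mul_mem (pow_mem hg _) (pow_mem hx _))
  have hb : Function.Bijective (fun c : Fin 64 => (⟨v c, hvP c⟩ : P)) :=
    (Nat.bijective_iff_injective_and_card _).2
      ⟨fun c b e => Fin.ext (hi c c.2 b b.2 (congrArg Subtype.val e)), by rw [hP, Nat.card_fin]⟩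
  refine ⟨v, v0, hm, hi, fun u => ⟨fun hu => ?_, fun ⟨c, _, e⟩ => e ▸ hvP c⟩⟩
  obtain ⟨c, e⟩ := hb.2 ⟨u, hu⟩
  exact ⟨c, c.2, congrArg Subtype.val e⟩

end Cfsg.Agent.GO.Fg
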