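import Mathlib
import Cfsg.Agent.H18.OddTwo
import Cfsg.Agent.H18.Pearl3

/-! Weights of an automorphism on sections of order `p`, and the `SL₂(p)` data of a local configuration. -/

set_option autoImplicit false
set_option linter.unusedSectionVars false

namespace Cfsg.Agent.H18

open Cfsg Subgroup Cfsg.Agent.FT Cfsg.Agent.H3
open scoped commutatorElement

variable {G : Type*} [Group G] [Finite G] {p : ℕ} [hp : Fact p.Prime]
  {S A B C D R T L M H K U V W Z : Subgroup G} {e f g h t u v x y : G} {a b : ZMod p}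

/-- `g` acts on `x` modulo `B` as the `a`-th power. -/
def Wt (p : ℕ) (g x : G) (B : Subgroup G) (a : ZMod p) : Prop :=
  ∃ n : ℕ, (n : ZMod p) = a ∧ (x ^ n)⁻¹ * (g * x * g⁻¹) ∈ B

namespace Wt

theorem mono (h : Wt p g x B a) (hB : B ≤ C) : Wt p g x C a :=
  let ⟨n, h1, h2⟩ := h; ⟨n, h1, hB h2⟩

theorem congr {g' : G} (h : Wt p g x B a) (e : g * x * g⁻¹ = g' * x * g'⁻¹) : Wt p g' x B a :=
  let ⟨n, h1, h2⟩ := h; ⟨n, h1, e ▸ h2⟩

theorem cast (h : Wt p g x B a) (e : a = b) : Wt p g x B b := e ▸ h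

theorem uniq (px : PiElt {p} x) (x1 : x ∉ B) (h : Wt p g x B a) (h' : Wt p g x B b) : a = b := by
  have key : ∀ n m : ℕ, n ≤ m → (x ^ n)⁻¹ * (g * x * g⁻¹) ∈ B → (x ^ m)⁻¹ * (g * x * g⁻¹) ∈ B →
      (n : ZMod p) = m := fun n m l h1 h2 => by
    obtain ⟨k, rfl⟩ := Nat.exists_eq_add_of_le l
    have h3 : x ^ k ∈ B := by
      have := mul_mem h1 (inv_mem h2)
      rwa [show (x ^ n)⁻¹ * (g * x * g⁻¹) * ((x ^ (n + k))⁻¹ * (g * x * g⁻¹))⁻¹ = x ^ k by group] at this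
    have h4 : p ∣ k := by
      by_contra h4
      exact x1 (px.mem_of_pow_mem ((p'nat_iff hp.out).2 h4) h3)
    rw [Nat.cast_add, (ZMod.natCast_eq_zero_iff k p).2 h4, add_zero]
  obtain ⟨n, rfl, h1⟩ := h
  obtain ⟨m, rfl, h2⟩ := h'
  rcases le_total n m with l | l
  · exact key n m l h1 h2
  · exact (key m n l h2 h1).symm

theorem ne_zero (h : Wt p g x B a) (hg : g ∈ N(B)) (xp : x ^ p ∈ B) (x1 : x ∉ B) : a ≠ 0 := by
  obtain ⟨n, rfl, h1⟩ := h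
  intro e
  obtain ⟨k, rfl⟩ := (ZMod.natCast_eq_zero_iff n p).1 e
  have := conj_mem' hg ((B.mul_mem_cancel_left (inv_mem (pow_mul x p k ▸ pow_mem xp k))).1 h1)
  exact x1 (by simpa [mul_assoc] using this)

theorem change (h : Wt p g x B a) (hx : x ∈ N(B)) (hg : g ∈ N(B)) (hy : y ∈ B ⊔ ⟪x⟫) : Wt p g y B a := by
  obtain ⟨n, rfl, h1⟩ := h
  obtain ⟨c, hc, k, rfl⟩ := (mem_sup_zpowers_iff_nat hx).1 hy
  have cn := le_nrm B hc
  have m := mul_mem cn (pow_mem hx k)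
  refine ⟨n, rfl, (coset_eq_iff (pow_mem m n) (mul_mem (mul_mem hg m) (inv_mem hg))).1 ?_⟩
  have h2 := (coset_eq_iff (pow_mem hx n) (mul_mem (mul_mem hg hx) (inv_mem hg))).2 h1
  rw [coset_conj hg hx, coset_pow hx] at h2
  rw [coset_conj hg m, coset_pow m, coset_mul cn (pow_mem hx k), coset_of_mem hc, one_mul, coset_pow hx,
    ← conj_pow, ← h2, ← pow_mul, ← pow_mul, mul_comm]

theorem of_mem (hx : x ∈ B) (hg : g ∈ N(B)) (a : ZMod p) : Wt p g x B a :=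
  ⟨a.val, ZMod.natCast_zmod_val a, mul_mem (inv_mem (pow_mem hx _)) (conj_mem hg hx)⟩

theorem of_comm (h : ⁅x⁻¹, g⁆ ∈ B) : Wt p g x B 1 :=
  ⟨1, Nat.cast_one, by simpa [commutatorElement_def, mul_assoc] using h⟩

theorem of_cen (h : g ∈ C[x]) : Wt p g x B 1 :=
  ⟨1, Nat.cast_one, by rw [mem_cen1.1 h]; simp [one_mem]⟩

theorem comm_mem (h : Wt p g x B 1) (xp : x ^ p ∈ B) : ⁅x⁻¹, g⁆ ∈ B := by
  obtain ⟨n, e, h1⟩ := h
  have h2 : n % p = 1 := by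
    have := (ZMod.natCast_eq_natCast_iff' n 1 p).1 (e.trans Nat.cast_one.symm)
    rwa [Nat.mod_eq_of_lt hp.out.one_lt] at this
  have h3 : (x ^ p) ^ (n / p) * ((x ^ n)⁻¹ * (g * x * g⁻¹)) ∈ B := mul_mem (pow_mem xp _) h1
  rw [← pow_mul] at h3
  nth_rw 2 [← Nat.div_add_mod n p] at h3
  rw [h2] at h3
  convert h3 using 1
  rw [commutatorElement_def]; group

theorem comm (hx : Wt p g x B a) (hy : Wt p g y C b) (xn : x ∈ N(K)) (yn : y ∈ N(K)) (gn : g ∈ N(K))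
    (nB : B ≤ N(K)) (nC : C ≤ N(K)) (h1 : ∀ u ∈ B, ⁅u, y⁆ ∈ K) (h2 : ∀ v ∈ C, ⁅x, v⁆ ∈ K) (h3 : ⁅B, C⁆ ≤ K)
    (h4 : ⁅x, ⁅x, y⁆⁆ ∈ K) (h5 : ⁅y, ⁅x, y⁆⁆ ∈ K) : Wt p g ⁅x, y⁆ K (a * b) := by
  obtain ⟨n, rfl, e1⟩ := hx
  obtain ⟨m, rfl, e2⟩ := hy
  have cm : ∀ u v, u ∈ N(K) → v ∈ N(K) → ⁅u, v⁆ ∈ N(K) := fun u v hu hv =>
    commutator_le_self _ (commutator_mem_commutator hu hv)
  have co : ∀ u v, u ∈ N(K) → v ∈ N(K) → ⁅u, v⁆ ∈ K → Commute coset(K, u) coset(K, v) := fun u v hu hv h =>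
    commutatorElement_eq_one_iff_commute.1 (by rw [← coset_comm hu hv, coset_of_mem h])
  have m1 := cm x y xn yn
  refine ⟨n * m, Nat.cast_mul n m, (coset_eq_iff (pow_mem m1 _) (mul_mem (mul_mem gn m1) (inv_mem gn))).1 ?_⟩
  set u := (x ^ n)⁻¹ * (g * x * g⁻¹)
  set v := (y ^ m)⁻¹ * (g * y * g⁻¹)
  have e : g * ⁅x, y⁆ * g⁻¹ = ⁅x ^ n * u, y ^ m * v⁆ := by
    simp only [u, v, mul_inv_cancel_left, commutatorElement_def]; group
  have c1 := co u y (nB e1) yn (h1 u e1)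
  have c2 := co x v xn (nC e2) (h2 v e2)
  have c3 := co u v (nB e1) (nC e2) (h3 (commutator_mem_commutator e1 e2))
  have c4 := co x _ xn m1 h4
  have c5 := co y _ yn m1 h5
  rw [coset_comm xn yn] at c4 c5
  rw [e, coset_pow m1, coset_comm xn yn, coset_comm (mul_mem (pow_mem xn n) (nB e1)) (mul_mem (pow_mem yn m) (nC e2)),
    coset_mul (pow_mem xn n) (nB e1), coset_mul (pow_mem yn m) (nC e2), coset_pow xn, coset_pow yn,
    ← comm_pow_pow c4 c5]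
  generalize coset(K, u) = u' at *
  generalize coset(K, v) = v' at *
  have d1 : Commute u' (coset(K, y) ^ m * v') := (c1.pow_right m).mul_right c3
  have d2 : Commute (coset(K, x) ^ n) v' := c2.pow_left n
  generalize coset(K, x) ^ n = X at *
  generalize coset(K, y) ^ m = Y at *
  simp only [commutatorElement_def]
  calc _ = X * Y * (v' * X⁻¹ * v'⁻¹) * Y⁻¹ := by rw [← d2.inv_left.eq, mul_inv_cancel_right]
    _ = X * (Y * v') * X⁻¹ * (Y * v')⁻¹ := by group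
    _ = X * (u' * (Y * v') * u'⁻¹) * X⁻¹ * (Y * v')⁻¹ := by rw [d1.eq, mul_inv_cancel_right]
    _ = _ := by group

end Wt

theorem wt_exists (hx : x ∈ N(B)) (h : g * x * g⁻¹ ∈ B ⊔ ⟪x⟫) : ∃ a : ZMod p, Wt p g x B a := by
  obtain ⟨c, hc, k, e⟩ := (mem_sup_zpowers_iff_nat hx).1 h
  exact ⟨k, k, rfl, by rw [e, ← mul_assoc]; exact conj_mem' (pow_mem hx k) hc⟩

/-- the weight of `g` on a section `A / B` of order `p`. -/
theorem wt_section (hB : B ⊴ A) (i : B.relIndex A = p) (gA : g ∈ N(A)) (gB : g ∈ N(B)) :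
    ∃ a : ZMod p, a ≠ 0 ∧ ∀ x ∈ A, Wt p g x B a := by
  obtain ⟨x, hx, x1⟩ := SetLike.not_le_iff_exists.1 fun h : A ≤ B => hp.out.ne_one (i.symm.trans (relIndex_eq_one.2 h))
  have e := sup_zpowers_eq_of_prime (i.symm ▸ hp.out) hB.le hx x1
  obtain ⟨a, ha⟩ := wt_exists (p := p) (g := g) (hB.nrm hx) (e.symm ▸ conj_mem gA hx)
  exact ⟨a, ha.ne_zero gB (i ▸ pow_relIndex_mem hB.nrm hx) x1, fun y hy => ha.change (hB.nrm hx) gB (e.symm ▸ hy)⟩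

theorem sub_one_dvd_of_pow {k : ℕ} (h : ∀ l : ZMod p, l ≠ 0 → l ^ k = 1) : p - 1 ∣ k := by
  obtain ⟨z, hz⟩ := IsCyclic.exists_ofOrder_eq_natCard (α := (ZMod p)ˣ)
  rw [Nat.card_eq_fintype_card, ZMod.card_units] at hz
  exact hz ▸ orderOf_dvd_of_pow_eq_one (Units.ext (by simpa using h z z.ne_zero))

theorem neg_one_ne_one_zmod (h2 : p ≠ 2) : (-1 : ZMod p) ≠ 1 := by
  haveI : Fact (2 < p) := ⟨lt_of_le_of_ne hp.out.two_le h2.symm⟩
  exact ZMod.neg_one_ne_one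

/-- `R / W` is the natural module for `SL₂(p)`, with `T`-invariant line `U / W`. -/
structure SLD (p : ℕ) [Fact p.Prime] (R T L W U : Subgroup G) : Prop where
  sq : W.relIndex R = p ^ 2
  idx : R.relIndex T = p
  key : ∀ y ∈ ncl L T, ⁅R, ⟪y⟫⁆ ≤ W → y ∈ R
  WU : W ≤ U
  UR : U ≤ R
  iW : W.relIndex U = p
  iU : U.relIndex R = p
  RT : ⁅R, T⁆ ≤ U
  UT : ⁅U, T⁆ ≤ W
  torus : ∀ l : ZMod p, l ≠ 0 → ∃ t ∈ ncl L T, t ∈ N(T) ∧ (∀ u ∈ U, Wt p t u W l) ∧ (∀ v ∈ R, Wt p t v U l⁻¹) ∧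
    ∀ y ∈ T, Wt p t y R (l ^ 2)
  trans : ∀ v ∈ R, ∃ g ∈ L, g * v * g⁻¹ ∈ U
  inv : ∃ t ∈ ncl L T, ∀ v ∈ R, t * v * t⁻¹ * v ∈ W

theorem exists_sld (hc : Cfg p R T L M) (hW : W ⊴ R) (nW : L ≤ N(W)) (i : W.relIndex R ∣ p ^ 2)
    (tr : Tr p (ncl L T) W ⊥) : ∃ U, SLD p R T L W U := by
  have KL := ncl_le_self hc.T_le
  have key0 : ∀ X ≤ ncl L T, Tr p (ncl L X) R W → X ≤ R := fun X hX h =>
    hc.le_of_tr (hX.trans KL) (h.trans (tr.mono (ncl_le (norms_ncl L T) hX)))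
  have key : ∀ y ∈ ncl L T, ⁅R, ⟪y⟫⁆ ≤ W → y ∈ R := fun y hy h =>
    zpowers_le.1 (key0 _ (zpowers_le.2 hy) (Tr.of_comm hc.pR ((ncl_le_self (zpowers_le.2 (KL hy))).trans hc.nR)
      (comm_ncl_le hW.nrm hc.nR nW (zpowers_le.2 (KL hy)) h)))
  have key' : ∀ y ∈ ncl L T, coset(W, y) ∈ C(R /ₛ W) → y ∈ R := fun y hy h => key y hy (by
      rw [commutator_comm]; exact ((mem_qpre_cen hW.nrm).1 (mem_qpre.2 ⟨nW (KL hy), h⟩)).2)
  have iT : R.relIndex T = p := hc.idx_p hW.nrm (hc.T_le.trans hc.nR) (hc.T_le.trans nW) i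
    fun y hy => key y (le_ncl L T hy)
  obtain ⟨x, hx, x1, -⟩ := hc.exists_x
  have xL := hc.T_le hx
  have xK := le_ncl L T hx
  obtain ⟨k, hk, -, e', r, hP⟩ := exists_pl_quo hc.M_lt hW hc.pR i hc.nR nW xL (hc.pT.piElt hx)
    fun h => x1 (zpowers_le.1 (key0 _ (zpowers_le.2 xK) h))
  have KK : ⟪x⟫ ⊔ ⟪k * x * k⁻¹⟫ ≤ ncl L T := sup_le (zpowers_le.2 xK) (zpowers_le.2 (conj_mem_ncl hk hx))
  generalize coset(W, k) * e' * (coset(W, k))⁻¹ = f' at hP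
  obtain ⟨e, eR, en, rfl⟩ := mem_quo.1 hP.e_mem
  obtain ⟨f, fR, fn, rfl⟩ := mem_quo.1 hP.f_mem
  have e1 : e ∉ W := fun h => hP.e_ne (coset_of_mem h)
  have ep : e ^ p ∈ W := (coset_eq_one_iff (pow_mem en p)).1 ((coset_pow en p).trans hP.he)
  have sq : W.relIndex R = p ^ 2 := (card_quo hW.nrm).symm.trans hP.card
  have UR : W ⊔ ⟪e⟫ ≤ R := sup_le hW.le (zpowers_le.2 eR)
  have iW : W.relIndex (W ⊔ ⟪e⟫) = p := relIndex_sup_zpowers hp.out en e1 ep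
  have iU : (W ⊔ ⟪e⟫).relIndex R = p := by
    have := FT.relIndex_mul (le_sup_left : W ≤ W ⊔ ⟪e⟫) UR
    rw [iW, sq, pow_two] at this
    exact Nat.eq_of_mul_eq_mul_left hp.out.pos this
  have mU : ∀ v ∈ N(W), coset(W, v) ∈ ⟪coset(W, e)⟫ ↔ v ∈ W ⊔ ⟪e⟫ := fun v hv => by
    rw [← quo_zpowers en, coset_mem_quo_iff hv (zpowers_le.2 en)]
  have eT := hc.sup_eq iT hx x1
  have RR : ⁅R, R⁆ ≤ W := der_le_of_relIndex_dvd_sq hp.out hW.nrm i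
  have cm : ∀ u ∈ L, ∀ v ∈ L, ⁅u, v⁆ ∈ N(W) := fun u hu v hv =>
    nW (commutator_le_self _ (commutator_mem_commutator hu hv))
  have RL := hc.nml.le
  have Rx : ⁅R, ⟪x⟫⁆ ≤ W ⊔ ⟪e⟫ := by
    have h1 : ∀ v ∈ R, ⁅x, v⁆ ∈ W ⊔ ⟪e⟫ := fun v hv => (mU _ (cm x xL v (RL hv))).1 (by
      rw [coset_comm (nW xL) (hW.nrm hv)]; exact hP.comm_mem hP.hx (mem_quo_of_mem (hW.nrm hv) hv))
    have h2 : x ∈ N(W ⊔ ⟪e⟫) := mem_nrm.2 fun v hv => by
      simpa [commutatorElement_def] using mul_mem (h1 v (UR hv)) hv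
    exact (comm_zpowers_le_iff h2).2 fun v hv => by simpa using inv_mem (h1 v hv)
  have RT : ⁅R, T⁆ ≤ W ⊔ ⟪e⟫ := by
    have h1 : ⁅R, R⁆ ≤ W ⊔ ⟪e⟫ := RR.trans le_sup_left
    rw [← eT]
    exact comm_sup_le' (sup_le (norms_of_comm_le_of_le h1 UR) (norms_of_comm_le_of_le Rx UR)) h1 Rx
  have nU : T ≤ N(W ⊔ ⟪e⟫) := norms_of_comm_le_of_le RT UR
  have UT : ⁅W ⊔ ⟪e⟫, T⁆ ≤ W := comm_le_of_dvd_p hc.pT nU (hc.T_le.trans nW) (UR.trans hW.nrm) iW.dvd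
  have f1 : f ∉ W ⊔ ⟪e⟫ := fun h => hP.f_nm ((mU f fn).2 h)
  refine ⟨W ⊔ ⟪e⟫, sq, iT, key, le_sup_left, UR, iW, iU, RT, UT, fun l l0 => ?_, fun v hv => ?_, ?_⟩
  · obtain ⟨_, hg, hm, hd⟩ := hP.torus l0
    obtain ⟨g, hg', gn, rfl⟩ := mem_quo.1 hg
    have gK := KK hg'
    have gL := KL gK
    have d : (x ^ (l ^ 2).val)⁻¹ * (g * x * g⁻¹) ∈ R := by
      have m := mul_mem (mul_mem gL xL) (inv_mem gL)
      refine key' _ (mul_mem (inv_mem (pow_mem xK _)) (conj_mem_ncl gL hx)) ?_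
      rwa [coset_mul (nW (inv_mem (pow_mem xL _))) (nW m), coset_inv (nW (pow_mem xL _)), coset_pow (nW xL),
        coset_conj gn (nW xL)]
    have gT : g ∈ N(T) := mem_nrm_of_cj_le (by
      nth_rw 1 [← eT]
      rw [FT.cj_sup, FT.cj_zpowers, cj_of_mem_nrm (hc.nR gL)]
      exact sup_le hc.lt.le (zpowers_le.2 ((T.mul_mem_cancel_left (inv_mem (pow_mem hx _))).1 (hc.lt.le d))))
    have we : Wt p g e W l := ⟨l.val, ZMod.natCast_zmod_val l,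
      (coset_eq_iff (pow_mem en _) (mul_mem (mul_mem gn en) (inv_mem gn))).1 (by
        rw [coset_conj gn en, hm.1, vec_left, coset_pow en, pw])⟩
    have wf : Wt p g f W l⁻¹ := ⟨l⁻¹.val, ZMod.natCast_zmod_val _,
      (coset_eq_iff (pow_mem fn _) (mul_mem (mul_mem gn fn) (inv_mem gn))).1 (by
        rw [coset_conj gn fn, hm.2, vec_right, coset_pow fn, pw])⟩
    have gU : g ∈ N(W ⊔ ⟪e⟫) := mem_nrm_of_cj_le (by
      rw [FT.cj_sup, FT.cj_zpowers, cj_of_mem_nrm gn]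
      obtain ⟨n, -, h⟩ := we
      exact sup_le le_sup_left (zpowers_le.2 (((W ⊔ ⟪e⟫).mul_mem_cancel_left
        (inv_mem (mem_sup_right (npow_mem_zpowers e n)))).1 (mem_sup_left h))))
    refine ⟨g, gK, gT, fun u hu => we.change en gn hu, fun v hv => (wf.mono le_sup_left).change
      (nU (hc.lt.le fR)) gU ?_, fun y hy => Wt.change ⟨_, ZMod.natCast_zmod_val _, d⟩ (hc.nR xL) (hc.nR gL) (eT ▸ hy)⟩
    rwa [sup_zpowers_eq_of_prime (iU.symm ▸ hp.out) UR fR f1]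
  · by_cases v1 : v ∈ W
    · exact ⟨1, one_mem _, by simpa using mem_sup_left v1⟩
    have vn := hW.nrm hv
    obtain ⟨_, hg, -, h⟩ := hP.trans (mem_quo_of_mem vn hv) (mt (coset_eq_one_iff vn).1 v1) hP.e_mem hP.e_ne
    obtain ⟨g, hg', gn, rfl⟩ := mem_quo.1 hg
    exact ⟨g, KL (KK hg'), (mU _ (mul_mem (mul_mem gn vn) (inv_mem gn))).1 (by
      rw [coset_conj gn vn, h]; exact mem_zpowers _)⟩
  · obtain ⟨t, ht, -, -, h⟩ := hP.inv_quo hW.nrm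
    exact ⟨t, KK ht, h⟩

theorem SLD.eq_U (h : SLD p R T L W U) (h1 : W ≤ V) (h2 : V ≤ R) (i : W.relIndex V = p) (hT : ⁅V, T⁆ ≤ W)
    (hx : ¬ T ≤ R) (hW : T ≤ N(W)) (RR : R ≤ T) : V = U := by
  have e : ¬ ⁅R, T⁆ ≤ W := fun e => hx fun y hy => h.key y (le_ncl L T hy) ((commSS le_rfl (zpowers_le.2 hy)).trans e)
  have l : V ≤ U := by
    by_contra l
    rcases eq_or_eq_of_prime_relIndex (h.iU.symm ▸ hp.out) (le_sup_left : U ≤ U ⊔ V) (sup_le h.UR h2) with e' | e'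
    · exact l (e' ▸ le_sup_right)
    · exact e (e' ▸ comm_sup_le ((sup_le h.UR h2).trans (RR.trans hW)) h.UT hT)
  refine (eq_or_eq_of_prime_relIndex (h.iW.symm ▸ hp.out) h1 l).resolve_left fun e => ?_
  rw [e, relIndex_self] at i
  exact hp.out.ne_one i.symm

theorem SLD.comm_le (h : SLD p R T L W U) (hc : Cfg p R T L M) (h2 : p ≠ 2) (hW : W ⊴ R) (nW : L ≤ N(W))
    (i : ⁅R, R⁆.relIndex W ∣ p) (hD : ⁅R, L ⊓ N(T)⁆ ≤ D) : ⁅R, L⁆ ≤ D := by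
  obtain ⟨t, tK, ht⟩ := h.inv
  have KL := ncl_le_self hc.T_le
  have tL := KL tK
  have RR : ⁅R, R⁆ ≤ W := der_le_of_relIndex_dvd_sq hp.out hW.nrm h.sq.dvd
  have c : ∀ l ∈ L, ⁅l, t⁆ ∈ R := fun l hl => by
    refine h.key _ (by simpa [commutatorElement_def] using mul_mem (conj_mem (norms_ncl L T hl) tK) (inv_mem tK)) ?_
    have m := nW (commutator_le_self _ (commutator_mem_commutator hl tL))
    rw [commutator_comm]
    refine ((mem_qpre_cen hW.nrm).1 (mem_qpre.2 ⟨m, ?_⟩)).2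
    rw [coset_comm (nW hl) (nW tL)]
    refine comm_mem_cen_of_inv (fun v hv => ?_) (quo_norms _ hc.nR (mem_quo_of_mem (nW hl) hl))
    obtain ⟨v, hv', vn, rfl⟩ := mem_quo.1 hv
    rw [eq_inv_iff_mul_eq_one, ← coset_conj (nW tL) vn, ← coset_mul (mul_mem (mul_mem (nW tL) vn) (inv_mem (nW tL))) vn,
      coset_of_mem (ht v hv')]
  have tT : t ∈ N(T) := norms_of_comm_le_of_le (L := T) (H := T) (X := ⟪t⟫) (((comm_zpowers_le_iff (hc.nR tL)).2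
    fun y hy => c y (hc.T_le hy)).trans hc.lt.le) le_rfl (mem_zpowers t)
  set Y := ⁅R, R ⊔ ⟪t⟫⁆
  have nX : L ≤ N(R ⊔ ⟪t⟫) := norms_of_comm_le_of_le (H := R ⊔ ⟪t⟫) ((comm_sup_le (sup_le (le_nrm R)
    (zpowers_le.2 (hc.nR tL))) (comm_le_left hc.nR) (by
      rw [commutator_comm]; exact (comm_zpowers_le_iff (hc.nR tL)).2 c)).trans le_sup_left) le_rfl
  have nY : L ≤ N(Y) := normsR hc.nR nX
  have YR : Y ≤ R := comm_le_left (sup_le (le_nrm R) (zpowers_le.2 (hc.nR tL)))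
  have YD : Y ≤ D := (commSS le_rfl (sup_le (le_inf hc.nml.le (hc.lt.le.trans (le_nrm T)))
    (zpowers_le.2 ⟨tL, tT⟩))).trans hD
  have RY : ⁅R, R⁆ ≤ Y := commSS le_rfl le_sup_left
  have e : Y ⊔ W = R := le_antisymm (sup_le YR hW.le) fun v hv => by
    have h1 : ⁅v, t⁆ ∈ Y := commutator_mem_commutator hv (mem_sup_right (mem_zpowers t))
    have h3 : v ^ 2 ∈ Y ⊔ W := by
      have := mul_mem (mem_sup_left h1 : _ ∈ Y ⊔ W) (mem_sup_right (ht v hv))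
      have e2 : ⁅v, t⁆ * (t * v * t⁻¹ * v) = v ^ 2 := by rw [commutatorElement_def, pow_two]; group
      rwa [e2] at this
    exact (hc.pR.piElt hv).mem_of_pow_mem ((p'nat_iff hp.out).2 fun d =>
      h2 ((Nat.prime_dvd_prime_iff_eq hp.out Nat.prime_two).1 d)) h3
  have iY : Y.relIndex R ∣ p := by
    rw [← e, relIndex_sup_norm (hW.le.trans (hc.nml.le.trans nY))]
    exact (relIndex_dvd_of_le RY W).trans i
  have RK : ⁅R, ncl L T⁆ ≤ Y := comm_ncl_le (hc.nml.le.trans nY) hc.nR nY hc.T_le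
    (comm_le_of_dvd_p hc.pT (hc.T_le.trans hc.nR) (hc.T_le.trans nY) (hc.nml.le.trans nY) iY)
  refine commutator_le.2 fun r hr g hg => ?_
  obtain ⟨k, hk, n, hn, rfl⟩ := (Hall.frattini_ncl hc.syl).mul g hg
  have m := commutator_mem_commutator hr hn
  have mR : ⁅r, n⁆ ∈ R := comm_le_left (inf_le_left.trans hc.nR) m
  have := mul_mem (mul_mem (YD (RK (commutator_mem_commutator hr hk)))
    (inv_mem (YD (RK (commutator_mem_commutator mR hk))))) (hD m)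
  convert this using 1
  simp only [commutatorElement_def]; group

theorem exists_top_quo (hS : Syl p S H) (hn : H ≤ N(S)) (hA : A ≤ S) (h1 : ¬ A ≤ ⁅S, S⁆) (h2 : ⁅A, H⁆ ≤ ⁅S, S⁆) :
    ∃ D < S, S ≤ N(D) ∧ ⁅S, H⁆ ≤ D := by
  obtain ⟨Q, hQ, sd⟩ := hS.exists_compl hn
  have QS : Q ≤ N(S) := hQ.le.trans hn
  have cop : Cop S Q := hS.pi.cop hQ.pi
  have l : ⁅S, Q⁆ ⊔ ⁅S, S⁆ ≤ S := sup_le (comm_le_left QS) (der_le S)
  have nD : S ≤ N(⁅S, Q⁆ ⊔ ⁅S, S⁆) := norms_of_comm_le_of_le le_sup_right l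
  refine ⟨⁅S, Q⁆ ⊔ ⁅S, S⁆, lt_of_le_of_ne l fun e => h1 ?_, nD, ?_⟩
  · have e1 : ⁅S, Q⁆ = S := Phi_nongen (comm_le_left QS)
      (e.ge.trans (sup_le le_sup_right (hS.pi.der_le_Phi.trans le_sup_left)))
    have := coprime_cent_prod_of_le (K := ⁅S, S⁆ ⊔ A) (N := ⁅S, S⁆) (A := Q) le_sup_left (norms_der QS)
      (cop.mono_left (der_le S)) (Or.inl ((hS.pi.mono (der_le S)).sol))
      (comm_sup_le ((sup_le (der_le S) hA).trans (der_nml S).nrm) (comm_le_left (norms_der QS))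
        ((commSS le_rfl hQ.le).trans h2))
    refine le_sup_right.trans (this.sup.ge.trans (sup_le le_rfl ?_))
    exact (inf_le_inf_right _ ((sup_le (der_le S) hA).trans e1.ge)).trans (coprime_cent_comm_le_der QS cop)
  · rw [← sd.sup]
    exact comm_sup_le' (sup_le nD (norms_of_comm_le_of_le le_sup_left l)) le_sup_right le_sup_left

end Cfsg.Agent.H18
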