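import Mathlib
import Cfsg.Agent.H18.Wt
import Cfsg.Agent.H3.Extra2
import Cfsg.Agent.H17.Conf

/-! Saturated fusion systems on `p`-groups of order `p ^ 5`. -/

set_option autoImplicit false
set_option linter.unusedSectionVars false

namespace Cfsg.Agent.H18

open Cfsg Subgroup Cfsg.Agent.FT Cfsg.Agent.H3
open scoped commutatorElement

variable {G : Type*} [Group G] [Finite G] {p n : ℕ} [hp : Fact p.Prime]
  {S A B C D R T L M H K U V W X Z : Subgroup G} {e f g h t u v x y : G} {a b : ZMod p}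

theorem card_cases_of_le (hA : A ≤ B) (c : #B = p ^ n) : ∃ k ≤ n, #A = p ^ k :=
  (Nat.dvd_prime_pow hp.out).1 (c ▸ card_dvd hA)

theorem cfg_cube_idx (hc : Cfg p R T L M) (hA : Ab R) (c : #R = p ^ 3) : R.relIndex T = p := by
  have RT := hc.lt.le
  have nRT := hc.R_nml_T
  set Z := R ⊓ C(T) with hZ
  have Z0 : Z ≠ ⊥ := fun e => (hc.pT.nil.meet_center nRT (fun e' => by
    rw [e', card_bot] at c; exact absurd (Nat.pow_eq_one.1 c.symm) (by simp [hp.out.ne_one])))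
    (eq_bot_iff.2 (e ▸ inf_le_inf_left R inf_le_right))
  have Z3 : Z ≠ R := fun e => hc.not_le ((le_inf hc.T_le (centsC (e.ge.trans inf_le_right))).trans hc.cen)
  obtain ⟨k, hk, cZ⟩ := card_cases_of_le (inf_le_left : Z ≤ R) c
  have k0 : k ≠ 0 := fun e => Z0 (card_eq_one.1 (by rw [cZ, e, pow_zero]))
  have k3 : k ≠ 3 := fun e => Z3 (eq_of_le_of_card_ge inf_le_left (by rw [cZ, e, c]))
  by_cases k2 : k = 2
  · exact (hc.tv hA ((relIndex_of_card_pow (n := 2) (i := 1) inf_le_left c (k2 ▸ cZ)).trans (pow_one p))).1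
  obtain rfl : k = 1 := by omega
  rw [pow_one] at cZ
  by_contra ne
  have nZ : Z ⊴ T := ⟨inf_le_left.trans RT, cents_norm (centsC inf_le_right)⟩
  obtain ⟨Y, nY, ZY, YR, cY⟩ := hc.pT.exists_nml_between hp.out (n := 2) nZ nRT inf_le_left
    (by rw [cZ]; exact p_lt_sq.le) (by rw [c, pow_le_pow_p]; omega)
  have iY : Y.relIndex R = p := (relIndex_of_card_pow (n := 2) (i := 1) YR c cY).trans (pow_one p)
  have RY : ⁅R, T⁆ ≤ Y := comm_le_of_dvd_p hc.pT nRT.nrm nY.nrm (hA.norms YR) iY.dvd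
  obtain ⟨j, hj⟩ := (hc.pT.relIndex R).exists_pow (FT.relIndex_pos R T).ne'
  have j0 : j ≠ 0 := fun e => hc.not_le (relIndex_eq_one.1 (by rw [hj, e, pow_zero]))
  have j1 : j ≠ 1 := fun e => ne (by rw [hj, e, pow_one])
  have nC : T ⊓ C(Y) ⊴ T := ⟨inf_le_left, normsI (le_nrm T) (norms_cent nY.nrm)⟩
  have RC : R ≤ T ⊓ C(Y) := le_inf RT (hA.cents YR le_rfl)
  have cC : p ^ 4 ≤ #(T ⊓ C(Y)) := by
    have h1 := relIndex_cen_dvd hc.pT cY nY.nrm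
    have h2 := FT.card_mul_relIndex (inf_le_left : T ⊓ C(Y) ≤ T)
    rw [inf_relIndex_left, card_of_relIndex RT hj, c] at h2
    have h3 : p ^ 2 * p ^ 3 ≤ p ^ j * p ^ 3 := Nat.mul_le_mul_right _ (pow_le_pow_p.2 (by omega))
    have h4 := Nat.mul_le_mul_left #(T ⊓ C(Y)) (Nat.le_of_dvd hp.out.pos h1)
    rw [h2] at h4
    exact Nat.le_of_mul_le_mul_right (by calc p ^ 4 * p = p ^ 2 * p ^ 3 := by ring
                                          _ ≤ _ := h3.trans h4) hp.out.pos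
  obtain ⟨X, nX, RX, XC, cX⟩ := hc.pT.exists_nml_between hp.out (n := 4) nRT nC RC
    (by rw [c, pow_le_pow_p]; omega) cC
  have iX : R.relIndex X = p := (relIndex_of_card_pow (n := 3) (i := 1) RX cX c).trans (pow_one p)
  have X1 : ¬ X ≤ R := fun h => hp.out.ne_one (iX.symm.trans (relIndex_eq_one.2 h))
  have na : ¬ Ab X := fun h => X1 ((le_inf (nX.le.trans hc.T_le) (h.cents RX le_rfl)).trans hc.cen)
  have XY : X ≤ C(Y) := XC.trans inf_le_right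
  have eY : Z(X) = Y := by
    have l : Y ≤ Z(X) := le_inf (YR.trans RX) (centsC XY)
    refine ((eq_or_eq_of_prime_relIndex (iY.symm ▸ hp.out) l
      (center_le_of_ab RX hA (iX.symm ▸ hp.out) na)).resolve_right fun e => na ?_)
    exact ab_of_center_prime e.ge (iX.symm ▸ hp.out)
  have cD : #⁅X, X⁆ = p := by
    have := card_ab_max hp.out (hc.pT.mono nX.le) RX hA iX na
    rw [c, eY, cY, pow_succ] at this
    exact (Nat.eq_of_mul_eq_mul_left (pow_pos hp.out.pos 2) this).symm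
  have RZ : ⁅R, X⁆ ≤ Z := le_inf (comm_le_left (nX.le.trans nRT.nrm)) ((commSS RX le_rfl).trans
    (centsC (hc.pT.cents_of_prime cD hp.out (norms_der nX.nrm))))
  have cjR : ∀ g ∈ L, FT.cj g R = R := fun g hg => cj_of_mem_nrm (hc.nR hg)
  have opp : ∀ g ∈ L, g ∉ M → ¬ Z ≤ FT.cj g Y := fun g hg gM l => by
    have ZR : FT.cj g Z ≤ R := (hc.cj_le_R hg).2 inf_le_left
    have c1 : FT.cj g X ≤ C(FT.cj g Y) := cj_cents.2 XY
    have UR : Z ⊔ FT.cj g Z ≤ R := sup_le inf_le_left ZR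
    refine hc.not_tr_sup hg gM nX.le (cj_mono g nX.le) X1 (fun h => X1 ((hc.cj_le_R hg).1 h))
      (((Tr.of_cents (hc.pR.mono inf_le_left) (sup_le (nX.le.trans (centsC inf_le_right)) (centsS l c1))).step_sup
        le_sup_left (hc.pR.mono UR) ((commSS UR le_rfl).trans RZ)
        ((comm_eq_bot'.2 (centsS (sup_le l (cj_mono g ZY)) c1)).le.trans bot_le)).step_sup UR hc.pR
        (RZ.trans le_sup_left) (le_sup_right.trans' ?_))
    nth_rw 1 [← cjR g hg]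
    rw [← cj_comm]; exact cj_mono g RZ
  obtain ⟨g, hg, gM⟩ := hc.exists_out
  obtain ⟨z, hz, z1⟩ : ∃ z ∈ Z, z ≠ 1 := by
    by_contra! h
    exact Z0 (eq_bot_iff.2 h)
  have eZ := eq_zpowers_of_prime (cZ.symm ▸ hp.out) hz z1
  have zR : g * z * g⁻¹ ∈ R := (hc.conj_mem_R hg).2 hz.1
  have zY : g * z * g⁻¹ ∈ FT.cj g Y := FT.conj_mem_cj.2 (ZY hz)
  have key : ∀ s ∈ T, s * (g * z * g⁻¹) * s⁻¹ ∈ FT.cj g Y → s ∈ R := fun s hs h => by
    by_contra s1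
    have sL := hc.T_le hs
    have m : g⁻¹ * s⁻¹ * g ∈ L := mul_mem (mul_mem (inv_mem hg) (inv_mem sL)) hg
    refine opp _ m (fun hM => gM (inv_mem_iff.1 (hc.emb_M (X := ⟪g⁻¹ * s⁻¹ * g⟫)
      (by simpa using ((hc.pT.piElt (inv_mem hs)).conj g⁻¹).zpowers) (fun h => s1 ?_) (inv_mem hg) (zpowers_le.2 hM)
      (zpowers_le.2 (mem_cj.2 (by simpa [mul_assoc] using hc.T_le_M hs)))))) (eZ.trans_le (zpowers_le.2 (mem_cj.2 ?_)))
    · simpa [mul_assoc] using (hc.conj_mem_R hg).2 (zpowers_le.1 h)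
    · simpa [mul_assoc] using mem_cj.1 h
  obtain ⟨y, hy, y1⟩ : ∃ y ∈ Y ⊓ FT.cj g Y, y ≠ 1 := by
    by_contra! h
    have YR' : FT.cj g Y ≤ R := (hc.cj_le_R hg).2 YR
    have := card_le (sup_le YR YR')
    rw [card_sup_of_inf (YR'.trans (hA.norms YR)) (eq_bot_iff.2 h), FT.card_cj, cY, c, ← pow_add, pow_le_pow_p] at this
    omega
  obtain ⟨s, hs, e⟩ := exists_comm_eq (H := T) (x := g * z * g⁻¹) (N := Y)
    (fun s hs => by simpa using inv_mem (RY (commutator_mem_commutator zR hs))) (by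
      rw [← inf_relIndex_left, show T ⊓ C[g * z * g⁻¹] = R from le_antisymm (fun s hs => key s hs.1 (by
        rwa [mem_cen1.1 hs.2, mul_inv_cancel_right])) (le_inf RT (hA.le_cen1 zR)), hj, cY, pow_le_pow_p]
      omega) hy.1
  have sR := key s hs (by
    have := mul_mem hy.2 zY
    rwa [← e, commutatorElement_def, inv_mul_cancel_right] at this)
  exact y1 (e ▸ commutatorElement_eq_one_iff_mul_comm.2 (hA.comm sR zR))

theorem four_data (hc : Cfg p R T L M) (c : #R = p ^ 4) (na : ¬ Ab R) : #⁅R, R⁆ = p ∧ #Z(R) = p ^ 2 := by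
  have h2 := relIndex_dvd_pow_of_ne_bot hc.pR (Phi_le R) c
    fun e => na ((hc.pR.Phi_eq_bot_iff hp.out).1 e).ab
  have hi : ¬ (Phi R).relIndex R ∣ p ^ 2 := fun hi => (hc.irr hi).2.false_of_four hc.pR c (hc.irr hi).1 na
  have h3 : (Phi R).relIndex R = p ^ 3 := by
    obtain ⟨i, hi1, hi2⟩ := (Nat.dvd_prime_pow hp.out).1 h2
    rw [hi2, pow_dvd_pow_p] at hi
    rw [hi2, show i = 3 by omega]
  have hΦ : #(Phi R) = p := by rw [card_of_relIndex_pow (n := 1) (Phi_le R) c h3, pow_one]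
  have hd : #⁅R, R⁆ = p := eq_of_le_prime (hΦ.symm ▸ hp.out) hc.pR.der_le_Phi (fun e => na (ab_iff_der.2 e)) ▸ hΦ
  exact ⟨hd, card_center_four hc.pR c hd⟩

theorem sld_four (hc : Cfg p R T L M) (c : #R = p ^ 4) (na : ¬ Ab R) :
    ⁅R, R⁆.relIndex Z(R) = p ∧ ∃ U, SLD p R T L Z(R) U := by
  obtain ⟨cD, cZ⟩ := four_data hc c na
  have l : ⁅R, R⁆ ≤ Z(R) := le_inf (der_le R) (der_cen_of_card hc.pR cD)
  have i : ⁅R, R⁆.relIndex Z(R) = p :=
    (relIndex_of_card_pow (n := 1) (i := 1) l cZ (cD.trans (pow_one p).symm)).trans (pow_one p)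
  have nD := norms_der hc.nR
  refine ⟨i, exists_sld hc (center_nml R) (norms_center hc.nR)
    (relIndex_of_card_pow (n := 2) (i := 2) inf_le_left c cZ).dvd ?_⟩
  exact (Tr.of_cents (hc.pR.mono (der_le R)) (ncl_cents nD (hc.pT.cents_of_prime cD hp.out (hc.T_le.trans nD)))).step_p
    ⟨l, inf_le_left.trans (der_nml R).nrm⟩ (hc.pR.mono inf_le_left) (norms_center hc.nR) nD hc.T_le hc.pT i.dvd

theorem sld_cube (hc : Cfg p R T L M) (c : #R = p ^ 3) (na : ¬ Ab R) : ∃ U, SLD p R T L Z(R) U := by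
  have cZ := (bg4_p3_center hp.out c na).1
  have nZ := norms_center hc.nR
  exact exists_sld hc (center_nml R) nZ
    (relIndex_of_card_pow (n := 1) (i := 2) inf_le_left c (cZ.trans (pow_one p).symm)).dvd
    (Tr.of_cents (hc.pR.mono inf_le_left) (ncl_cents nZ (hc.pT.cents_of_prime cZ hp.out (hc.T_le.trans nZ))))

theorem sld_sq (hc : Cfg p R T L M) (c : #R = p ^ 2) : ∃ U, SLD p R T L ⊥ U :=
  exists_sld hc ⟨bot_le, norms_bot R⟩ (norms_bot L) (by rw [relIndex_bot_left, c]) (Tr.bot _)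

theorem sld_tv (hc : Cfg p R T L M) (hA : Ab R) (i : (R ⊓ C(T)).relIndex R = p) :
    SLD p R T L (R ⊓ C(ncl L T)) (R ⊓ C(T)) ∧ (R ⊓ C(ncl L T)) ⊔ ⁅R, T⁆ = R ⊓ C(T) := by
  obtain ⟨-, V, hD, -, e, hP⟩ := hc.tv hA i
  obtain ⟨x, hx, x1, -⟩ := hc.exists_x
  obtain ⟨a, b, r, -, hP⟩ := hP x hx x1
  have i2 : (R ⊓ C(ncl L T)).relIndex R = p ^ 2 := relIndex_of_card_mul inf_le_left (by rw [hD.card, hP.card, mul_comm])
  have nW : L ≤ N(R ⊓ C(ncl L T)) := norms_subcent hc.nR (norms_ncl L T)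
  obtain ⟨U, hU⟩ := exists_sld hc ⟨inf_le_left, hc.nml.le.trans nW⟩ nW i2.dvd
    (Tr.of_cents (hc.pR.mono inf_le_left) (centsC inf_le_right))
  have l : R ⊓ C(ncl L T) ≤ R ⊓ C(T) := inf_le_inf_left R (cen_anti (le_ncl L T))
  refine ⟨hU.eq_U l inf_le_left ?_ ((comm_eq_bot.2 inf_le_right).le.trans bot_le) hc.not_le (hc.T_le.trans nW)
    hc.lt.le ▸ hU, e⟩
  have := FT.relIndex_mul l (inf_le_left : R ⊓ C(T) ≤ R)
  rw [i, i2, pow_two] at this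
  exact Nat.eq_of_mul_eq_mul_right hp.out.pos this

theorem norms_tsc (k : ℕ) (h : X ≤ N(S)) : X ≤ N(tsc k S) := normsI h (norms_cq (norms_lcs k h) (norms_lcs _ h))

theorem wt_step {k : ℕ} (hg : g ∈ N(S)) (hx : x ∈ S) (l : A ≤ tsc k S) (hy : y ∈ γ[k](S))
    (wy : Wt p g y γ[k + 1](S) b) (wx : Wt p g x A a) : Wt p g ⁅y, x⁆ γ[k + 2](S) (b * a) := by
  have nK := (lcs_nml (k + 2) S).nrm
  have c : ∀ u ∈ γ[k + 1](S), ∀ v ∈ S, ⁅u, v⁆ ∈ γ[k + 2](S) := fun u hu v hv => commutator_mem_commutator hu hv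
  have c' : ∀ v ∈ S, ⁅v, ⁅y, x⁆⁆ ∈ γ[k + 2](S) := fun v hv => by
    simpa using inv_mem (c _ (commutator_mem_commutator hy hx) v hv)
  have AS := l.trans (tsc_le k S)
  exact wy.comm wx (nK (lcs_le k S hy)) (nK hx) (norms_lcs _ (le_refl N(S)) hg) ((lcs_le _ S).trans nK) (AS.trans nK)
    (fun u hu => c u hu x hx) (fun v hv => (mem_tsc.1 (l hv)).2 y hy) (commSS le_rfl AS) (c' y (lcs_le k S hy)) (c' x hx)

theorem comm_gen_tsc (h : MaxCl p n S) (hn : 4 ≤ n) (hy : y ∈ tsc 1 S) (y1 : y ∉ γ[1](S)) (hv : v ∈ tsc 1 S) :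
    ⁅y, v⁆ ∈ γ[3](S) := by
  have i : (γ[1](S)).relIndex (tsc 1 S) = p := relIndex_of_card_mul (der_le_tsc 1 S) (by
    rw [card_tsc h le_rfl hn, h.card_lcs le_rfl, ← pow_succ']; congr 1; omega)
  rw [← sup_zpowers_eq_of_prime (i.symm ▸ hp.out) (der_le_tsc 1 S) hy y1] at hv
  obtain ⟨c, hc, k, rfl⟩ := (mem_sup_zpowers_iff_nat ((lcs_nml 1 S).nrm (tsc_le 1 S hy))).1 hv
  have := inv_mem ((mem_tsc.1 hy).2 c hc)
  convert this using 1
  simp only [commutatorElement_def]; group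

theorem mc5 (h : MaxCl p 5 S) (hx : x ∈ S) (c : #(S ⊓ C[x]) ≤ p ^ 2) (na : ¬ Ab (tsc 1 S)) (hg : g ∈ N(S)) :
    ∃ a : ZMod p, a ≠ 0 ∧ (∀ y ∈ S, Wt p g y (tsc 1 S) a) ∧ (∀ y ∈ tsc 1 S, Wt p g y γ[1](S) (a ^ 2)) ∧
      (∀ y ∈ γ[2](S), Wt p g y γ[3](S) (a ^ 4)) ∧ ∀ y ∈ γ[3](S), Wt p g y ⊥ (a ^ 5) := by
  have gl := fun k => norms_lcs k (le_refl N(S)) hg
  have nl := fun k => (lcs_nml k S).nrm
  have gt := norms_tsc 1 (le_refl N(S)) hg
  have i : (γ[1](S)).relIndex (tsc 1 S) = p := relIndex_of_card_mul (der_le_tsc 1 S) (by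
    rw [card_tsc h le_rfl (by omega), h.card_lcs le_rfl, ← pow_succ'])
  obtain ⟨a, a0, wa⟩ := wt_section (tsc_nml 1 S) (tsc_idx h le_rfl (by omega)) hg gt
  obtain ⟨b, b0, wb⟩ := wt_section ⟨der_le_tsc 1 S, (tsc_le 1 S).trans (nl 1)⟩ i gt (gl 1)
  obtain ⟨s, hs, s1⟩ := SetLike.not_le_iff_exists.1 fun l : tsc 1 S ≤ γ[1](S) =>
    hp.out.ne_one (i.symm.trans (relIndex_eq_one.2 l))
  have sS := tsc_le 1 S hs
  obtain ⟨es, t1⟩ := comm_not_mem_of_tsc h (by omega) hx c hs s1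
  have b4 : γ[4](S) = ⊥ := h.eq_bot
  have m1 : ⁅s, x⁆ ∈ γ[1](S) := commutator_mem_commutator sS hx
  have c2 : ∀ u ∈ γ[1](S), ∀ v ∈ S, ⁅u, v⁆ ∈ γ[2](S) := fun u hu v hv => commutator_mem_commutator hu hv
  have c2' : ∀ v ∈ S, ⁅v, ⁅s, x⁆⁆ ∈ γ[2](S) := fun v hv => by simpa using inv_mem (c2 _ m1 v hv)
  have w1 : Wt p g ⁅s, x⁆ γ[2](S) (b * a) := (wb s hs).comm (wa x hx) (nl 2 sS) (nl 2 hx) (gl 2)
    ((lcs_le _ S).trans (nl 2)) ((tsc_le _ S).trans (nl 2)) (fun u hu => c2 u hu x hx)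
    (fun v hv => lcs_anti S (by omega) (comm_gen_tsc h (by omega) hs s1 hv)) (commSS le_rfl (tsc_le 1 S))
    (c2' s sS) (c2' x hx)
  generalize ⁅s, x⁆ = s2 at *
  have w2 := wt_step hg hx le_rfl m1 w1 (wa x hx)
  have t2 : ⁅s2, x⁆ ∉ γ[3](S) := fun e => not_mem_tsc h hx c le_rfl (by omega) (mem_tsc_of h le_rfl m1 t1 hx e)
  have m2 : ⁅s2, x⁆ ∈ γ[2](S) := commutator_mem_commutator m1 hx
  have w3 := wt_step hg hx (tsc_one_le_two h) m2 w2 (wa x hx)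
  have t3 : ⁅⁅s2, x⁆, x⁆ ∉ γ[4](S) := fun e =>
    not_mem_tsc h hx c (k := 2) (by omega) (by omega) (mem_tsc_of h (by omega) m2 t2 hx e)
  have m3 : ⁅⁅s2, x⁆, x⁆ ∈ γ[3](S) := commutator_mem_commutator m2 hx
  have W2 : ∀ y ∈ γ[2](S), Wt p g y γ[3](S) (b * a * a) := fun y hy =>
    w2.change (nl 3 (lcs_le _ S m2)) (gl 3) (lcs_sup h (by omega) m2 t2 ▸ hy)
  have W3 : ∀ y ∈ γ[3](S), Wt p g y γ[4](S) (b * a * a * a) := fun y hy =>
    w3.change (nl 4 (lcs_le _ S m3)) (gl 4) (lcs_sup h (by omega) m3 t3 ▸ hy)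
  have d1 : ⁅γ[1](S), γ[1](S)⁆ ≤ γ[4](S) := der_lcs_le h le_rfl
  have d2 : ⁅γ[2](S), tsc 1 S⁆ ≤ γ[4](S) := (le_tsc.1 (tsc_one_le_two h)).2
  have m4 : ⁅s2, s⁆ ∈ γ[3](S) := (mem_tsc.1 hs).2 _ m1
  have c4 : ∀ v ∈ S, ⁅v, ⁅s2, s⁆⁆ ∈ γ[4](S) := fun v hv => by
    simpa using inv_mem (commutator_mem_commutator m4 hv : _ ∈ γ[4](S))
  have w4 : Wt p g ⁅s2, s⁆ γ[4](S) (b * a * b) := w1.comm (wb s hs) (nl 4 (lcs_le _ S m1)) (nl 4 sS) (gl 4)
    ((lcs_le _ S).trans (nl 4)) ((lcs_le _ S).trans (nl 4)) (fun u hu => d2 (commutator_mem_commutator hu hs))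
    (fun v hv => d1 (commutator_mem_commutator m1 hv)) ((commSS le_rfl (der_le_tsc 1 S)).trans d2)
    (c4 _ (lcs_le _ S m1)) (c4 _ sS)
  have t4 : ⁅s2, s⁆ ∉ γ[4](S) := fun e => na (ab_of_center_prime (K := γ[1](S)) (le_inf (der_le_tsc 1 S) ?_)
    (i.symm ▸ hp.out))
  · have e := w4.uniq (h.pGrp.piElt (lcs_le _ S m4)) t4 (W3 _ m4)
    have e' : b = a ^ 2 := mul_left_cancel₀ (mul_ne_zero b0 a0) (e.trans (by ring))
    subst e'
    exact ⟨a, a0, wa, wb, fun y hy => (W2 y hy).cast (by ring), fun y hy => b4 ▸ (W3 y hy).cast (by ring)⟩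
  rw [b4] at d1 d2 e
  rw [← es, cen_sup]
  refine le_inf (comm_eq_bot.1 (eq_bot_iff.2 d1)) ?_
  rw [← lcs_sup h le_rfl m1 t1]
  exact sup_le (comm_eq_bot.1 (eq_bot_iff.2 ((commSS le_rfl (zpowers_le.2 hs)).trans d2)))
    (comm_eq_bot.1 (eq_bot_iff.2 (bg4_comm_zpowers_zpowers (norms_bot ⊤ trivial) (norms_bot ⊤ trivial) e)))

theorem nrm_of_agree (ht : t ∈ N(A)) (hA : A ≤ T) (e : ∀ x ∈ T, t * x * t⁻¹ = g * x * g⁻¹) : g ∈ N(A) :=
  mem_nrm.2 fun x hx => e x (hA hx) ▸ conj_mem ht hx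

theorem der_le_of_idx (hA : A ⊴ S) (i : A.relIndex S ∣ p) : ⁅S, S⁆ ≤ ⁅A, S⁆ := by
  rcases (Nat.dvd_prime hp.out).1 i with i | i
  · exact commSS (relIndex_eq_one.1 i) le_rfl
  obtain ⟨x, hx, x1⟩ := SetLike.not_le_iff_exists.1 fun h : S ≤ A => hp.out.ne_one (i.symm.trans (relIndex_eq_one.2 h))
  have e := sup_zpowers_eq_of_prime (i.symm ▸ hp.out) hA.le hx x1
  nth_rw 1 2 [← e]
  rw [der_sup_eq (zpowers_le.2 (hA.nrm hx)), ab_iff_der.1 (ab_zpowers x), sup_bot_eq]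
  exact sup_le (commSS le_rfl hA.le) (commSS le_rfl (zpowers_le.2 hx))

theorem typeA_pre (hS : #S = p ^ 5) (hc : Cfg p R (S ⊓ N(R)) L M) (hA : Ab R) (c : #R = p ^ 3) :
    #(S ⊓ N(R)) = p ^ 4 ∧ (R ⊓ C(S ⊓ N(R))).relIndex R = p := by
  have i := cfg_cube_idx hc hA c
  have pS : PGrp p S := pGrp_of_card hp.out hS
  have cT : #(S ⊓ N(R)) = p ^ 4 := by rw [card_of_relIndex hc.lt.le i, c]; ring
  have nT := pS.nml_of_relIndex hp.out inf_le_left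
    ((relIndex_of_card_pow (n := 4) (i := 1) inf_le_left hS cT).trans (pow_one p))
  have cen := AI.cfg_cen hc
  have lt : ¬ S ≤ S ⊓ N(R) := fun l => by
    have := card_le l
    rw [hS, cT, pow_le_pow_p] at this; omega
  have e : S ≤ N(R) → S ≤ S ⊓ N(R) := le_inf le_rfl
  refine ⟨cT, ?_⟩
  generalize S ⊓ N(R) = T at *
  have RT := hc.lt.le
  have na : ¬ Ab T := fun h => hc.not_le ((le_inf hc.T_le (h.cents RT le_rfl)).trans hc.cen)
  have l := center_le_of_ab RT hA (i.symm ▸ hp.out) na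
  have eZ : R ⊓ C(T) = Z(T) := le_antisymm (inf_le_inf_right _ RT) (le_inf l inf_le_right)
  have m := card_ab_max hp.out hc.pT RT hA i na
  obtain ⟨k, -, cZ⟩ := card_cases_of_le l c
  have k2 := card_center_le hp.out cT na cZ
  have k0 : k ≠ 0 := fun e => hc.pT.nil.meet_center (Nml.refl T) (ne_bot_of_gt hc.lt)
    (eq_bot_iff.2 (inf_le_right.trans (card_eq_one.1 (by rw [cZ, e, pow_zero])).le))
  by_cases k1 : k = 2
  · exact eZ ▸ (relIndex_of_card_pow (n := 2) (i := 1) l c (k1 ▸ cZ)).trans (pow_one p)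
  obtain rfl : k = 1 := by omega
  exfalso
  have cD : #⁅T, T⁆ = p ^ 2 := by
    rw [c, cZ, show p ^ 3 = p ^ 1 * p ^ 2 by ring] at m
    exact (Nat.eq_of_mul_eq_mul_left (pow_pos hp.out.pos 1) m).symm
  have DR : ⁅T, T⁆ ≤ R := der_le_of_prime_relIndex hc.R_nml_T.nrm (i.symm ▸ hp.out)
  rcases eq_or_eq_of_prime_relIndex (i.symm ▸ hp.out) (le_inf RT (hA.cents DR le_rfl) : R ≤ T ⊓ C(⁅T, T⁆))
    inf_le_left with e' | e'
  · exact lt (e (e' ▸ norms_subcent nT.nrm (norms_der nT.nrm)))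
  · have := card_le (le_inf (der_le T) (centsC (e'.ge.trans inf_le_right)))
    rw [cD, cZ, pow_le_pow_p] at this; omega

theorem typeA (h2 : p ≠ 2) (hS : #S = p ^ 5) (NA : ∀ A ≤ S, Ab A → #A ≠ p ^ 4) (hc : Cfg p R (S ⊓ N(R)) L M)
    (hA : Abelem p R) (c : #R = p ^ 3)
    (ext : ∀ t ∈ L ⊓ N(S ⊓ N(R)), ∃ g ∈ N(S), ∀ x ∈ S ⊓ N(R), t * x * t⁻¹ = g * x * g⁻¹) :
    p = 3 ∧ ∃ X ≤ S, ¬ X ≤ ⁅S, S⁆ ∧ ⁅X, N(S)⁆ ≤ ⁅S, S⁆ := by
  obtain ⟨cT, iZ⟩ := typeA_pre hS hc hA.ab c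
  have pS : PGrp p S := pGrp_of_card hp.out hS
  have iT : (S ⊓ N(R)).relIndex S = p :=
    (relIndex_of_card_pow (n := 4) (i := 1) inf_le_left hS cT).trans (pow_one p)
  have nT := pS.nml_of_relIndex hp.out inf_le_left iT
  have cen := AI.cfg_cen hc
  have mT : ∀ g ∈ S, g ∈ N(R) → g ∈ S ⊓ N(R) := fun g h1 h2 => ⟨h1, h2⟩
  obtain ⟨sl, eD⟩ := sld_tv hc hA.ab iZ
  generalize S ⊓ N(R) = T at *
  have RT := hc.lt.le
  have TS := nT.le
  have KL := ncl_le_self hc.T_le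
  have na : ¬ Ab T := fun h => hc.not_le ((le_inf hc.T_le (h.cents RT le_rfl)).trans hc.cen)
  have eZ : R ⊓ C(T) = Z(T) := le_antisymm (inf_le_inf_right _ RT)
    (le_inf (center_le_of_ab RT hA.ab (sl.idx.symm ▸ hp.out) na) inf_le_right)
  have nY : S ≤ N(R ⊓ C(T)) := eZ ▸ norms_center nT.nrm
  have YC : R ⊓ C(T) ≤ C(T) := inf_le_right
  have tY : ∀ t ∈ L ⊓ N(T), t ∈ N(R ⊓ C(T)) := fun t ht => eZ ▸ norms_center (le_refl N(T)) ht.2
  have DK : ∀ d ∈ R ⊓ C(ncl L T), ∀ t ∈ ncl L T, t ∈ C[d] := fun d hd t ht => mem_cen1.2 (FT.mem_cen.1 hd.2 t ht)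
  generalize R ⊓ C(ncl L T) = D at *
  generalize R ⊓ C(T) = Y at *
  have YR := sl.UR
  have YT := YR.trans RT
  have cY : #Y = p ^ 2 := card_of_relIndex_pow (n := 2) (i := 1) YR c (iZ.trans (pow_one p).symm)
  have cD : #D = p := (card_of_relIndex_pow (n := 1) (i := 2) (sl.WU.trans YR) c sl.sq).trans (pow_one p)
  have cE : #⁅T, T⁆ = p := by
    have m := card_ab_max hp.out hc.pT RT hA.ab sl.idx na
    rw [c, ← eZ, cY, pow_succ] at m
    exact (Nat.eq_of_mul_eq_mul_left (pow_pos hp.out.pos 2) m).symm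
  have eE : ⁅R, T⁆ = ⁅T, T⁆ := le_antisymm (commSS RT le_rfl) (der_le_of_idx hc.R_nml_T sl.idx.dvd)
  rw [eE] at eD
  have nE : S ≤ N(⁅T, T⁆) := norms_der nT.nrm
  have EC : S ≤ C(⁅T, T⁆) := pS.cents_of_prime cE hp.out nE
  have TT : ∀ u ∈ T, ∀ v ∈ T, ⁅u, v⁆ ∈ ⁅T, T⁆ := fun u hu v hv => commutator_mem_commutator hu hv
  have tE : ∀ t ∈ N(T), t ∈ N(⁅T, T⁆) := fun t ht => norms_der (le_refl N(T)) ht
  generalize ⁅T, T⁆ = E at *
  have EY : E ≤ Y := eD ▸ le_sup_right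
  have iE : E.relIndex Y = p := (relIndex_of_card_pow (n := 1) (i := 1) EY cY (cE.trans (pow_one p).symm)).trans (pow_one p)
  have YS : ∀ u ∈ Y, ∀ s ∈ S, ⁅u, s⁆ ∈ E := fun u hu s hs =>
    comm_le_of_dvd_p pS nY nE (YT.trans (TS.trans nE)) iE.dvd (commutator_mem_commutator hu hs)
  have sym : ∀ (K : Subgroup G) u v, ⁅u, v⁆ ∈ K → ⁅v, u⁆ ∈ K := fun K u v h => by simpa using inv_mem h
  have E1 : ∀ u ∈ E, ∀ s ∈ S, ⁅s, u⁆ ∈ (⊥ : Subgroup G) := fun u hu s hs =>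
    commutatorElement_eq_one_iff_mul_comm.2 (FT.mem_cen.1 (EC hs) u hu).symm
  have nb : ∀ g : G, g ∈ N((⊥ : Subgroup G)) := fun g => norms_bot ⊤ trivial
  obtain ⟨d, hd, d1⟩ : ∃ d ∈ D, d ∉ E := SetLike.not_le_iff_exists.1 fun l => by
    have := card_le (eD.ge.trans (sup_le l le_rfl))
    rw [cY, cE] at this; exact absurd p_lt_sq this.not_gt
  have dY := sl.WU hd
  have eY := sup_zpowers_eq_of_prime (iE.symm ▸ hp.out) EY dY d1
  obtain ⟨z, hz, z1⟩ : ∃ z ∈ E, z ∉ D := SetLike.not_le_iff_exists.1 fun l => by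
    have := card_le (eD.ge.trans (sup_le le_rfl l))
    rw [cY, cD] at this; exact absurd p_lt_sq this.not_gt
  obtain ⟨r, hr, r1⟩ : ∃ r ∈ R, r ∉ Y := SetLike.not_le_iff_exists.1 fun l =>
    hp.out.ne_one (iZ.symm.trans (relIndex_eq_one.2 l))
  have eR := sup_zpowers_eq_of_prime (iZ.symm ▸ hp.out) YR hr r1
  have rS := TS (RT hr)
  have g2 : ∀ u ∈ ⁅S, S⁆, ∀ s ∈ S, ⁅u, s⁆ ∈ Y := fun u hu s hs => lcs_le_of_relIndex hp.out nY
    (relIndex_of_card_pow (n := 2) (i := 3) (YT.trans TS) hS cY) (by omega) (commutator_mem_commutator hu hs)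
  have iE0 : (⊥ : Subgroup G).relIndex E = p := by rw [relIndex_bot_left, cE]
  have main : ∀ g ∈ S, g ∉ T → ⁅r, g⁆ ∈ T ∧ ⁅r, g⁆ ∉ R ∧ (∀ s ∈ S, ⁅⁅r, g⁆, s⁆ ∈ E) ∧ ⁅d, g⁆ ≠ 1 ∧ p = 3 := by
    intro g hg g1
    have xT : ⁅r, g⁆ ∈ T := comm_le_left nT.nrm (commutator_mem_commutator (RT hr) hg)
    have xD : ⁅r, g⁆ ∈ ⁅S, S⁆ := commutator_mem_commutator rS hg
    have x1 : ⁅r, g⁆ ∉ R := fun h => g1 (mT g hg (mem_nrm_of_cj_le (by
      nth_rw 1 [← eR]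
      rw [FT.cj_sup, FT.cj_zpowers, cj_of_mem_nrm (nY hg)]
      exact sup_le YR (zpowers_le.2 (by simpa [commutatorElement_def, mul_assoc] using inv_mem (mul_mem (inv_mem hr) h))))))
    have eS := sup_zpowers_eq_of_prime (iT.symm ▸ hp.out) TS hg g1
    have tor : ∀ l : ZMod p, l ≠ 0 → ∃ h ∈ N(S), Wt p h g T (l ^ 3) ∧ Wt p h ⁅r, g⁆ Y (l ^ 2) ∧ h ∈ N(E) ∧
        (∀ u ∈ Y, Wt p h u E 1) ∧ (∀ u ∈ E, Wt p h u ⊥ l) ∧ Wt p h d ⊥ 1 := fun l l0 => by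
      obtain ⟨t, tK, tT, w1, w2, w3⟩ := sl.torus l l0
      obtain ⟨h, hN, e⟩ := ext t ⟨KL tK, tT⟩
      have hT := nrm_of_agree tT le_rfl e
      have hY := nrm_of_agree (tY t ⟨KL tK, tT⟩) YT e
      obtain ⟨m, -, wm⟩ := wt_section nT iT hN hT
      have wx : Wt p h ⁅r, g⁆ Y (l⁻¹ * m) := ((w2 r hr).congr (e r (RT hr))).comm (wm g hg) (nY rS) (nY hg) hY
        (YT.trans (TS.trans nY)) (TS.trans nY) (fun u hu => EY (YS u hu g hg)) (fun v hv => EY (TT r (RT hr) v hv))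
        (commutator_le.2 fun u hu v hv => EY (TT u (YT hu) v hv)) (sym _ _ _ (g2 _ xD r rS)) (sym _ _ _ (g2 _ xD g hg))
      have e1 := (wx.mono YR).uniq (hc.pT.piElt xT) x1 ((w3 _ xT).congr (e _ xT))
      have e2 : m = l ^ 3 := by rw [← mul_inv_cancel_left₀ l0 m, e1]; ring
      have wd : Wt p h d ⊥ 1 := (Wt.of_cen (DK d hd t tK)).congr (e d (YT dY))
      obtain ⟨a, -, wa⟩ := wt_section ⟨bot_le, norms_bot E⟩ iE0 (tE h hT) (nb h)
      have e3 := ((wa z hz).mono bot_le).uniq (hc.pT.piElt (YT (EY hz))) z1 ((w1 z (EY hz)).congr (e z (YT (EY hz))))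
      exact ⟨h, hN, e2 ▸ wm g hg, e1 ▸ wx, tE h hT, fun u hu => (wd.mono bot_le).change (nE (TS (YT dY))) (tE h hT)
        (eY.symm ▸ hu), e3 ▸ wa, wd⟩
    have y1 : ⁅⁅r, g⁆, g⁆ ∈ E := by
      by_contra y1
      obtain ⟨h, hN, w1, w2, hE, w3, -⟩ := tor (-1) (neg_ne_zero.2 one_ne_zero)
      have yY := g2 _ xD g hg
      have := (w2.comm w1 (nE (TS xT)) (nE hg) hE (YT.trans (TS.trans nE)) (TS.trans nE) (fun u hu => YS u hu g hg)
        (TT _ xT) (commutator_le.2 fun u hu v hv => TT u (YT hu) v hv) (TT _ xT _ (YT yY))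
        (sym _ _ _ (YS _ yY g hg))).uniq (hc.pT.piElt (YT yY)) y1 (w3 _ yY)
      exact neg_one_ne_one_zmod h2 (Eq.trans (by ring) this)
    have xS : ⁅⟪⁅r, g⁆⟫, S⁆ ≤ E := by
      nth_rw 1 [← eS]
      exact comm_sup_le' (eS ▸ nE) (commutator_le.2 fun u hu v hv => TT u (zpowers_le.2 xT hu) v hv)
        (bg4_comm_zpowers_zpowers (nE (TS xT)) (nE hg) y1)
    have dg : ⁅d, g⁆ ≠ 1 := fun e => by
      have dS : d ∈ C(S) := by
        rw [← eS, cen_sup, cen_zpowers]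
        exact ⟨YC dY, mem_cen1.2 (commutatorElement_eq_one_iff_mul_comm.1 e)⟩
      have YS' : Y ≤ C(S) := eY ▸ sup_le (centsC EC) (zpowers_le.2 dS)
      have XS : Y ⊔ ⟪⁅r, g⁆⟫ ≤ S := sup_le (YT.trans TS) (zpowers_le.2 (TS xT))
      have iX : Y.relIndex (Y ⊔ ⟪⁅r, g⁆⟫) = p := relIndex_sup_zpowers hp.out (nY (TS xT)) (fun h => x1 (YR h)) (by
        have h1 : ⁅r, g⁆ ^ p ∈ R := sl.idx ▸ pow_relIndex_mem hc.R_nml_T.nrm xT
        by_contra h3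
        refine x1 (cen ⟨TS xT, ?_⟩)
        rw [← sup_zpowers_eq_of_prime (iZ.symm ▸ hp.out) YR h1 h3, cen_sup]
        exact ⟨centsC YC xT, (ab_zpowers _).cents (zpowers_le.2 (npow_mem_zpowers _ p)) le_rfl (mem_zpowers _)⟩)
      have abX : Ab (Y ⊔ ⟪⁅r, g⁆⟫) := ab_of_center_prime (le_inf le_sup_left (YS'.trans (cen_anti XS))) (iX.symm ▸ hp.out)
      have cX := card_of_relIndex le_sup_left iX
      have e1 : (Y ⊔ ⟪⁅r, g⁆⟫) ⊓ C(S) = Y := (eq_or_eq_of_prime_relIndex (iX.symm ▸ hp.out) (le_inf le_sup_left YS')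
        inf_le_left).resolve_right fun e => x1 (cen ⟨TS xT, cen_anti (RT.trans TS)
          ((e.ge (mem_sup_right (mem_zpowers _))).2)⟩)
      have XE : ⁅Y ⊔ ⟪⁅r, g⁆⟫, S⁆ ≤ E := comm_sup_le (XS.trans nE) (commutator_le.2 YS) xS
      have := comm_count_eq (pS.mono XS) pS cE.le fun a ha b hb => XE (commutator_mem_commutator ha hb)
      rw [e1, cX, cY, hS, show p ^ 2 * p ^ 5 = p * p ^ 2 * p ^ 4 by ring] at this
      have c4 := Nat.eq_of_mul_eq_mul_left (Nat.mul_pos hp.out.pos (pow_pos hp.out.pos 2)) this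
      have l : Y ⊔ ⟪⁅r, g⁆⟫ ≤ S ⊓ C(Y ⊔ ⟪⁅r, g⁆⟫) := le_inf XS abX.le_cen
      exact NA _ inf_le_left (ab_of_center_prime (le_inf l (centsC inf_le_right))
        ((relIndex_of_card_mul (n := p) l (by rw [c4, cX, cY]; ring)).symm ▸ hp.out)) c4
    refine ⟨xT, x1, fun s hs => xS (commutator_mem_commutator (mem_zpowers _) hs), dg, ?_⟩
    have : p - 1 ∣ 2 := sub_one_dvd_of_pow fun l l0 => by
      obtain ⟨h, hN, w1, -, -, -, w2, w3⟩ := tor l l0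
      have m := YS d dY g hg
      have := (w3.comm w1 (nb _) (nb _) (nb _) (norms_bot _) (norms_bot _) (fun u hu => by simp [mem_bot.1 hu])
        (fun v hv => commutatorElement_eq_one_iff_mul_comm.2 (FT.mem_cen.1 (YC dY) v hv).symm)
        (by simp) (E1 _ m d (TS (YT dY))) (E1 _ m g hg)).uniq (hc.pT.piElt (YT (EY m))) dg (w2 _ m)
      exact mul_left_cancel₀ l0 (by rw [mul_one]; nth_rw 3 [← this]; ring)
    have h3 := Nat.le_of_dvd two_pos this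
    have h4 := hp.out.two_le
    omega
  obtain ⟨g, hg, g1⟩ : ∃ g ∈ S, g ∉ T := SetLike.not_le_iff_exists.1 fun l =>
    hp.out.ne_one (iT.symm.trans (relIndex_eq_one.2 l))
  have p3 := (main g hg g1).2.2.2.2
  have ES : E ≤ S := EY.trans (YT.trans TS)
  have der : ∀ g ∈ S, g ∉ T → ⁅S, S⁆ = E ⊔ ⟪⁅r, g⁆⟫ ∧ E.relIndex ⁅S, S⁆ = p ∧ Y ⊔ ⟪⁅r, g⁆⟫ = ucn 2 S ∧
      Y.relIndex (ucn 2 S) = p := fun g hg g1 => by
    obtain ⟨xT, x1, xS, dg, -⟩ := main g hg g1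
    have eS := sup_zpowers_eq_of_prime (iT.symm ▸ hp.out) TS hg g1
    have xp : ⁅r, g⁆ ^ p ∈ E := by
      refine (coset_eq_one_iff (pow_mem (nE (TS xT)) p)).1 ?_
      rw [coset_pow (nE (TS xT)), coset_comm (nE rS) (nE hg), ← comm_pow_left, ← coset_pow (nE rS), hA.pow hr,
        coset_one, commutatorElement_one_left]
      rw [← coset_comm (nE rS) (nE hg)]
      exact commutatorElement_eq_one_iff_commute.1 (by
        rw [← coset_comm (nE rS) (nE (TS xT)), coset_of_mem (TT r (RT hr) _ xT)])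
    have XE : ⁅Y ⊔ ⟪⁅r, g⁆⟫, S⁆ ≤ E := comm_sup_le ((sup_le (YT.trans TS) (zpowers_le.2 (TS xT))).trans nE)
      (commutator_le.2 YS) (bg4_comm_zpowers_le (nE (TS xT)) xS)
    have eT : Y ⊔ ⟪⁅r, g⁆⟫ ⊔ ⟪r⟫ = T := by
      rw [sup_right_comm, eR, hc.sup_eq sl.idx xT x1]
    have WS : E ⊔ ⟪⁅r, g⁆⟫ ≤ S := sup_le ES (zpowers_le.2 (TS xT))
    have nW : S ≤ N(E ⊔ ⟪⁅r, g⁆⟫) := norms_of_comm_le
      ((commSS (sup_le_sup_right EY _) le_rfl).trans (XE.trans le_sup_left))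
    have e1 : ⁅S, S⁆ = E ⊔ ⟪⁅r, g⁆⟫ := by
      refine le_antisymm ((der_le_of_idx nT iT.dvd).trans ?_) (sup_le ?_ (zpowers_le.2 (commutator_mem_commutator rS hg)))
      · nth_rw 1 [← eS]
        refine comm_sup_le' (eS ▸ nW) ((commutator_le.2 TT).trans le_sup_left) ?_
        rw [← eT]
        exact comm_sup_le (eT ▸ TS.trans nW) ((commSS le_rfl (zpowers_le.2 hg)).trans (XE.trans le_sup_left))
          (bg4_comm_zpowers_zpowers (nW rS) (nW hg) (mem_sup_right (mem_zpowers _)))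
      · rw [eq_zpowers_of_prime (cE.symm ▸ hp.out) (YS d dY g hg) dg]
        exact zpowers_le.2 (commutator_mem_commutator (TS (YT dY)) hg)
    have eZS : Z(S) = E := (eq_or_eq_of_prime_relIndex (iE.symm ▸ hp.out) (le_inf ES (centsC EC))
      (eZ ▸ le_inf ((inf_le_inf_left S (cen_anti (RT.trans TS))).trans (cen.trans RT))
        (inf_le_right.trans (cen_anti TS)))).resolve_right fun e =>
          dg (commutatorElement_eq_one_iff_mul_comm.2 (FT.mem_cen.1 (e.ge dY).2 g hg).symm)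
    have iX : Y.relIndex (Y ⊔ ⟪⁅r, g⁆⟫) = p := relIndex_sup_zpowers hp.out (nY (TS xT)) (fun h => x1 (YR h)) (EY xp)
    have l : Y ⊔ ⟪⁅r, g⁆⟫ ≤ ucn 2 S := le_ucn_two.2 ⟨sup_le (YT.trans TS) (zpowers_le.2 (TS xT)), eZS ▸ XE⟩
    have e2 : Y ⊔ ⟪⁅r, g⁆⟫ = ucn 2 S := by
      obtain ⟨k, hk, ck⟩ := card_cases_of_le (ucn_le 2 S) hS
      refine eq_of_le_of_card_ge l ?_
      rw [card_of_relIndex le_sup_left iX, cY, ck, ← pow_succ', pow_le_pow_p]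
      by_contra k4
      refine x1 (YR (EY (eZS ▸ (der_le_of_idx (p := p) (ucn_nml 2 S) ?_).trans (ucn_two_comm S)
        (commutator_mem_commutator rS hg))))
      rw [(relIndex_eq_pow hp.out (ucn_le 2 S) hS ck).2]
      exact (pow_dvd_pow p (by omega)).trans (pow_one p).dvd
    exact ⟨e1, e1 ▸ relIndex_sup_zpowers hp.out (nE (TS xT)) (fun h => x1 (YR (EY h))) xp, e2, e2 ▸ iX⟩
  obtain ⟨e1, i1, e2, i2⟩ := der g hg g1
  have cD' : #⁅S, S⁆ = p ^ 2 := by rw [card_of_relIndex (e1 ▸ le_sup_left) i1, cE, pow_two]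
  have cX : #(ucn 2 S) = p ^ 3 := by rw [card_of_relIndex (e2 ▸ le_sup_left) i2, cY, ← pow_succ']
  have r2 : ∀ g ∈ S, g ∉ T → ⁅⁅r, g⁆, r⁆ ≠ 1 := fun g hg g1 e => by
    obtain ⟨xT, x1, -⟩ := main g hg g1
    refine x1 (cen ⟨TS xT, ?_⟩)
    rw [← eR, cen_sup, cen_zpowers]
    exact ⟨centsC YC xT, mem_cen1.2 (commutatorElement_eq_one_iff_mul_comm.1 e)⟩
  have rK : r ∉ S ⊓ C(⁅S, S⁆) := fun h => r2 g hg g1 (commutatorElement_eq_one_iff_mul_comm.2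
    (FT.mem_cen.1 h.2 _ (commutator_mem_commutator rS hg)))
  have iK : (S ⊓ C(⁅S, S⁆)).relIndex S = p := ((Nat.dvd_prime hp.out).1 (by
    rw [inf_relIndex_left]; exact relIndex_cen_dvd pS cD' (der_nml S).nrm)).resolve_left
      fun e => rK (relIndex_eq_one.1 e rS)
  have cK : #(S ⊓ C(⁅S, S⁆)) = p ^ 4 := card_of_relIndex_pow (n := 4) (i := 1) inf_le_left hS (iK.trans (pow_one p).symm)
  obtain ⟨k, hk, k1⟩ : ∃ k ∈ S ⊓ C(⁅S, S⁆), k ∉ T := SetLike.not_le_iff_exists.1 fun l =>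
    rK (eq_of_le_of_card_ge l (by rw [cK, cT]) ▸ RT hr)
  obtain ⟨e3, -, e4, -⟩ := der k hk.1 k1
  obtain ⟨xT, x1, xS, dk, -⟩ := main k hk.1 k1
  have XT : ucn 2 S ≤ T := e4 ▸ sup_le YT (zpowers_le.2 xT)
  have XE : ∀ u ∈ ucn 2 S, ∀ s ∈ S, ⁅u, s⁆ ∈ E := commutator_le.1 (e4 ▸ comm_sup_le
    ((sup_le (YT.trans TS) (zpowers_le.2 (TS xT))).trans nE) (commutator_le.2 YS) (bg4_comm_zpowers_le (nE (TS xT)) xS))
  have DX : ⁅S, S⁆ ≤ ucn 2 S := e3 ▸ e4 ▸ sup_le_sup_right EY _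
  have abX : Ab (ucn 2 S) := ab_of_center_prime (le_inf (e4 ▸ le_sup_left) (YC.trans (cen_anti XT))) (i2.symm ▸ hp.out)
  have XK : ucn 2 S ≤ S ⊓ C(⁅S, S⁆) := le_inf (ucn_le 2 S) (abX.cents DX le_rfl)
  have iXK : (ucn 2 S).relIndex (S ⊓ C(⁅S, S⁆)) = p := (relIndex_of_card_pow (n := 3) (i := 1) XK cK cX).trans (pow_one p)
  have iDX : ⁅S, S⁆.relIndex (ucn 2 S) = p := (relIndex_of_card_pow (n := 2) (i := 1) DX cX cD').trans (pow_one p)
  have kX : k ∉ ucn 2 S := fun h => k1 (XT h)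
  have eK := sup_zpowers_eq_of_prime (iXK.symm ▸ hp.out) XK hk kX
  have KK : ∀ u ∈ S ⊓ C(⁅S, S⁆), ⁅u, k⁆ ∈ E := fun u hu => by
    obtain ⟨c, hc', j, rfl⟩ := (mem_sup_zpowers_iff_nat ((ucn_nml 2 S).nrm hk.1)).1 (eK.symm ▸ hu :)
    convert XE c hc' k hk.1 using 1
    simp only [commutatorElement_def]; group
  have eZS : E = Z(S) := eq_of_le_prime (cE.symm ▸ hp.out) ?_ ?_ |>.symm
  rotate_left
  · exact (eq_or_eq_of_prime_relIndex (iE.symm ▸ hp.out) (le_inf ES (centsC EC))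
      (eZ ▸ le_inf ((inf_le_inf_left S (cen_anti (RT.trans TS))).trans (cen.trans RT))
        (inf_le_right.trans (cen_anti TS)))).resolve_right (fun e =>
          dk (commutatorElement_eq_one_iff_mul_comm.2 (FT.mem_cen.1 (e.ge dY).2 k hk.1).symm)) |>.le
  · exact ne_bot_of_le (le_inf ES (centsC EC)) fun e => z1 (mem_bot.1 (e ▸ hz) ▸ one_mem D)
  refine ⟨p3, ucn 2 S, ucn_le 2 S, fun l => hp.out.ne_one (iDX.symm.trans (relIndex_eq_one.2 l)),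
    commutator_le.2 fun u hu n hn => ?_⟩
  have n1 := norms_der (le_refl N(S)) hn
  have n2 := norms_ucn 2 (le_refl N(S)) hn
  have n3 := norms_subcent (le_refl N(S)) (norms_der le_rfl) hn
  have n4 : n ∈ N(E) := eZS ▸ norms_center (le_refl N(S)) hn
  obtain ⟨ε, ε0, wε⟩ := wt_section ⟨inf_le_left, norms_subcent (le_nrm S) (der_nml S).nrm⟩ iK hn n3
  obtain ⟨κ, κ0, wκ⟩ := wt_section ⟨XK, inf_le_left.trans (ucn_nml 2 S).nrm⟩ iXK n3 n2
  obtain ⟨δ, -, wδ⟩ := wt_section ⟨DX, (ucn_le 2 S).trans (der_nml S).nrm⟩ iDX n2 n1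
  obtain ⟨η, -, wη⟩ := wt_section ⟨bot_le, norms_bot E⟩ iE0 n4 (nb n)
  have xD : ⁅r, k⁆ ∈ ⁅S, S⁆ := commutator_mem_commutator rS hk.1
  have w1 : Wt p n ⁅r, k⁆ E (ε * κ) := (wε r rS).comm (wκ k hk) (nE rS) (nE hk.1) n4 (inf_le_left.trans nE)
    ((ucn_le 2 S).trans nE) KK (fun v hv => sym _ _ _ (XE v hv r rS))
    (commutator_le.2 fun a ha b hb => sym _ _ _ (XE b hb a ha.1)) (sym _ _ _ (xS r rS)) (sym _ _ _ (xS k hk.1))
  have one : ∀ a b : G, a * b = b * a → ⁅a, b⁆ ∈ (⊥ : Subgroup G) := fun a b => commutatorElement_eq_one_iff_mul_comm.2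
  have w2 := (w1.comm (wε r rS) (nb _) (nb _) (nb _) (norms_bot _) (norms_bot _)
    (fun u hu => sym _ _ _ (E1 u hu r rS)) (fun v hv => one _ _ (FT.mem_cen.1 hv.2 _ xD))
    (commutator_le.2 fun a ha b hb => sym _ _ _ (E1 a ha b hb.1)) (E1 _ (xS r rS) _ (TS xT))
    (E1 _ (xS r rS) _ rS)).uniq (pS.piElt (ES (xS r rS))) (r2 k hk.1 k1) (wη _ (xS r rS))
  have dX : d ∈ ucn 2 S := e4 ▸ mem_sup_left dY
  have m := YS d dY k hk.1
  have w3 := ((wδ d dX).comm (wκ k hk) (nb _) (nb _) (nb _) (norms_bot _) (norms_bot _)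
    (fun u hu => one _ _ (FT.mem_cen.1 hk.2 u hu)) (fun v hv => one _ _ (abX.comm dX hv))
    (commutator_le.2 fun a ha b hb => one _ _ (abX.comm (DX ha) hb)) (E1 _ m _ (TS (YT dY)))
    (E1 _ m _ hk.1)).uniq (pS.piElt (ES m)) dk (wη _ m)
  have e5 : δ = 1 := by
    have := ZMod.pow_card_sub_one_eq_one ε0
    rw [show p - 1 = 2 by omega] at this
    exact mul_right_cancel₀ κ0 (by rw [w3, ← w2, ← this]; ring)
  simpa using ((wδ _ (inv_mem hu)).cast e5).comm_mem (iDX ▸ pow_relIndex_mem ((ucn_le 2 S).trans (der_nml S).nrm) (inv_mem hu))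

variable {F : FusionSystem S}

theorem ess_card_five (hS : #S = p ^ 5) (hc : Cfg p R (S ⊓ N(R)) L M) : #R = p ^ 2 ∨ #R = p ^ 3 ∨ #R = p ^ 4 := by
  obtain ⟨k, -, c⟩ := card_cases_of_le (AI.cfg_RS hc) hS
  have h1 := hc.sq_le
  have h2 := card_lt (hc.lt.trans_le inf_le_left)
  rw [c, pow_le_pow_p] at h1
  rw [c, hS, Nat.pow_lt_pow_iff_right hp.out.one_lt] at h2
  rw [c]
  interval_cases k <;> simp

theorem nrm_of_four (hS : #S = p ^ 5) (hR : R ≤ S) (c : #R = p ^ 4) : S ⊓ N(R) = S :=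
  inf_eq_left.2 ((pGrp_of_card hp.out hS).nml_of_relIndex hp.out hR
    ((relIndex_of_card_pow (n := 4) (i := 1) hR hS c).trans (pow_one p))).nrm

theorem no_four (hS : #S = p ^ 5) (NA : ∀ A ≤ S, Ab A → #A ≠ p ^ 4) (hF : F.IsSaturated p) (hB : Big S)
    (hR : F.IsEssential p R) (hV : F.IsEssential p V) (c : #V = p ^ 4) {φ : G → G} (hf : H17.Mor F (S ⊓ N(R)) φ) :
    ¬ H17.img φ (S ⊓ N(R)) ≤ V := fun l => by
  have pS : PGrp p S := pGrp_of_card hp.out hS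
  obtain ⟨L, M, hL, hc⟩ := exists_cfg pS hF hB hV
  obtain ⟨L', M', -, hc'⟩ := exists_cfg pS hF hB hR
  have VS := ess_le' hV
  have na : ¬ Ab V := fun h => NA V VS h c
  obtain ⟨-, cZ⟩ := four_data hc c na
  obtain ⟨-, U, sl⟩ := sld_four hc c na
  rw [nrm_of_four hS VS c] at sl
  have hf' := hf.mono hc'.lt.le
  have lt := (hf.img_lt hc'.lt le_rfl).trans_le l
  have cen : S ⊓ C(H17.img φ R) ≤ H17.img φ R := hR.1.2 _ hf'.isConj
  have cj := hf'.isConj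
  generalize H17.img φ R = R' at *
  have ZR : Z(V) ≤ R' := (inf_le_inf VS (cen_anti lt.le)).trans cen
  have ne : ¬ R' ≤ Z(V) := fun e => lt.not_ge ((le_inf VS (centsC (e.trans inf_le_right))).trans cen)
  obtain ⟨v, hv, v1⟩ := SetLike.not_le_iff_exists.1 ne
  obtain ⟨k, -, ck⟩ := card_cases_of_le lt.le c
  have k3 : k = 3 := by
    have h1 := card_lt lt
    have h2 := card_lt (lt_of_le_of_ne ZR fun e => ne e.ge)
    rw [ck, c, Nat.pow_lt_pow_iff_right hp.out.one_lt] at h1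
    rw [ck, cZ, Nat.pow_lt_pow_iff_right hp.out.one_lt] at h2
    omega
  subst k3
  have e := sup_zpowers_eq_of_prime (((relIndex_of_card_pow (n := 2) (i := 1) ZR ck cZ).trans (pow_one p)).symm ▸ hp.out)
    ZR hv v1
  obtain ⟨g, hg, h⟩ := sl.trans v (lt.le hv)
  have e' : FT.cj g R' = U := eq_of_le_of_card_ge (by
    rw [← e, FT.cj_sup, FT.cj_zpowers, cj_of_mem_nrm (norms_center hc.nR hg)]
    exact sup_le sl.WU (zpowers_le.2 h)) (by rw [FT.card_cj, ck, card_of_relIndex sl.WU sl.iW, cZ, ← pow_succ'])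
  have := hR.2.1.2 U (H17.isConj_trans cj (e' ▸ hL.isConj hg (lt.le.trans hL.R_le) (e' ▸ sl.UR.trans VS)))
  have h1 : S ≤ S ⊓ N(U) := le_inf le_rfl (norms_of_comm_le (sl.UT.trans sl.WU))
  have h2 := (card_le h1).trans (this.trans ((hf.card_img le_rfl).ge.trans (card_le l)))
  rw [hS, c, pow_le_pow_p] at h2
  omega

theorem ext_cube (hS : #S = p ^ 5) (NA : ∀ A ≤ S, Ab A → #A ≠ p ^ 4) (hF : F.IsSaturated p) (hB : Big S)
    (hH : Loc p F S H) (hR : F.IsEssential p R) (hL : Loc p F R L)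
    (h3 : ∀ V, F.IsEssential p V → #V = p ^ 3 → Ab V ∨ p ^ 3 ≤ #R) (ht : t ∈ L ⊓ N(S ⊓ N(R))) :
    ∃ g ∈ H, ∀ x ∈ S ⊓ N(R), t * x * t⁻¹ = g * x * g⁻¹ := by
  have pS : PGrp p S := pGrp_of_card hp.out hS
  have hc := hL.cfg pS hF hR
  refine loc_ext pS hF hH hL (fun φ hf V hV l => ?_) ht
  obtain ⟨L', M', -, hc'⟩ := exists_cfg pS hF hB hV
  have h1 := (card_lt hc.lt).trans_le ((hf.card_img le_rfl).ge.trans (card_le l))
  have h2 := hc.sq_le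
  rcases ess_card_five hS hc' with c | c | c
  · omega
  · rcases h3 V hV c with h | h
    · have lt := hf.img_lt hc.lt le_rfl
      exact lt.not_ge ((le_inf hf.img_le (h.cents (lt.le.trans l) l)).trans (hR.1.2 _ (hf.mono hc.lt.le).isConj))
    · omega
  · exact no_four hS NA hF hB hR hV c hf l

theorem no_typeQ (h2 : p ≠ 2) (hS : #S = p ^ 5) (NA : ∀ A ≤ S, Ab A → #A ≠ p ^ 4) (hF : F.IsSaturated p) (hB : Big S)
    (hR : F.IsEssential p R) (c : #R = p ^ 3) : Ab R := by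
  by_contra na
  have pS : PGrp p S := pGrp_of_card hp.out hS
  obtain ⟨L, M, hL, hc⟩ := exists_cfg pS hF hB hR
  obtain ⟨H, hH⟩ := exists_loc_top pS hF hB
  have RS := ess_le' hR
  have h := maxCl_of_cen_cube hp.out hS RS c na (ess_cen hR)
  obtain ⟨x, hx, cx⟩ := exists_cen1_cube pS RS c na (ess_cen hR)
  obtain ⟨U, sl⟩ := sld_cube hc c na
  have eZ : Z(R) = γ[3](S) := h.center_eq (by omega) ▸ (eq_of_le_of_card_ge
    (le_inf (ess_center_le hR) (inf_le_right.trans (cen_anti RS)))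
    (by rw [(bg4_p3_center hp.out c na).1, h.card_center (by omega)])).symm
  have c2 : ∀ A ≤ S, ⁅γ[2](S), A⁆ ≤ Z(R) := fun A hA => eZ ▸ commSS le_rfl hA
  have l : γ[2](S) ≤ R := fun y hy => sl.key y (le_ncl _ _ ⟨lcs_le 2 S hy, norms_of_comm_le_of_le (H := R)
    (by rw [commutator_comm]; exact (c2 R RS).trans inf_le_left) le_rfl hy⟩)
      (by rw [commutator_comm]; exact (commSS (zpowers_le.2 hy) le_rfl).trans (c2 R RS))
  have eU := sl.eq_U (eZ ▸ lcs_anti S (by omega)) l (eZ ▸ (idx_lcs h (k := 2) (j := 1) (by omega) (by omega)).trans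
    (pow_one p)) (c2 _ inf_le_left) hc.not_le (hc.T_le.trans (norms_center hc.nR)) hc.lt.le
  obtain ⟨t, tK, tT, w1, w2, -⟩ := sl.torus (-1) (neg_ne_zero.2 one_ne_zero)
  obtain ⟨g, hg, e⟩ := ext_cube hS NA hF hB hH hR hL (fun _ _ _ => Or.inr c.ge) ⟨ncl_le_self hc.T_le tK, tT⟩
  obtain ⟨a, -, a1, -, a2, -⟩ := mc5 h (RS hx) cx (fun h' => NA _ (tsc_le 1 S) h' (card_tsc h le_rfl (by omega)))
    (hH.nR hg)
  have e1 := (a1 x (RS hx)).uniq (pS.piElt (RS hx)) (not_mem_tsc h (RS hx) cx le_rfl (by omega))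
    (((w2 x hx).congr (e x (hc.lt.le hx))).mono (eU ▸ (lcs_anti S (by omega)).trans (der_le_tsc 1 S)))
  obtain ⟨y, hy, y1⟩ := SetLike.not_le_iff_exists.1 (not_lcs_le h (k := 2) (by omega))
  have e2 := (a2 y hy).uniq (pS.piElt (lcs_le _ S hy)) y1 (eZ ▸ (w1 y (eU ▸ hy)).congr (e y (hc.lt.le (l hy))))
  exact neg_one_ne_one_zmod h2 (by rw [← e2, e1, inv_neg, inv_one]; ring)

theorem typeP (h2 : p ≠ 2) (h7 : p ≠ 7) (hS : #S = p ^ 5) (NA : ∀ A ≤ S, Ab A → #A ≠ p ^ 4)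
    (hc : Cfg p R (S ⊓ N(R)) L M) (c : #R = p ^ 2)
    (ext : ∀ t ∈ L ⊓ N(S ⊓ N(R)), ∃ g ∈ N(S), ∀ x ∈ S ⊓ N(R), t * x * t⁻¹ = g * x * g⁻¹) :
    p = 3 ∧ ∃ X ≤ S, ¬ X ≤ ⁅S, S⁆ ∧ ⁅X, N(S)⁆ ≤ ⁅S, S⁆ := by
  have pS : PGrp p S := pGrp_of_card hp.out hS
  have RS := AI.cfg_RS hc
  have h := maxCl_of_cen_sq hp.out hS RS c (AI.cfg_cen hc)
  obtain ⟨x, hx, -, cx⟩ := exists_cen1_sq pS RS c (AI.cfg_cen hc)
  replace cx := (card_le cx).trans c.le
  obtain ⟨U, sl⟩ := sld_sq hc c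
  have eU := sl.eq_U bot_le (AI.cfg_Z hc) (by rw [relIndex_bot_left, h.card_center (by omega)])
    (comm_eq_bot.2 (inf_le_right.trans (cen_anti inf_le_left))).le hc.not_le (norms_bot _) hc.lt.le
  rw [h.center_eq (by omega)] at eU
  have na : ¬ Ab (tsc 1 S) := fun h' => NA _ (tsc_le 1 S) h' (card_tsc h le_rfl (by omega))
  obtain ⟨y, hy, y1⟩ := SetLike.not_le_iff_exists.1 (not_lcs_le h (k := 3) (by omega))
  rw [show γ[3 + 1](S) = ⊥ from h.eq_bot] at y1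
  have p3 : p = 3 := by
    have : p - 1 ∣ 6 := sub_one_dvd_of_pow fun l l0 => by
      obtain ⟨t, tK, tT, w1, w2, -⟩ := sl.torus l l0
      obtain ⟨g, hg, e⟩ := ext t ⟨ncl_le_self hc.T_le tK, tT⟩
      obtain ⟨a, -, a1, -, -, a2⟩ := mc5 h (RS hx) cx na hg
      have e1 := (a1 x (RS hx)).uniq (pS.piElt (RS hx)) (not_mem_tsc h (RS hx) cx le_rfl (by omega))
        (((w2 x hx).congr (e x (hc.lt.le hx))).mono (eU ▸ (lcs_anti S (by omega)).trans (der_le_tsc 1 S)))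
      have e2 := (a2 y hy).uniq (pS.piElt (lcs_le _ S hy)) y1
        ((w1 y (eU ▸ hy)).congr (e y (hc.lt.le (sl.UR (eU ▸ hy)))))
      rw [e1] at e2
      calc l ^ 6 = l ^ 5 * l⁻¹ ^ 5 := by rw [e2]; ring
        _ = 1 := by rw [← mul_pow, mul_inv_cancel₀ l0, one_pow]
    have h3 := Nat.le_of_dvd (by omega) this
    have h4 := hp.out.two_le
    have h5 := hp.out
    have h6 : p ≤ 7 := by omega
    interval_cases p <;> first | rfl | omega | exact absurd h5 (by norm_num)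
  have i : (γ[1](S)).relIndex (tsc 1 S) = p := relIndex_of_card_mul (der_le_tsc 1 S) (by
    rw [card_tsc h le_rfl (by omega), h.card_lcs le_rfl, ← pow_succ'])
  refine ⟨p3, tsc 1 S, tsc_le 1 S, fun l => hp.out.ne_one (i.symm.trans (relIndex_eq_one.2 l)),
    commutator_le.2 fun u hu n hn => ?_⟩
  obtain ⟨a, a0, -, a1, -⟩ := mc5 h (RS hx) cx na hn
  have := ZMod.pow_card_sub_one_eq_one a0
  rw [show p - 1 = 2 by omega] at this
  simpa using ((a1 _ (inv_mem hu)).cast this).comm_mem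
    (i ▸ pow_relIndex_mem ((tsc_le 1 S).trans (lcs_nml 1 S).nrm) (inv_mem hu))

theorem five_main (h2 : p ≠ 2) (h7 : p ≠ 7) (hS : #S = p ^ 5) (hF : F.IsSaturated p) (hB : Big S) (h0 : F.core = ⊥)
    (hh : S ≤ F.hyperfocalSubgroup p) : ∃ A ≤ S, Ab A ∧ #A = p ^ 4 := by
  by_contra! NA
  have pS : PGrp p S := pGrp_of_card hp.out hS
  obtain ⟨H, hH⟩ := exists_loc_top pS hF hB
  have ext := fun R L (hR : F.IsEssential p R) (hL : Loc p F R L) t => ext_cube (t := t) hS NA hF hB hH hR hL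
    fun V hV c => Or.inl (no_typeQ h2 hS NA hF hB hV c)
  have ext' := fun R L hR hL t ht => (ext R L hR hL t ht).imp fun g h => (⟨hH.nR h.1, h.2⟩ : g ∈ N(S) ∧ _)
  have cube : ∀ R L M, F.IsEssential p R → Cfg p R (S ⊓ N(R)) L M → #R = p ^ 3 → Abelem p R := fun R L M hR hc c => by
    rcases hc.cube c with h | h | h
    · exact h
    · exact absurd (no_typeQ h2 hS NA hF hB hR c) h.2.1
    · exact absurd h.1 h2
  have S1 : S ≠ ⊥ := fun e => by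
    rw [e, card_bot] at hS; exact absurd (Nat.pow_eq_one.1 hS.symm) (by simp [hp.out.ne_one])
  obtain ⟨X, XS, X1, X2⟩ : ∃ X ≤ S, ¬ X ≤ ⁅S, S⁆ ∧ ⁅X, N(S)⁆ ≤ ⁅S, S⁆ := by
    by_contra ne
    refine pS.nil.meet_center (Nml.refl S) S1 (eq_bot_iff.2 (inf_le_right.trans (eq_bot_of_core h0
      (normal_of_loc pS hF hH inf_le_left (norms_center hH.nR) fun R hR => ⟨ess_center_le hR, ?_⟩)).le))
    obtain ⟨L, M, hL, hc⟩ := exists_cfg pS hF hB hR
    refine ⟨L, hL, ?_⟩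
    rcases ess_card_five hS hc with c | c | c
    · exact absurd (typeP h2 h7 hS NA hc c (ext' R L hR hL)).2 ne
    · exact absurd (typeA h2 hS NA hc (cube R L M hR hc c) c (ext' R L hR hL)).2 ne
    have RS := ess_le' hR
    obtain ⟨cD, cZ⟩ := four_data hc c fun h => NA R RS h c
    have l : Z(S) ≤ Z(R) := le_inf (ess_center_le hR) (inf_le_right.trans (cen_anti RS))
    have nR : S ≤ N(R) := (nrm_of_four hS RS c).ge.trans inf_le_right
    have l' : ⁅R, R⁆ ≤ Z(S) := le_inf ((der_le R).trans RS) (centsC (pS.cents_of_prime cD hp.out (norms_der nR)))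
    rcases eq_or_eq_of_prime_relIndex ((sld_four hc c fun h => NA R RS h c).1.symm ▸ hp.out) l' l with e | e
    · exact e ▸ norms_der hc.nR
    · exact e ▸ norms_center hc.nR
  obtain ⟨D, lt, nD, hD⟩ := exists_top_quo hH.top_syl hH.nR XS X1 ((commSS le_rfl hH.nR).trans X2)
  refine lt.not_ge (hh.trans (hyp_le_of_loc pS hF nD fun R hR => ?_))
  rcases hR with rfl | hR
  · exact ⟨H, hH, fun g hg _ => (commSS le_rfl (zpowers_le.2 hg)).trans hD⟩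
  obtain ⟨L, M, hL, hc⟩ := exists_cfg pS hF hB hR
  refine ⟨L, hL, fun g hg _ => (commSS le_rfl (zpowers_le.2 hg)).trans ?_⟩
  have key : ⁅R, L ⊓ N(S ⊓ N(R))⁆ ≤ D := commutator_le.2 fun r hr t ht => by
    obtain ⟨g, hg, e⟩ := ext R L hR hL t ht
    have := hD (commutator_mem_commutator (ess_le' hR hr) hg)
    rwa [commutatorElement_def, mul_assoc, mul_assoc, ← mul_assoc g, ← e _ (hc.lt.le (inv_mem hr)), ← mul_assoc,
      ← mul_assoc] at this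
  rcases ess_card_five hS hc with c | c | c
  · obtain ⟨U, sl⟩ := sld_sq hc c
    exact sl.comm_le hc h2 ⟨bot_le, norms_bot R⟩ (norms_bot L) (by simp) key
  · have hA := (cube R L M hR hc c).ab
    have sl := (sld_tv hc hA (typeA_pre hS hc hA c).2).1
    have nW : L ≤ N(R ⊓ C(ncl L (S ⊓ N(R)))) := norms_subcent hc.nR (norms_ncl L _)
    exact sl.comm_le hc h2 ⟨inf_le_left, hc.nml.le.trans nW⟩ nW ((relIndex_dvd _ _).trans
      ((card_of_relIndex_pow (n := 1) (i := 2) inf_le_left c sl.sq).trans (pow_one p)).dvd) key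
  · obtain ⟨i, U, sl⟩ := sld_four hc c fun h => NA R (ess_le' hR) h c
    exact sl.comm_le hc h2 (center_nml R) (norms_center hc.nR) i.dvd key

end Cfsg.Agent.H18
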