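import Mathlib
import Cfsg.Agent.H18.Solv
import Cfsg.Agent.H3.Aut

/-! Subgroups of small exponent control fusion (Benson–Grodal–Henke); the Camina–Herzog–Henke
criterion; extremely sparse systems. -/

set_option autoImplicit false

namespace Cfsg.Agent.H18

open Cfsg Cfsg.FusionSystem Cfsg.Agent.H17

universe u

variable {Ω : Type*} [Group Ω] {S T : Subgroup Ω} [Finite S] {F E : FusionSystem S}
  {P Q R A D : Subgroup Ω} {p : ℕ} [hp : Fact p.Prime] {σ τ : Equiv.Perm Ω} {f : Ω → Ω}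

theorem inf_Fix_le_AutS (hS : IsPGroup p S) (hQ : F.IsFullyAutomized p Q) (hA : A ≤ Q)
    (hN : normalizerIn S Q ≤ Subgroup.normalizer (A : Set Ω))
    (hd : ∀ σ ∈ AutF F Q, PPr p Q σ → σ ∈ H17.Fix A → σ ∈ H17.Fix Q) :
    AutF F Q ⊓ H17.Fix A ≤ AutS S Q := by
  haveI := H17.finite_of_le hQ.1
  have h1 : ¬ p ∣ (AutS S Q).relIndex (AutF F Q ⊓ Stab A) :=
    not_dvd_relIndex_of_le inf_le_left (fun σ hσ => ⟨hσ.2, by
      obtain ⟨g, g1, g2, g3⟩ := mem_AutS.1 hσ.1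
      exact mem_of_eqOn Fix_le_Stab (cj_mem_Stab.2 (hN ⟨g1, g2⟩)) fun x hx => g3 x (hA hx)⟩)
      ((fullyAutomized_iff hS).1 hQ).2
  have h2 := not_dvd_relIndex_of_normal (N := AutF F Q ⊓ H17.Fix A)
    (inf_le_inf le_rfl Fix_le_Stab) (fun y hy w hw => ⟨Subgroup.mul_mem _ (Subgroup.mul_mem _ hy.1
      hw.1) (Subgroup.inv_mem _ hy.1), Stab.conj_mem_Fix hy.2 hw.2⟩) h1
  exact le_of_pmod Fix_le_AutS le_rfl (inf_le_left.trans AutF_le_Stab) inf_le_right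
    (fun w hw => pmod_of_ppr (AutF_le_Stab hw.1) fun m hm =>
      hd _ (Subgroup.pow_mem _ hw.1 m) hm (Subgroup.pow_mem _ hw.2 m)) h2

omit [Finite S] in
theorem normalizerIn_le_normalizer_centralizerIn :
    normalizerIn S A ≤ Subgroup.normalizer (centralizerIn S A : Set Ω) := by
  intro s hs
  rw [← H18.cj_eq_iff]
  unfold centralizerIn
  rw [H18.cj_inf, H18.cj_eq_of_mem hs.1, H18.cj_centralizer, H18.cj_eq_iff.2 hs.2]

theorem mor_of_detect (hS : IsPGroup p S) (hE : E.IsSaturated p) (hF : F.IsSaturated p)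
    (hEF : E.IsSubsystemOf F) (hQ : F.IsFullyNormalized Q) (hA : A ≤ Q)
    (hN : normalizerIn S Q ≤ Subgroup.normalizer (A : Set Ω))
    (hd : ∀ σ ∈ AutF F Q, PPr p Q σ → σ ∈ H17.Fix A → σ ∈ H17.Fix Q)
    (h1 : ∀ σ ∈ AutF F Q, Mor E A σ)
    (ih : ∀ P f, Mor F P f → Nat.card Q < Nat.card P → Mor E P f) (hσ : σ ∈ AutF F Q) :
    Mor E Q σ := by
  have hW := inf_Fix_le_AutS hS (sat_fa_of_fn hS hF hQ) hA hN hd
  have hQN : Q ≤ normalizerIn S A := fun x hx => ⟨hQ.1 hx, hN (le_normalizerIn hQ.1 hx)⟩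
  obtain ⟨α, hα, hαn⟩ := sat_exists_fn hS hE (hA.trans hQ.1)
  have hαQ := hα.mono hQN
  have hm := AutF.mor hQ.1 hσ
  have hσ' := Subgroup.inv_mem _ hσ
  have hm' := AutF.mor hQ.1 hσ'
  have hσS := AutF_le_Stab hσ
  have hB : img ⇑(σ⁻¹) A ≤ Q := img_le_iff.2 fun x hx => Stab.apply_mem (AutF_le_Stab hσ') (hA hx)
  have hBA : img σ (img ⇑(σ⁻¹) A) = A := by
    simpa using (hm'.homOn.mono hA).img_inv_img
  have hBm : Mor E (img ⇑(σ⁻¹) A) σ := by simpa using (h1 _ hσ').inv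
  have hQB : Q ≤ Subgroup.normalizer (img ⇑(σ⁻¹) A : Set Ω) := fun y hy => by
    simpa using hm'.homOn.map_mem_normalizer hA (Stab.apply_mem hσS hy)
      (hQN (Stab.apply_mem hσS hy)).2
  generalize img ⇑(σ⁻¹) A = B at hB hBA hBm hQB
  have hθ : Mor F Q ⇑(α * σ) := hm.mul (H18.Mor.of_sub hEF hαQ) fun x hx => Stab.apply_mem hσS hx
  have hθB : Mor E B ⇑(α * σ) := hBm.mul (hαQ.mono hA) fun x hx => hBA ▸ mem_img_of_mem _ hx
  have hθi : img ⇑(α * σ) B = img α A := by rw [hBm.homOn.img_mul, hBA]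
  obtain ⟨ψ, hψ, e⟩ := receptive_ext hθB (hθi ▸ sat_rec_of_fn hS hE hαn) (R := Q)
    (fun y hy => hθ.mem_Next_of_ext hB (fun _ _ => rfl) hy (hQB hy)) hB
  have hψi : img ψ B = img α A := (img_congr e).trans hθi
  have hξ : Mor F (img ψ Q) ⇑(σ * ψ⁻¹) := (H18.Mor.of_sub hEF hψ).inv.mul hm fun x hx =>
    hψ.homOn.perm_mem_img.1 hx
  have hξi : img ⇑(σ * ψ⁻¹) (img ψ Q) = Q := by
    rw [hψ.homOn.perm_inv.img_mul, hψ.homOn.img_inv_img, Stab.img_eq hσS]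
  have hξA : img ⇑(σ * ψ⁻¹) (img ψ B) = A := by
    rw [(hψ.mono hB).homOn.perm_inv.img_mul, (hψ.mono hB).homOn.img_inv_img, hBA]
  by_cases hC : centralizerIn S (img ψ B) ≤ img ψ Q
  · have h2 : ∀ y ∈ Q, (α * σ) y ∈ img ψ Q := fun y hy => by
      have : (ψ y)⁻¹ * (α * σ) y ∈ img ψ Q := hC ⟨S.mul_mem (S.inv_mem (hψ.mem hy)) (hθ.mem hy),
        inv_mul_mem_centralizer fun z hz => by
          obtain ⟨b, hb, rfl⟩ := (hψ.mem_img hB).1 hz
          have hb' := conj_mem_of_mem_normalizer (hQB hy) hb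
          rw [← hψ.homOn.map_conj hy (hB hb), e _ hb', e b hb, hθ.homOn.map_conj hy (hB hb)]⟩
      simpa using Subgroup.mul_mem _ (mem_img_of_mem ψ hy) this
    have h3 : ∀ y ∈ Q, α y ∈ img ψ Q := fun y hy => by
      simpa using h2 _ (Stab.apply_mem (AutF_le_Stab hσ') hy)
    have hρ : Mor F Q ⇑(σ * ψ⁻¹ * α) := (H18.Mor.of_sub hEF hαQ).mul hξ h3
    have hρ' : σ * ψ⁻¹ * α ∈ AutS S Q := hW ⟨hρ.mem_AutF (hρ.img_eq_of_le le_rfl fun y hy =>
      hξi ▸ mem_img_of_mem ⇑(σ * ψ⁻¹) (h3 y hy)), mem_Fix.2 fun a ha => by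
        rw [← hBA] at ha
        obtain ⟨b, hb, rfl⟩ := hBm.homOn.mem_img.1 ha
        have := e b hb
        simp only [Equiv.Perm.mul_apply] at this ⊢
        rw [← this]; simp⟩
    have h4 := Subgroup.inv_mem _ (AutS_le_AutF E hQ.1 le_rfl hρ')
    have h5 : Mor E Q ⇑(ψ⁻¹ * α * (σ * ψ⁻¹ * α)⁻¹) := (AutF.mor hQ.1 h4).mul
      (hαQ.mul hψ.inv h3) fun x hx => Stab.apply_mem (AutF_le_Stab h4) hx
    rw [show ψ⁻¹ * α * (σ * ψ⁻¹ * α)⁻¹ = σ⁻¹ by group] at h5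
    have := h5.inv
    rwa [Stab.img_eq (AutF_le_Stab hσ'), inv_inv] at this
  · have hn : ¬ Next S (img ψ Q) ⇑(σ * ψ⁻¹) ≤ img ψ Q := fun hn => hC
      (le_of_inf_normalizer_le hS hψ.img_le centralizerIn_le (le_trans (img_le_iff.2 fun y hy =>
        hψ.map_mem_normalizerIn hB hy (hQB hy)) normalizerIn_le_normalizer_centralizerIn)
        fun x hx hxN => hn ((mem_Next_iff_AutS hξ.homOn).2 ⟨⟨hx.1, hxN⟩, by
          have a1 := conj_mem_AutF hξ (AutS_le_AutF F hψ.img_le le_rfl (cj_mem_AutS hx.1 hxN))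
          have a2 := conj_mem_Fix_img (hξ.homOn.mono (img_mono ψ hB)) (cj_mem_Fix.2 hx.2)
          rw [hξi] at a1 ⊢
          rw [hξA] at a2
          exact hW ⟨a1, a2⟩⟩))
    obtain ⟨τ, hτ, e'⟩ := receptive_ext hξ (hξi.symm ▸ sat_rec_of_fn hS hF hQ) le_rfl hξ.le_Next
    haveI : Finite (Next S (img ψ Q) ⇑(σ * ψ⁻¹)) := H17.finite_of_le Next_le
    have h2 := (ih _ _ hτ (hψ.card_img le_rfl ▸
      card_lt_of_lt (lt_of_le_not_ge hξ.le_Next hn))).mono hξ.le_Next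
    refine (hψ.mul_img h2).congr fun x hx => ?_
    rw [Equiv.Perm.mul_apply, e' _ (mem_img_of_mem _ hx)]; simp

theorem exists_detect (hS : IsPGroup p S) (hF : F.IsSaturated p) {n : ℕ} (hn : n ≠ 0)
    (h2 : p ^ n ≠ 2) (hQ : Q ≤ S) : ∃ D ≤ Q, D ≤ F.hyperfocalSubgroup p ∧
      (∀ σ ∈ AutF F Q, σ ∈ Stab D) ∧ (∀ x ∈ D, x ^ p ^ n = 1) ∧
      ∀ σ ∈ AutF F Q, PPr p Q σ → σ ∈ H17.Fix D → σ ∈ H17.Fix Q := by
  have h0 : Q ⊓ F.hyperfocalSubgroup p ≤ S := inf_le_left.trans hQ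
  haveI := H17.finite_of_le h0
  have hst : ∀ σ ∈ AutF F Q, σ ∈ Stab (Q ⊓ F.hyperfocalSubgroup p) := fun σ hσ =>
    Stab_of_le (AutF.mor hQ hσ).homOn inf_le_left ((AutF.mor hQ hσ).img_eq_of_le inf_le_left
      fun x hx => ⟨Stab.apply_mem (AutF_le_Stab hσ) hx.1,
        sc_mem (sc_hyp hS hF) (AutF.mor hQ hσ) hx.1 hx.2⟩)
  obtain ⟨D, d1, d2, -, d4⟩ := H3.exists_critical_exponent_characteristic (hS.to_le h0) hn h2
  have hD : D.map (Q ⊓ F.hyperfocalSubgroup p).subtype ≤ Q ⊓ F.hyperfocalSubgroup p :=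
    Subgroup.map_subtype_le _
  refine ⟨D.map (Q ⊓ F.hyperfocalSubgroup p).subtype, hD.trans inf_le_left, hD.trans inf_le_right,
    fun σ hσ => Stab_of_le (Stab.homOn (hst σ hσ)) hD (img_eq_of_char (Stab.homOn (hst σ hσ))
      σ.injective.injOn (Stab.img_eq (hst σ hσ)) hD ?_), ?_, fun σ hσ ⟨m, m1, m2⟩ h3 => ?_⟩
  · rwa [Subgroup.subgroupOf, Subgroup.comap_map_eq_self_of_injective (Subgroup.subtype_injective _)]
  · rintro _ ⟨x, hx, rfl⟩
    exact congrArg Subtype.val (d2 x hx)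
  · obtain ⟨α, -, hα⟩ := hst σ hσ
    have h4 := d4 α (m1.coprime_dvd_left (orderOf_dvd_of_pow_eq_one
      ((pow_eq_one_iff_of_aut hα m).2 (Fix_anti inf_le_left m2)))) fun x hx =>
        Subtype.ext ((hα x).trans (h3 _ ⟨x, hx, rfl⟩))
    refine mem_Fix.2 fun x hx => ppr_fix hS hQ (AutF.mor hQ hσ).homOn ⟨m, m1, m2⟩ inf_le_left
      (mem_Fix.2 fun y hy => ?_) hx ⟨Q.mul_mem (Q.inv_mem hx) (Stab.apply_mem (AutF_le_Stab hσ) hx),
        mem_hyp_of_ppr hQ hσ ⟨m, m1, m2⟩ hx⟩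
    rw [← hα ⟨y, hy⟩, h4]; rfl

theorem sub_of_small (hS : IsPGroup p S) (hE : E.IsSaturated p) (hF : F.IsSaturated p)
    (hEF : E.IsSubsystemOf F) {n : ℕ} (hn : n ≠ 0) (h2 : p ^ n ≠ 2)
    (h : ∀ A f, A ≤ F.hyperfocalSubgroup p → IsMulCommutative A → (∀ a ∈ A, a ^ p ^ n = 1) →
      Mor F A f → Mor E A f) : F.IsSubsystemOf E := by
  refine subsystem_of_ess_ind hS hF le_rfl fun Q hQ ih σ hσ => ?_
  obtain ⟨D, d1, d2, d3, d4, d5⟩ := exists_detect hS hF hn h2 (ess_le hQ)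
  haveI := H17.finite_of_le (normalizerIn_le (S := S) (P := Q))
  have hDN : D ≤ normalizerIn S Q := d1.trans (le_normalizerIn (ess_le hQ))
  haveI := (hS.to_le (normalizerIn_le (S := S) (P := Q))).isNilpotent
  haveI : (D.subgroupOf (normalizerIn S Q)).Normal := (Subgroup.normal_subgroupOf_iff_le_normalizer
    hDN).2 fun s hs => cj_mem_Stab.1 (d3 _ (AutS_le_AutF F (ess_le hQ) le_rfl
      (cj_mem_AutS hs.1 hs.2)))
  obtain ⟨A, a1, a2, -, a4, a5⟩ := H3.exists_scn_ge (⊥ : Subgroup (normalizerIn S Q))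
    (D.subgroupOf _) inferInstance bot_le
  have hAD : A.map (normalizerIn S Q).subtype ≤ D := Subgroup.map_le_iff_le_comap.2 a4
  refine mor_of_detect hS hE hF hEF (ess_fn hQ) (hAD.trans d1) (fun s hs => ?_)
    (fun τ hτ h1 h3 => d5 τ hτ h1 (ppr_fix_of_selfcent hS (d1.trans (ess_le hQ)) (d3 τ hτ)
      (h1.mono d1) _ hAD (fun x hx => ?_) h3))
    (fun τ hτ => h _ _ (hAD.trans d2) inferInstance (fun a ha => d4 a (hAD ha))
      ((AutF.mor (ess_le hQ) hτ).mono (hAD.trans d1))) ih hσ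
  · exact Subgroup.le_normalizer_map _ ⟨⟨s, hs⟩, (Subgroup.normalizer_eq_top A).ge trivial, rfl⟩
  · exact ⟨⟨x, hDN hx.1⟩, a5 ⟨fun y hy => Subtype.ext (hx.2 y ⟨y, hy, rfl⟩), hx.1⟩, rfl⟩

theorem sub_of_small' (hS : IsPGroup p S) (hE : E.IsSaturated p) (hF : F.IsSaturated p)
    (hEF : E.IsSubsystemOf F)
    (hodd : p ≠ 2 → ∀ A B : Subgroup Ω, A ≤ F.hyperfocalSubgroup p → B ≤ F.hyperfocalSubgroup p →
      IsElementaryAbelian p A → IsElementaryAbelian p B → E.homSet A B = F.homSet A B)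
    (htwo : p = 2 → ∀ A B : Subgroup Ω, A ≤ F.hyperfocalSubgroup p → B ≤ F.hyperfocalSubgroup p →
      IsMulCommutative A → IsMulCommutative B → (∀ a ∈ A, a ^ 4 = 1) → (∀ b ∈ B, b ^ 4 = 1) →
      E.homSet A B = F.homSet A B) (P : Subgroup Ω) : E.Hom P = F.Hom P := by
  have key : ∀ {n : ℕ} (A f), A ≤ F.hyperfocalSubgroup p → IsMulCommutative A →
      (∀ a ∈ A, a ^ n = 1) → Mor F A f → (∀ B ≤ F.hyperfocalSubgroup p, IsMulCommutative B →
        (∀ b ∈ B, b ^ n = 1) → E.homSet A B = F.homSet A B) → Mor E A f := by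
    intro n A f h1 h2 h3 hf h4
    have h5 := h4 (img f A) (sc_img_le (sc_hyp hS hF) hf h1) (H3.isMulCommutative_of_comm ?_) ?_
    · have : hf.homOn.toHom ∈ E.homSet A (img f A) :=
        h5.ge ⟨hf.toHom_mem, fun x => mem_img_of_mem f x.2⟩
      exact (mor_iff_of_eq _ fun _ => rfl).2 this.1
    · intro x hx y hy
      obtain ⟨a, ha, rfl⟩ := hf.homOn.mem_img.1 hx
      obtain ⟨b, hb, rfl⟩ := hf.homOn.mem_img.1 hy
      rw [← hf.homOn.map_mul ha hb, ← hf.homOn.map_mul hb ha, H3.comm_of_isMulCommutative h2 ha hb]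
    · intro x hx
      obtain ⟨a, ha, rfl⟩ := hf.homOn.mem_img.1 hx
      rw [← hf.homOn.map_pow ha, h3 a ha, hf.homOn.map_one]
  refine le_antisymm (hEF P) ((?_ : F.IsSubsystemOf E) P)
  by_cases h : p = 2
  · refine sub_of_small hS hE hF hEF (n := 2) two_ne_zero (by rw [h]; norm_num)
      fun A f h1 h2 h3 hf => key (n := 4) A f h1 h2 (by subst h; exact h3) hf
        fun B b1 b2 b3 => htwo h A B h1 b1 h2 b2 (by subst h; exact h3) b3
  · refine sub_of_small hS hE hF hEF (n := 1) one_ne_zero (by rwa [pow_one])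
      fun A f h1 h2 h3 hf => ?_
    rw [pow_one] at h3
    exact key A f h1 h2 h3 hf fun B b1 b2 b3 => hodd h A B h1 b1 ⟨h2, h3⟩ ⟨b2, b3⟩

theorem mem_OpF_of_detect (hQ : Q ≤ S) (hD : D ≤ Q) (d3 : ∀ σ ∈ AutF F Q, σ ∈ Stab D)
    (d5 : ∀ σ ∈ AutF F Q, PPr p Q σ → σ ∈ H17.Fix D → σ ∈ H17.Fix Q) (hτ : τ ∈ AutF F Q)
    (h : τ ∈ OpF F p D) : τ ∈ OpF F p Q := by
  haveI := H17.finite_of_le hQ
  have h1 : ∀ σ ∈ AutF F Q, σ ∈ AutF F D := fun σ hσ =>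
    ((AutF.mor hQ hσ).mono hD).mem_AutF (Stab.img_eq (d3 σ hσ))
  refine le_OpF (W := AutF F Q ⊓ OpF F p D) (le_inf Fix_le_AutF ((Fix_anti hD).trans Fix_le_OpF))
    inf_le_left (fun σ hσ w hw => ⟨Subgroup.mul_mem _ (Subgroup.mul_mem _ hσ hw.1)
      (Subgroup.inv_mem _ hσ), OpF_conj_mem (h1 σ hσ) hw.2⟩) (fun w hw =>
        pmod_of_ppr (AutF_le_Stab hw.1) fun m hm => d5 _ (Subgroup.pow_mem _ hw.1 m) hm ?_) ⟨hτ, h⟩
  obtain ⟨k, hk⟩ := OpF_pmod _ (Subgroup.pow_mem _ hw.2 m)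
  exact (hm.mono hD).mem_of_pow le_rfl hk

/-- A uniform exponent `p ^ n` (`p` or `4`). -/
theorem exists_small_exp (p : ℕ) : ∃ n : ℕ, n ≠ 0 ∧ p ^ n ≠ 2 ∧ (p ^ n = p ∨ (p = 2 ∧ p ^ n = 4)) := by
  by_cases h : p = 2
  · exact ⟨2, two_ne_zero, by rw [h]; norm_num, Or.inr ⟨h, by rw [h]; norm_num⟩⟩
  · exact ⟨1, one_ne_zero, by rwa [pow_one], Or.inl (pow_one p)⟩

theorem normal_top_of_OpF (hS : IsPGroup p S) (hF : F.IsSaturated p)
    (h : ∀ D ≤ F.hyperfocalSubgroup p, (∀ x ∈ D, x ^ p = 1 ∨ (p = 2 ∧ x ^ 4 = 1)) →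
      ∀ s ∈ normalizerIn S D, H17.cj s ∈ OpF F p D) : F.IsNormal S := by
  refine normal_of_sc_cr hS hF (sc_top F) fun Q h1 h2 h3 => ?_
  obtain ⟨n, n1, n2, n3⟩ := exists_small_exp p
  obtain ⟨D, d1, d2, d3, d4, d5⟩ := exists_detect hS hF n1 n2 h1.1
  refine (H22.pgrp_eq_of_inf_N_le hS h1.1 fun x hx => mem_of_cj_mem_OpF hS h2 h3 hx.1 ?_).ge
  have hx' := AutS_le_AutF F h1.1 le_rfl (cj_mem_AutS hx.1 hx.2)
  refine mem_OpF_of_detect h1.1 d1 d3 d5 hx' (h D d2 (fun y hy => ?_) x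
    ⟨hx.1, cj_mem_Stab.1 (d3 _ hx')⟩)
  have := d4 y hy
  rcases n3 with e | e
  · exact Or.inl (by rwa [e] at this)
  · exact Or.inr ⟨e.1, by rwa [e.2] at this⟩

theorem mem_OpF_of_ucs (hS : IsPGroup p S) (hD : D ≤ S)
    (h : ∀ f, Mor F D f → ∀ x ∈ D, ∃ g, Mor F S g ∧ f x = g x) (hτ : τ ∈ AutF F D)
    (h1 : ∀ x ∈ D, ∃ s ∈ S, τ x = s * x * s⁻¹) : τ ∈ OpF F p D := by
  obtain ⟨n, hn⟩ := exists_ucs_eq hS
  refine mem_OpF_of_chain hS hD (ucs S) n (by rw [ucs_zero, inf_bot_eq]) (hD.trans hn.ge)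
    (fun i _ σ hσ x hx hxi => ?_) hτ fun i _ x hx hxi => ?_
  · obtain ⟨g, hg, e⟩ := h σ (AutF.mor hD hσ) x hx
    rw [e, ← img_ucs hg.homOn hg.injOn hg.img_eq_top i]
    exact mem_img_of_mem g hxi
  · obtain ⟨s, hs, e⟩ := h1 x hx
    rw [e]
    exact ucs_comm_mem hs hxi

omit hp in
theorem mem_homSet_zpowers (hf : Mor F P f) {x : Ω} (hx : x ∈ P) :
    (hf.mono (Subgroup.zpowers_le.2 hx)).homOn.toHom ∈
      F.homSet (Subgroup.zpowers x) (Subgroup.zpowers (f x)) :=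
  ⟨Mor.toHom_mem (hf.mono (Subgroup.zpowers_le.2 hx)), fun y => (hf.mono (Subgroup.zpowers_le.2 hx)).homOn.img_zpowers ▸
    mem_img_of_mem f y.2⟩

theorem card_zpowers_small {x : Ω} (h0 : x ≠ 1) (h : x ^ p = 1 ∨ (p = 2 ∧ x ^ 4 = 1)) :
    Nat.card (Subgroup.zpowers x) = p ∨ Nat.card (Subgroup.zpowers x) = 4 := by
  rw [Nat.card_zpowers]
  rcases h with h | ⟨rfl, h⟩
  · exact Or.inl (orderOf_eq_prime h h0)
  · by_cases h2 : x ^ 2 = 1
    · exact Or.inl (orderOf_eq_prime h2 h0)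
    · exact Or.inr (orderOf_eq_prime_pow (p := 2) (n := 1) (by simpa using h2) h)

theorem small_cyclic (hS : IsPGroup p S) (hF : F.IsSaturated p)
    {M : ∀ A : Subgroup Ω, Set (A →* Ω)}
    (h : ∀ A B : Subgroup Ω, A ≤ F.hyperfocalSubgroup p → B ≤ F.hyperfocalSubgroup p →
      IsCyclic A → (Nat.card A = p ∨ Nat.card A = 4) → IsCyclic B →
      (Nat.card B = p ∨ Nat.card B = 4) → F.homSet A B ⊆ M A)
    (hf : Mor F P f) {x : Ω} (hx : x ∈ P) (h1 : x ∈ F.hyperfocalSubgroup p) (h0 : x ≠ 1)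
    (h2 : x ^ p = 1 ∨ (p = 2 ∧ x ^ 4 = 1)) :
    (hf.mono (Subgroup.zpowers_le.2 hx)).homOn.toHom ∈ M (Subgroup.zpowers x) := by
  refine h _ _ (Subgroup.zpowers_le.2 h1) (Subgroup.zpowers_le.2 (sc_mem (sc_hyp hS hF) hf hx h1))
    inferInstance (card_zpowers_small h0 h2) inferInstance ?_ (mem_homSet_zpowers hf hx)
  rw [Nat.card_zpowers, hf.orderOf_eq hx, ← Nat.card_zpowers]
  exact card_zpowers_small h0 h2

theorem normal_top_of_small (hS : IsPGroup p S) (hF : F.IsSaturated p)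
    (h : ∀ A B : Subgroup Ω, A ≤ F.hyperfocalSubgroup p → B ≤ F.hyperfocalSubgroup p →
      IsCyclic A → (Nat.card A = p ∨ Nat.card A = 4) → IsCyclic B →
      (Nat.card B = p ∨ Nat.card B = 4) → F.homSet A B ⊆ F.normalizerHom S A) : F.IsNormal S := by
  refine normal_top_of_OpF hS hF fun D d1 d2 s hs => mem_OpF_of_ucs hS (d1.trans (hyp_le F))
    (fun f hf x hx => ?_) (AutS_le_AutF F (d1.trans (hyp_le F)) le_rfl (cj_mem_AutS hs.1 hs.2))
    fun x _ => ⟨s, hs.1, rfl⟩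
  by_cases h0 : x = 1
  · exact ⟨id, mor_id F le_rfl, by rw [h0, hf.homOn.map_one]; rfl⟩
  obtain ⟨-, g, hg, e, -⟩ := (mem_normalizerHom' (f := f) _ fun _ => rfl).1
    (small_cyclic hS hF h hf hx (d1 hx) h0 (d2 x hx))
  exact ⟨g, hg.mono le_sup_right, (e x (Subgroup.mem_zpowers x)).symm⟩

theorem inner_of_small (hS : IsPGroup p S) (hF : F.IsSaturated p)
    (h : ∀ A B : Subgroup Ω, A ≤ F.hyperfocalSubgroup p → B ≤ F.hyperfocalSubgroup p →
      IsCyclic A → (Nat.card A = p ∨ Nat.card A = 4) → IsCyclic B →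
      (Nat.card B = p ∨ Nat.card B = 4) → F.homSet A B ⊆ (innerFusionSystem S).Hom A) :
    IsInner F := by
  refine fun P f hf => inner_of_ppr hS hF (fun Q hQ σ hσ hσp => ?_) hf
  obtain ⟨n, n1, n2, n3⟩ := exists_small_exp p
  obtain ⟨D, d1, d2, d3, d4, d5⟩ := exists_detect hS hF n1 n2 (ess_le hQ)
  have hD := d1.trans (ess_le hQ)
  have key : ∀ f, Mor F D f → ∀ x ∈ D, ∃ s ∈ S, f x = s * x * s⁻¹ := fun f hf x hx => by
    by_cases h0 : x = 1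
    · exact ⟨1, S.one_mem, by rw [h0, hf.homOn.map_one]; simp⟩
    obtain ⟨-, s, hs, e⟩ := small_cyclic hS hF h hf hx (d2 hx) h0
      (by
        have := d4 x hx
        rcases n3 with e | e
        · exact Or.inl (by rwa [e] at this)
        · exact Or.inr ⟨e.1, by rwa [e.2] at this⟩)
    exact ⟨s, hs, e ⟨x, Subgroup.mem_zpowers x⟩⟩
  have hm := (AutF.mor (ess_le hQ) hσ).mono d1
  obtain ⟨k, hk⟩ := OpF_pmod _ (mem_OpF_of_ucs hS hD (fun f hf x hx => by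
    obtain ⟨s, hs, e⟩ := key f hf x hx
    exact ⟨_, mor_cj F le_rfl hs, e⟩) (hm.mem_AutF (Stab.img_eq (d3 σ hσ))) (key σ hm))
  exact d5 σ hσ hσp ((hσp.mono d1).mem_of_pow le_rfl hk)

theorem normal_top_of_small_normal (hS : IsPGroup p S) (hF : F.IsSaturated p)
    (h : ∀ x ∈ F.focalSubgroup, (x ^ p = 1 ∨ (p = 2 ∧ x ^ 4 = 1)) →
      ∀ s ∈ S, s * x * s⁻¹ ∈ Subgroup.zpowers x) : F.IsNormal S := by
  refine normal_top_of_OpF hS hF fun D d1 d2 s hs => ?_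
  have hD := d1.trans (hyp_le F)
  by_cases h2 : p = 2
  · subst h2
    refine le_OpF (W := AutF F D ⊓ ⨅ x ∈ D, Stab (Subgroup.zpowers x)) (le_inf Fix_le_AutF
      (le_iInf₂ fun x hx => (Fix_anti (Subgroup.zpowers_le.2 hx)).trans Fix_le_Stab)) inf_le_left
      (fun σ hσ w hw => ⟨Subgroup.mul_mem _ (Subgroup.mul_mem _ hσ hw.1) (Subgroup.inv_mem _ hσ),
        ?_⟩) (fun w hw => ⟨1, mem_Fix.2 fun x hx => ?_⟩)
      ⟨AutS_le_AutF F hD le_rfl (cj_mem_AutS hs.1 hs.2), ?_⟩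
    · refine Subgroup.mem_iInf.2 fun x => Subgroup.mem_iInf.2 fun hx => ?_
      have hy := Stab.apply_mem (AutF_le_Stab (Subgroup.inv_mem _ hσ)) hx
      have h3 := (Stab.homOn (AutF_le_Stab hσ)).mono (Subgroup.zpowers_le.2 hy)
      have := conj_mem_Stab h3 (Subgroup.mem_iInf.1 (Subgroup.mem_iInf.1 hw.2 _) hy)
      rwa [h3.img_zpowers, show σ (σ⁻¹ x) = x by simp] at this
    · have h3 := Subgroup.mem_iInf.1 (Subgroup.mem_iInf.1 hw.2 _) hx
      have h4 : x ^ 4 = 1 := (d2 x hx).elim (fun e => by rw [show 4 = 2 * 2 from rfl, pow_mul, e,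
        one_pow]) fun e => e.2
      have h5 := Stab.homOn (AutF_le_Stab hw.1)
      obtain ⟨k, hk⟩ := (isOfFinOrder_iff_pow_eq_one.2 ⟨4, by norm_num, h4⟩).mem_powers_iff_mem_zpowers.2
        (Stab.apply_mem h3 (Subgroup.mem_zpowers x))
      simp only at hk
      rw [pow_one, pow_two, Equiv.Perm.mul_apply, ← hk, h5.map_pow hx, ← hk, ← pow_mul]
      rcases Nat.even_or_odd' k with ⟨j, rfl | rfl⟩
      · have h6 : w (x ^ 2) = w 1 := by
          rw [h5.map_pow hx, ← hk, h5.map_one, ← pow_mul, show 2 * j * 2 = 4 * j by ring, pow_mul,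
            h4, one_pow]
        have h7 : w x = w 1 := by rw [← hk, pow_mul, w.injective h6, one_pow, h5.map_one]
        rw [w.injective h7, one_pow]
      · rw [show (2 * j + 1) * (2 * j + 1) = 4 * (j * j + j) + 1 by ring, pow_succ, pow_mul, h4]
        simp
    · refine Subgroup.mem_iInf.2 fun x => Subgroup.mem_iInf.2 fun hx => ?_
      haveI := H17.finite_of_le ((Subgroup.zpowers_le.2 hx).trans hD)
      refine cj_mem_Stab.2 (H17.mem_normalizer_of_conj_mem ?_)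
      rintro _ ⟨k, rfl⟩
      simpa only [conj_zpow] using
        Subgroup.zpow_mem _ (h x (hyp_le_focal F (d1 hx)) (d2 x hx) s hs.1) k
  · refine Fix_le_OpF (cj_mem_Fix.2 fun x hx => ?_)
    by_cases h0 : x = 1
    · simp [h0]
    have h3 := (d2 x hx).resolve_right fun e => h2 e.1
    haveI := H17.finite_of_le ((Subgroup.zpowers_le.2 hx).trans hD)
    have h4 := H22.pgrp_inf_C_ne_bot hS (hS.to_le ((Subgroup.zpowers_le.2 hx).trans hD))
      (fun s hs => H17.mem_normalizer_of_conj_mem (by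
        rintro _ ⟨k, rfl⟩
        simpa only [conj_zpow] using
          Subgroup.zpow_mem _ (h x (hyp_le_focal F (d1 hx)) (d2 x hx) s hs) k))
      (mt Subgroup.zpowers_eq_bot.1 h0)
    have h5 := Subgroup.card_dvd_of_le (inf_le_left (a := Subgroup.zpowers x)
      (b := Subgroup.centralizer (S : Set Ω)))
    rw [H3.card_zpowers_of_pow_prime h3 h0, Nat.dvd_prime hp.out] at h5
    haveI := H17.finite_of_le (inf_le_left (a := Subgroup.zpowers x)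
      (b := Subgroup.centralizer (S : Set Ω)))
    have h6 := eq_of_le_of_card_le inf_le_left ((H3.card_zpowers_of_pow_prime h3 h0).trans
      (h5.resolve_left fun e => h4 (Subgroup.card_eq_one.1 e)).symm).le
    exact ((h6.ge (Subgroup.mem_zpowers x)).2 s hs.1).symm

end Cfsg.Agent.H18
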