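import Mathlib
import Cfsg.Agent.H18.Small

/-! The Camina–Herzog–Henke criterion; extremely sparse systems. -/

set_option autoImplicit false

namespace Cfsg.Agent.H18

open Cfsg Cfsg.FusionSystem Cfsg.Agent.H17

universe u

section

variable {Ω : Type*} [Group Ω] {S T : Subgroup Ω} [Finite S] {F E : FusionSystem S}
  {P Q R A D : Subgroup Ω} {p : ℕ} [hp : Fact p.Prime] {σ τ : Equiv.Perm Ω} {f : Ω → Ω}

theorem normal_agZ_of_cent (hS : IsPGroup p S) (hF : F.IsSaturated p) {n : ℕ}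
    (h : ∀ R, R < S → ∀ x ∈ normalizerIn S R, x ^ p ∈ R →
      x ∈ Subgroup.centralizer (agZ p n R : Set Ω)) : F.IsNormal (agZ p n S) := by
  obtain ⟨N, hN⟩ := exists_nsys_top F (agZ_le (p := p) (n := n))
    (le_centralizer_agZ.trans (Subgroup.centralizer_le_normalizer _))
  refine hN.normal_of_sub (subsystem_of_ess_ind hS hF le_rfl fun R hR ih σ hσ => ?_)
  have hRS := ess_le hR
  have hV : agZ p n S ≤ agZ p n R :=
    agZ_mono ((centralizerIn_anti hRS).trans (centric_le (ess_centric hR))) hRS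
  rcases hR with hR | hR
  · rw [hR] at hσ ⊢
    exact (hN.mor_iff agZ_le le_rfl).2 ⟨AutF.mor le_rfl hσ, by
      rw [img_agZ (Stab.homOn (AutF_le_Stab hσ)) σ.injective.injOn, AutF.img_eq hσ]⟩
  obtain ⟨x, h1, h2, h3⟩ := exists_pow_mem_of_lt hS (ess_lt hS hF hR)
  refine mor_of_centralizer hS hF hR.2.1 (agZ_le (p := p) (n := n)) (fun τ hτ => ?_) h1 h2
    (h R (ess_lt hS hF hR) x h1 h3) (fun τ hτ h4 => ?_) ih hσ
  · rw [img_agZ (Stab.homOn (AutF_le_Stab hτ)) τ.injective.injOn, AutF.img_eq hτ]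
  · exact (hN.mor_iff (hV.trans agZ_le) hRS).2
      ⟨AutF.mor hRS hτ, img_eq_self_of_eq fun y hy => mem_Fix.1 h4 y (hV hy)⟩

theorem normal_agZ_two {F : FusionSystem S} (hS : IsPGroup 2 S) (hF : F.IsSaturated 2) {n : ℕ}
    (h : ∀ x ∈ S, x ^ 2 ^ (n + 1) = 1) : F.IsNormal (agZ 2 n S) := by
  refine normal_agZ_of_cent hS hF fun R hR x hx h2 => ?_
  refine Subgroup.zpowers_le.1 (Subgroup.le_centralizer_iff.1 (powerClosure_le_iff.2 fun v hv => ?_))
  rw [Subgroup.zpowers_eq_closure, Subgroup.centralizer_closure,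
    Subgroup.mem_centralizer_singleton_iff]
  have h3 : x⁻¹ * v * x ∈ R := conj_mem_of_mem_normalizer' hx.2 hv.1
  have c1 : Commute (x ^ 2) v := hv.2 _ h2
  have c2 : Commute (x⁻¹ * v * x) v := hv.2 _ h3
  have c3 : Commute (x ^ 2) (x⁻¹ * v * x) :=
    (((Commute.refl x).pow_left 2).inv_right.mul_right c1).mul_right ((Commute.refl x).pow_left 2)
  have e1 := h (x * v) (S.mul_mem hx.1 (hR.le hv.1))
  rw [pow_succ', pow_mul, show (x * v) ^ 2 = x ^ 2 * (x⁻¹ * v * x * v) by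
    simp only [pow_two]; group, (c3.mul_right c1).mul_pow, c2.mul_pow, ← pow_mul, ← pow_succ',
    h x hx.1, one_mul] at e1
  have e2 := h v (hR.le hv.1)
  rw [pow_succ, pow_mul, pow_two] at e2
  have e3 := mul_right_cancel (e1.trans e2.symm)
  rw [show x⁻¹ * v * x = x⁻¹ * v * x⁻¹⁻¹ by rw [inv_inv], conj_pow, inv_inv] at e3
  calc v ^ 2 ^ n * x = x * (x⁻¹ * v ^ 2 ^ n * x) := by group
    _ = _ := by rw [e3]

theorem extremely_sparse (hS : IsPGroup p S) (hF : F.IsSaturated p) (h0 : ¬ IsInner F)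
    (h : ∀ (T : Subgroup Ω) (E : FusionSystem T), E.IsSaturated p → E.IsSubsystemOf F →
      (T = S ∧ ∀ P, E.Hom P = F.Hom P) ∨ ∀ P, E.Hom P = (innerFusionSystem T).Hom P) :
    F.IsNormal S ∧ F.focalSubgroup = S ∧ F.hyperfocalSubgroup p = S ∧
      ∃ (q : ℕ) (β : MulAut S), q.Prime ∧ q ≠ p ∧ β ∈ F.autGroup S ∧ orderOf β = q ∧
        F.autGroup S = Inn S ⊔ Subgroup.zpowers β := by
  obtain ⟨R, hR, σ, hσ, ⟨m, m1, m2⟩, h1⟩ : ∃ R, (R = S ∨ F.IsEssential p R) ∧ ∃ σ ∈ AutF F R,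
      PPr p R σ ∧ σ ∉ H17.Fix R := by
    by_contra hn
    push Not at hn
    exact h0 fun P f hf => inner_of_ppr hS hF hn hf
  have hRS := ess_le hR
  haveI := finite_mulAut hRS
  obtain ⟨α, hα, e⟩ := mem_lift.1 hσ
  have h2 : orderOf α ≠ 1 := fun h2 => h1 (by
    simpa using (pow_eq_one_iff_of_aut e 1).1 (by simpa using h2))
  obtain ⟨q, hq, k, hk⟩ := Nat.exists_prime_and_dvd h2
  have hq' : q ≠ p := fun e' => hp.out.one_lt.ne' ((Nat.coprime_self p).1 (by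
      subst e'
      exact (m1.coprime_dvd_left ((Dvd.intro _ hk.symm).trans (orderOf_dvd_of_pow_eq_one
        ((pow_eq_one_iff_of_aut e m).2 m2))))))
  have hk0 : k ≠ 0 := by rintro rfl; exact (orderOf_pos α).ne' hk
  have hβ : orderOf (α ^ k) = q := by
    rw [orderOf_pow_of_dvd hk0 (Dvd.intro_left _ hk.symm), hk, Nat.mul_div_cancel _ (Nat.pos_of_ne_zero hk0)]
  have eβ := pow_apply_of_aut e k
  have hτ : σ ^ k ∉ H17.Fix R := fun h3 => hq.one_lt.ne' (by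
    rw [← hβ, (pow_eq_one_iff_of_aut e k).2 h3, orderOf_one])
  have hτp : PPr p R (σ ^ k) := PPr.pow ⟨m, m1, m2⟩ k
  set K := lift (Inn R ⊔ Subgroup.zpowers (α ^ k)) with hK
  have hτK : σ ^ k ∈ K := (mem_lift_of_eq eβ).2 (Subgroup.mem_sup_right (Subgroup.mem_zpowers _))
  have hKA : K ≤ AutF F R := lift_mono (sup_le (inn_eq R ▸ autInducedBy_le_autGroup F hRS hRS)
    (Subgroup.zpowers_le.2 (Subgroup.pow_mem _ hα k)))
  have hIK : AutS R R ≤ K := lift_inn R ▸ lift_mono le_sup_left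
  have hi : ¬ p ∣ (AutS R R).relIndex K := fun h3 => by
    rw [← lift_inn, hK, relIndex_lift, Subgroup.relIndex_sup_left] at h3
    have h4 := h3.trans (Subgroup.relIndex_dvd_card _ _)
    rw [Nat.card_zpowers, hβ] at h4
    exact hq' ((Nat.prime_dvd_prime_iff_eq hp.out hq).1 h4).symm
  obtain ⟨E, hE⟩ := exists_KSystem F hRS (K := K) Fix_le_lift lift_le_Stab rfl
  have hRK : R ≤ NK S K := fun x hx => ⟨hRS hx, hIK (cj_mem_Inn hx)⟩
  have hEs := KSystem_saturated hS Fix_le_lift lift_le_Stab rfl hE hF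
    (sat_rec_of_fn hS hF (ess_fn hR)) (by
      rw [inf_eq_right.2 hKA]
      exact not_dvd_relIndex_mono (inf_le_left.trans (AutS_mono hRS)) hi)
  have nfix : ∀ {T U : Subgroup Ω} {E : FusionSystem T}, T ≤ S → IsInner E → U ≤ R →
      Mor E U ⇑(σ ^ k) → σ ^ k ∈ Stab U → σ ^ k ∈ H17.Fix U := fun hT h3 hU h4 h5 => by
    obtain ⟨s, hs, e⟩ := h3 _ _ h4
    obtain ⟨j, hj⟩ := AutS_pmod hS _ (mem_AutS_of_Stab h5 (hT hs) e)
    exact (hτp.mono hU).mem_of_pow le_rfl hj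
  have hτm := AutF.mor hRS (hKA hτK)
  rcases h _ E hEs (subsystem_iff.2 fun P f hf => ((hE P f).1 hf).mor) with ⟨h3, h4⟩ | h3
  swap
  · exact absurd (nfix NK_le (isInner_iff.2 h3) le_rfl
      ((hE _ _).2 ⟨hRK, _, hτK, by rwa [sup_idem], fun _ _ => rfl⟩) (lift_le_Stab hτK)) hτ
  have h5 : AutS S R ≤ AutS R R := le_of_pmod Fix_le_AutS (Y := K) (fun w hw => by
    obtain ⟨g, g1, -, g3⟩ := mem_AutS.1 hw
    exact mem_of_eqOn Fix_le_lift (h3.ge g1).2 g3) lift_le_Stab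
    (inf_le_left.trans (AutS_mono hRS)) (AutS_pmod hS) hi
  obtain rfl : R = S := le_antisymm hRS fun s hs => mem_of_cj_mem_Inn
    (centric_le (ess_centric hR)) hRS hs (h5 (cj_mem_AutS hs
      (cj_mem_Stab.1 (lift_le_Stab (h3.ge hs).2))))
  have h6 : ∀ P f, Mor F P f → KMor F R K P f := fun P f hf =>
    (hE P f).1 ((hom_eq_iff.1 (h4 P) f).2 hf)
  have h7 : F.hyperfocalSubgroup p = R := by
    obtain ⟨D, d1, d2⟩ := exists_pres hS hF
    refine (h _ D d1 d2.1).elim (fun e => e.1) fun h8 => absurd ?_ hτ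
    have h9 := (hτm.mono (hyp_le F)).mem_AutF (sc_img_eq (sc_hyp hS hF) hτm (hyp_le F))
    have h10 := nfix (hyp_le F) (isInner_iff.2 h8) (hyp_le F) (AutF.mor le_rfl
      ((ppow_iff.1 d2).2.2 _ le_rfl _ h9 (hτp.mono (hyp_le F)))) (AutF_le_Stab h9)
    exact mem_Fix.2 fun x hx => ppr_fix hS le_rfl hτm.homOn hτp (hyp_le F) h10 hx
      (mem_hyp_of_ppr le_rfl (hKA hτK) hτp hx)
  refine ⟨normal_iff.2 ⟨le_rfl, fun P f hf => ?_⟩, le_antisymm (focal_le F)
    (h7.ge.trans (hyp_le_focal F)), h7, q, α ^ k, hq, hq', Subgroup.pow_mem _ hα k, hβ,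
    lift_inj.1 (le_antisymm (fun w hw => ?_) hKA)⟩
  · obtain ⟨-, g, g1, g2, g3⟩ := h6 P f hf
    exact ⟨g, g2, g3, Stab.img_eq (lift_le_Stab g1)⟩
  · obtain ⟨-, g, g1, -, g3⟩ := h6 _ _ (AutF.mor le_rfl hw)
    exact mem_of_eqOn Fix_le_lift g1 fun x hx => (g3 x hx).symm

end

theorem comm_of_conj_center (n : ℕ) : ∀ (Ω : Type u) [Group Ω] (S : Subgroup Ω) [Finite S]
    (F : FusionSystem S), Nat.card S = n → IsPGroup 2 S → F.IsSaturated 2 →
    (∀ x ∈ S, ∃ z ∈ centralizerIn S S, F.IsConjElt x z) → S ≤ Subgroup.centralizer (S : Set Ω) := by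
  induction n using Nat.strong_induction_on with
  | _ n ih =>
  intro Ω _ S _ F hn hS hF h
  classical
  have hex := pow_eq_one_of_mem hS
  rcases hm : Nat.find hex with - | m
  · intro x hx
    have := Nat.find_spec hex x hx
    rw [hm, pow_zero, pow_one] at this
    rw [this]; exact Subgroup.one_mem _
  have h1 := Nat.find_spec hex
  have h2 := Nat.find_min hex (m := m) (by omega)
  rw [hm] at h1
  have hW := normal_agZ_two hS hF h1
  have hW0 : agZ 2 m S ≠ ⊥ := fun e => h2 fun x hx => by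
    obtain ⟨z, hz, hxz⟩ := h x hx
    obtain ⟨f, hf, rfl⟩ := isConjElt_iff.1 hxz
    rw [← orderOf_dvd_iff_pow_eq_one, ← hf.orderOf_eq (Subgroup.mem_zpowers x),
      orderOf_dvd_iff_pow_eq_one]
    exact Subgroup.mem_bot.1 (e ▸ pow_mem_powerClosure hz)
  obtain ⟨Ω', _, S', _, F', a, ha, hk, hS', hF'⟩ := exists_surj_quot hS hF (normal_sc hW)
  have h3 := ih _ (hn ▸ surj_card_lt ha (hk ▸ hW0)) Ω' S' F' rfl hS' hF' fun y hy => by
    obtain ⟨x, hx, rfl⟩ := ha.exists_mem hy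
    obtain ⟨z, hz, hxz⟩ := h x hx
    obtain ⟨f, hf, rfl⟩ := isConjElt_iff.1 hxz
    obtain ⟨f', g1, g2⟩ := ha.push _ _ hf
    refine ⟨a (f x), ⟨ha.mem _ hz.1, ha.top ▸ ha.hom.map_mem_centralizer le_rfl hz.1 hz.2⟩, ?_⟩
    rw [← g2 x (Subgroup.mem_zpowers x)]
    exact g1.isConjElt (mem_img_of_mem a (Subgroup.mem_zpowers x))
  have h4 : F.IsNormal S := by
    refine normal_of_chain hS hF (sc_top F) (fun i => if i = 0 then ⊥ else if i = 1 then
      agZ 2 m S else S) 2 rfl le_rfl (fun i _ => ?_) fun i hi x hx y hy => ?_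
    · split_ifs
      exacts [sc_bot F, normal_sc hW, sc_top F]
    · obtain rfl | rfl : i = 0 ∨ i = 1 := by omega
      · simp only [if_true, Subgroup.mem_bot]
        rw [← le_centralizer_agZ hx y hy]; group
      · change _ ∈ agZ 2 m S
        change y ∈ S at hy
        rw [← hk, ← ha.hom.eq_iff_mem_ker hy (S.mul_mem (S.mul_mem hx hy) (S.inv_mem hx)),
          ha.hom.map_conj hx hy, h3 (ha.mem y hy) _ (ha.mem x hx)]
        group
  have h5 := normal_sc (normal_agZ (p := 2) (n := 0) h4)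
  intro x hx
  obtain ⟨z, hz, hxz⟩ := h x hx
  obtain ⟨f, hf, rfl⟩ := isConjElt_iff.1 hxz
  exact (powerClosure_le ((sc_mem_iff h5 hf (Subgroup.mem_zpowers x)).1
    (by simpa using pow_mem_powerClosure (p := 2) (n := 0) hz))).2

end Cfsg.Agent.H18
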