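import Mathlib
import Cfsg.Agent.H18.J3a
import Cfsg.Agent.H17.SimpD
import Cfsg.Agent.H10.SmallIso
import Cfsg.Agent.H23.Fix
import Cfsg.Agent.H29.ES
import Cfsg.Agent.H3.Extra

/-! The centraliser of an involution of `J₃`. -/

set_option maxRecDepth 100000
set_option linter.all false
set_option autoImplicit false
set_option synthInstance.maxSize 4000

namespace Cfsg.Agent.H18.JZ
open Cfsg.Agent.H25 Cfsg.Agent.H17 MulAction Subgroup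

abbrev A5 := alternatingGroup (Fin 5)

theorem hom_of_words {A G : Type*} [Group A] [Group G] [Finite A] [Finite G] (α : ℕ → A) (x : ℕ → G)
    (cs : List ℕ) (W : List (List ℕ)) (h0 : [] ∈ W) (hs : ∀ σ, ∃ w ∈ W, ev α w = σ)
    (hi : ∀ w ∈ W, ev α w = 1 → w = []) (hW : ∀ w ∈ W, ∀ a ∈ w, a ∈ cs)
    (hc : ∀ w ∈ W, ∀ c ∈ cs, ∃ v ∈ W, ev α (w ++ [c]) = ev α v ∧ ev x (w ++ [c]) = ev x v) :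
    ∃ f : A →* G, (∀ c ∈ cs, f (α c) = x c) ∧ ∀ K : Subgroup G, (∀ c ∈ cs, x c ∈ K) → f.range ≤ K := by
  let Γ : Subgroup (A × G) := closure {p | ∃ c ∈ cs, p = (α c, x c)}
  have key : ∀ p ∈ Γ, ∃ w ∈ W, p = (ev α w, ev x w) := mem_of_closed ⟨[], h0, rfl⟩ (by
    rintro _ ⟨w, hw, rfl⟩ _ ⟨c, hc', rfl⟩
    obtain ⟨v, hv, e1, e2⟩ := hc w hw c hc'
    exact ⟨v, hv, by rw [← e1, ← e2]; simp⟩)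
  have mem : ∀ w : List ℕ, (∀ a ∈ w, a ∈ cs) → (ev α w, ev x w) ∈ Γ := fun w hw => by
    induction w with
    | nil => exact Γ.one_mem
    | cons a w ih =>
      exact Γ.mul_mem (subset_closure ⟨a, hw a (by simp), rfl⟩ : (α a, x a) ∈ Γ)
        (ih fun b hb => hw b (by simp [hb]))
  have one : ∀ h, (1, h) ∈ Γ → h = 1 := fun h hh => by
    obtain ⟨w, hw, e⟩ := key _ hh
    obtain rfl := hi w hw (congrArg Prod.fst e).symm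
    exact congrArg Prod.snd e
  obtain ⟨f, hf⟩ := H10.exists_hom_of_graph Γ (eq_top_iff.2 fun σ _ => by
    obtain ⟨w, hw, rfl⟩ := hs σ
    exact ⟨_, mem w (hW w hw), rfl⟩) one
  refine ⟨f, fun c hc' => ?_, fun K hK => ?_⟩
  · have := Γ.mul_mem (hf (α c)) (Γ.inv_mem (subset_closure ⟨c, hc', rfl⟩ : (α c, x c) ∈ Γ))
    rw [Prod.inv_mk, Prod.mk_mul_mk, mul_inv_cancel] at this
    exact mul_inv_eq_one.1 (one _ this)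
  · rintro _ ⟨σ, rfl⟩
    have : Γ ≤ K.comap (MonoidHom.snd A G) := (closure_le _).2 (by rintro _ ⟨c, hc', rfl⟩; exact hK c hc')
    exact this (hf σ)

theorem len_le {G : Type*} [Group G] [Finite G] {x : ℕ → G} {W : List (List ℕ)}
    (h : W.Pairwise fun u v => ev x u ≠ ev x v) {X : Set G} (hX : ∀ w ∈ W, ev x w ∈ X) :
    W.length ≤ X.ncard := by
  classical
  rw [← List.length_map (ev x), ← List.toFinset_card_of_nodup (List.pairwise_map.2 h),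
    ← Set.ncard_coe_finset]
  exact Set.ncard_le_ncard (fun y hy => by
    obtain ⟨w, hw, rfl⟩ := List.mem_map.1 (List.mem_toFinset.1 hy); exact hX w hw) (Set.toFinite _)

/-- the data for a centraliser of shape `2^{1+4}_- : A₅` -/
structure D {G : Type*} [Group G] (z : G) (Q : Subgroup G) (f : A5 →* G) : Prop where
  es : H29.ES Q z
  c32 : Nat.card Q = 32
  four : ∀ a ∈ Q, ∀ b ∈ Q, a * a = 1 → b * b = 1 → a * b = b * a →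
    a = 1 ∨ a = z ∨ b = 1 ∨ b = z ∨ b = a ∨ b = a * z
  le : Q ≤ centralizer {z}
  cen : f.range ≤ centralizer {z}
  nor : f.range ≤ normalizer (Q : Set G)
  nin : ∃ σ, f σ ∉ Q
  card : Nat.card (centralizer ({z} : Set G)) ≤ 1920

theorem D.map {G G' : Type*} [Group G] [Finite G] [Group G'] {z : G} {Q : Subgroup G} {f : A5 →* G} (h : D z Q f)
    (e : G ≃* G') : D (e z) (Q.map e.toMonoidHom) (e.toMonoidHom.comp f) where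
  es := h.es.map e.toMonoidHom fun x _ hx => e.injective (hx.trans (map_one e).symm)
  c32 := (card_map_of_injective e.injective).trans h.c32
  four := by
    rintro _ ⟨a, ha, rfl⟩ _ ⟨b, hb, rfl⟩ h1 h2 h3
    simp only [MulEquiv.coe_toMonoidHom, ← map_mul, ← map_one e, e.injective.eq_iff] at h1 h2 h3 ⊢
    exact h.four a ha b hb h1 h2 h3
  le := by
    rintro _ ⟨a, ha, rfl⟩
    simpa [mem_centralizer_singleton_iff] using congrArg e (mem_centralizer_singleton_iff.1 (h.le ha))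
  cen := by
    rintro _ ⟨a, rfl⟩
    simpa [mem_centralizer_singleton_iff] using
      congrArg e (mem_centralizer_singleton_iff.1 (h.cen ⟨a, rfl⟩))
  nor := by
    rintro _ ⟨a, rfl⟩
    exact le_normalizer_map e.toMonoidHom ⟨_, h.nor ⟨a, rfl⟩, rfl⟩
  nin := h.nin.imp fun σ hσ hh => hσ ((mem_map_iff_mem e.injective).1 hh)
  card := by
    refine le_trans (Nat.card_le_card_of_injective (fun y : centralizer ({e z} : Set G') =>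
      (⟨e.symm y, mem_centralizer_singleton_iff.2 (e.injective (by
        simpa using mem_centralizer_singleton_iff.1 y.2))⟩ : centralizer ({z} : Set G))) ?_) h.card
    · intro a b hab
      exact Subtype.ext (e.symm.injective (congrArg Subtype.val hab))

theorem D.main {G : Type*} [Group G] [Finite G] {z : G} {Q : Subgroup G} {f : A5 →* G} (h : D z Q f) :
    orderOf z = 2 ∧ ∃ (Q : Subgroup (centralizer ({z} : Set G))) (_ : Q.Normal), IsExtraspecial 2 Q ∧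
      Nat.card Q = 32 ∧ (∀ E : Subgroup Q, IsElementaryAbelian 2 E → Nat.card E ≤ 2 ^ 2) ∧
      (∃ H : Subgroup (centralizer ({z} : Set G)), Q.IsComplement' H) ∧
      Nonempty (centralizer ({z} : Set G) ⧸ Q ≃* A5) := by
  have c60 : Nat.card A5 = 60 := by rw [nat_card_alternatingGroup, Nat.card_fin]; decide
  have hn : (Q.comap f).Normal := ⟨fun a ha σ => by
    have := (mem_normalizer_iff.1 (h.nor ⟨σ, rfl⟩) (f a)).1 ha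
    simpa [mem_comap] using this⟩
  have hb : Q.comap f = ⊥ := hn.eq_bot_or_eq_top.resolve_right fun e => by
    obtain ⟨σ, hσ⟩ := h.nin
    exact hσ (show σ ∈ Q.comap f from e ▸ mem_top σ)
  have hk : ∀ σ, f σ ∈ Q → σ = 1 := fun σ hσ => mem_bot.1 (hb ▸ (hσ : σ ∈ Q.comap f))
  have hinj : Function.Injective f := (injective_iff_map_eq_one f).2 fun σ e => hk σ (e ▸ Q.one_mem)
  have cr : Nat.card f.range = 60 := (Nat.card_congr (f.ofInjective hinj).toEquiv).symm.trans c60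
  have dj : Disjoint Q f.range := disjoint_def.2 fun {y} h1 ⟨σ, e⟩ => by
    rw [← e, hk σ (e ▸ h1), map_one]
  have big : ∀ K : Subgroup G, Q ≤ K → f.range ≤ K → 1920 ≤ Nat.card K := fun K h1 h2 => by
    have := Nat.card_le_card_of_injective (fun p : Q × f.range => (⟨p.1 * p.2, K.mul_mem (h1 p.1.2) (h2 p.2.2)⟩ : K))
      fun a b e => mul_injective_of_disjoint dj (congrArg Subtype.val e)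
    rwa [Nat.card_prod, h.c32, cr] at this
  have cC : Nat.card (centralizer ({z} : Set G)) = 1920 := le_antisymm h.card (big _ h.le h.cen)
  have hN : centralizer ({z} : Set G) ≤ normalizer (Q : Set G) :=
    inf_eq_left.1 (eq_of_le_of_card_ge inf_le_left
      (h.card.trans (big _ (le_inf h.le le_normalizer) (le_inf h.cen h.nor))))
  haveI hQ : (Q.subgroupOf (centralizer {z})).Normal := (normal_subgroupOf_iff_le_normalizer h.le).2 hN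
  have eQ := subgroupOfEquivOfLe h.le
  have cQ : Nat.card (Q.subgroupOf (centralizer {z})) = 32 := (Nat.card_congr eQ.toEquiv).trans h.c32
  have cp : (Q.subgroupOf (centralizer {z})).IsComplement' (f.range.subgroupOf (centralizer {z})) :=
    isComplement'_of_card_mul_and_disjoint (by
      rw [cQ, Nat.card_congr (subgroupOfEquivOfLe h.cen).toEquiv, cr, cC])
      (disjoint_def.2 fun {y} h1 h2 => Subtype.ext (disjoint_def.1 dj h1 h2))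
  refine ⟨H20.orderOf_two_of h.es.zz h.es.ne, _, hQ, H3.isExtraspecial_of_equiv h.es.isExtraspecial eQ.symm,
    cQ, fun E hE => ?_, ⟨_, cp⟩, ⟨cp.symm.QuotientMulEquiv.trans
      ((subgroupOfEquivOfLe h.cen).trans (f.ofInjective hinj).symm)⟩⟩
  let ι : E → G := fun y => y.1.1.1
  have hι : Function.Injective ι := fun a b e => Subtype.ext (Subtype.ext (Subtype.ext e))
  have sq : ∀ y, ι y * ι y = 1 := fun y => by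
    have := hE.2 y.1 y.2
    rw [pow_two] at this
    exact congrArg (fun t => t.1.1) this
  have cm : ∀ a b, ι a * ι b = ι b * ι a := fun a b => congrArg ι (hE.1.is_comm.comm a b)
  obtain ⟨a, ha⟩ : ∃ a : G, ∀ y, ι y ∈ ({1, z, a, a * z} : Set G) := by
    by_cases h1 : ∃ y, ι y ≠ 1 ∧ ι y ≠ z
    · obtain ⟨y, h1, h2⟩ := h1
      exact ⟨ι y, fun b => ((h.four (ι y) y.1.2 (ι b) b.1.2 (sq y) (sq b) (cm y b)).resolve_left h1).resolve_left h2⟩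
    · exact ⟨1, fun b => by
        by_contra hc
        simp only [Set.mem_insert_iff, not_or] at hc
        exact h1 ⟨b, hc.1, hc.2.1⟩⟩
  refine (Nat.card_le_card_of_injective (fun y => (⟨ι y, ha y⟩ : ({1, z, a, a * z} : Set G)))
    fun a b e => hι (Subtype.mk.inj e)).trans ?_
  rw [Nat.card_coe_set_eq]
  exact (Set.ncard_insert_le _ _).trans (Nat.succ_le_succ ((Set.ncard_insert_le _ _).trans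
    (Nat.succ_le_succ ((Set.ncard_insert_le _ _).trans (by simp)))))

open Cfsg.Agent.H25.J3

def df : List (List ℕ) := [[1, 0, 2, 0, 1],
  [1, 0, 3, 5, 0, 1, 4],
  [2, 0, 2, 0, 3, 5, 0, 2, 0, 2],
  [1, 2, 5, 0, 2, 3, 0, 2, 5, 0, 5, 1, 0, 5, 3, 0, 3],
  [0],
  [4],
  [1, 0, 3, 0, 1],
  [0, 4],
  [3, 5, 0, 2, 0, 5, 0, 3, 5, 0, 3, 5, 1, 0, 2, 1]]

def TSy : Tb := ⟨7, nat_lit 0x7ef9ebc76e9cb86ed9ab466c98b05eb96ac56a94a84e992a446890a03e78e9c3668c982e58a9426488901e3868c16284880e182840608080fffbefcf7ebcf8efdbaf4e7cb8f0dfbb6ecd7ab4e8cf9b2e4c78b0e0bf7aedcb76acd8af5aad4a74a8d09f3a6cc972a4c88f1a2c4870a0c0bd7ee5db56ec598d1e245850e0419d3e64d952e449ad5ea55a54e851fdffe7df5efc79cd9f265c58f061ddbf66dd5af469eddfa75e5cf8713e78e9c3668c982e58a9426488901e3868c16284880e18284060808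07ef9ebc76e9cb86ed9ab466c98b05eb96ac56a94a84e992a446890a0dfbb6ecd7ab4e8cf9b2e4c78b0e0fffbefcf7ebcf8efdbaf4e7cb8f09f3a6cc972a4c88f1a2c4870a0c0bf7aedcb76acd8af5aad4a74a8d05eb96ac56a94a84e992a446890a07ef9ebc76e9cb86ed9ab466c98b01e3868c16284880e1828406080803e78e9c3668c982e58a942648890c78b0e0efdbaf4f7ebcf8dfbb6ece7cb8f0cf9b2e4d7ab4e8fffbefc8916b57a146143b97674f9126d5ba95634781069539936f5fb16654b42819b24a91bb672e15aa7af17ae62c11a26ad13a652a1dba5ab1fbe2e58a9426488903e78e9c3668c980e1828406080801e3868c1628488f7ebcf8dfbb6ecc78b0e0efdbaf4d7ab4e8fffbefce7cb8f0cf9b2e4952e449bd7ee5d850e041ad5ea55b56ec599d3e64da54e8518d1e24554ad4297cfde3d448d0216cdda3574edc395cbd62d64cd8314c9d2253668c981e3868c06080802e58a9416284883e78e9c26488900e18284d9b7f7ff1e756be9d7367c187973f9f776fd1a7d7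bc997b77e1c71639b32fdeb3625ca8b12bd6a3421c2bb727ce9322ddaab523c683029d278f572f50a5d3b4895b3760c512358b5f3f70e552b68d532740859333a7078e1220d9a2a5038602009921a30f9e326058a0a10b962240182ddbf66dd5af469eddfa75e5cf871fdffe7df5efc79cd9f265c58f0619d3e64d952e449ad5ea55a54e851bd7ee5db56ec598d1e245850e0415cbd62d54ad4296cdda3564cd8317cfde3d74edc394c9d225448d0211c3c60d142c4092c5ca15244c8113c7ce1d346cc190c1c205040c001,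
  nat_lit 0xf7abc69ffbb67defdba75e7cb061d7eb479dffbe6dcf9b265c78b871bb32fceb12655bad5e245a74a8d09b727de9166d4b8d1ea55870a0c072a1d2b58f5fae6ed922564cd8b052e153b78b57be4e99a35448d0a01e7869c36284980e1828406088903e38e8c1668c882e58a942648080⟩

def TQ : Tb := ⟨5, nat_lit 0x7b9ac5a928398a418820ffbbcdeb38bdab49ca30bdab49ca30ffbbcdeb38398a4188207b9ac5a928deb387b9ac18820bdab45a928ffbbc9ca30398a4ef1ee4a37aad0e6082726b3fece16a292f68c06273d8d52d09b5e9594e11f7f9dd6f1931c8510c01,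
  nat_lit 0x7f9bcda938398a418a30fbbac5eb28bdab49c820⟩

def fw : List (List ℕ) := [[],
  [2, 0, 1, 2],
  [],
  [],
  [],
  [],
  [],
  [],
  [3, 0, 5, 0, 2, 3, 0, 1, 5],
  [],
  [],
  [3, 5, 0, 3, 5, 0, 2, 3, 0, 1, 3],
  [1, 5, 0, 2, 3, 0, 5, 0, 3, 4],
  [],
  [3, 5, 0, 1, 5, 0, 3, 0, 3, 0, 1, 3],
  [],
  [],
  [1, 2, 0, 2],
  [],
  [],
  [],
  [],
  [],
  [],
  [3, 5, 0, 2, 0, 5, 3, 0, 3, 0, 3],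
  [],
  [],
  [1, 5, 0, 2, 3, 0, 5, 0, 3],
  [3, 0, 5, 0, 5, 3, 0, 5, 0, 1, 5],
  [],
  [3, 0, 4, 5, 0, 1, 3, 0, 1, 5],
  [],
  [2, 0, 1, 2, 5, 0, 5, 0, 3],
  [2, 5, 0, 5, 0, 1, 2],
  [],
  [],
  [],
  [],
  [3, 0, 3, 0, 2, 4],
  [2, 0, 3, 0, 1, 2, 0, 3],
  [],
  [],
  [],
  [],
  [],
  [],
  [],
  [],
  [2, 5, 0, 2, 5],
  [1, 5, 0, 2, 0, 2, 5],
  [],
  [],
  [],
  [],
  [3, 0, 3, 0, 2],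
  [2, 0, 3, 0, 1, 2, 0, 3, 4],
  [],
  [],
  [],
  [],
  [],
  [],
  [],
  [],
  [2, 0, 3, 0, 3],
  [3, 0, 1, 2, 0, 1, 2, 3],
  [1, 5, 0, 5],
  [1, 2, 0, 2, 5, 0, 1, 5],
  [],
  [],
  [],
  [],
  [],
  [],
  [],
  [],
  [],
  [],
  [],
  [],
  [3, 0, 1, 2, 0, 4, 3],
  [2, 0, 3, 0, 3, 4],
  [2, 0, 1, 5, 0, 2, 5],
  [5, 0, 5, 0, 3, 0, 1, 2, 5],
  [],
  [],
  [],
  [],
  [],
  [],
  [],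
  [],
  [],
  [],
  [],
  [],
  [],
  [],
  [5, 0, 5, 0, 3, 0, 1],
  [5, 0, 1, 5],
  [],
  [],
  [3, 0, 4, 3],
  [3, 0, 1, 2, 3],
  [],
  [],
  [],
  [],
  [],
  [],
  [],
  [],
  [],
  [],
  [2, 0, 2, 5, 0, 5],
  [1, 2, 0, 5, 0, 2, 5],
  [],
  [],
  [3, 0, 1, 2, 0, 3, 0, 2],
  [3, 0, 2, 3, 0, 5, 0, 1],
  [],
  [],
  [],
  [],
  [],
  [],
  [],
  []]

def WA : List (List ℕ) := [[],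
  [7],
  [8],
  [7, 8],
  [8, 7],
  [8, 8],
  [7, 8, 7],
  [7, 8, 8],
  [8, 7, 8],
  [8, 8, 7],
  [7, 8, 7, 8],
  [7, 8, 8, 7],
  [8, 7, 8, 7],
  [8, 7, 8, 8],
  [8, 8, 7, 8],
  [7, 8, 7, 8, 7],
  [7, 8, 7, 8, 8],
  [7, 8, 8, 7, 8],
  [8, 7, 8, 7, 8],
  [8, 7, 8, 8, 7],
  [8, 8, 7, 8, 7],
  [8, 8, 7, 8, 8],
  [7, 8, 7, 8, 7, 8],
  [7, 8, 7, 8, 8, 7],
  [7, 8, 8, 7, 8, 7],
  [7, 8, 8, 7, 8, 8],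
  [8, 7, 8, 7, 8, 8],
  [8, 7, 8, 8, 7, 8],
  [8, 8, 7, 8, 7, 8],
  [7, 8, 7, 8, 7, 8, 8],
  [7, 8, 7, 8, 8, 7, 8],
  [7, 8, 8, 7, 8, 7, 8],
  [8, 7, 8, 7, 8, 8, 7],
  [8, 7, 8, 8, 7, 8, 7],
  [8, 7, 8, 8, 7, 8, 8],
  [8, 8, 7, 8, 7, 8, 8],
  [7, 8, 7, 8, 7, 8, 8, 7],
  [7, 8, 7, 8, 8, 7, 8, 7],
  [7, 8, 7, 8, 8, 7, 8, 8],
  [7, 8, 8, 7, 8, 7, 8, 8],
  [8, 7, 8, 7, 8, 8, 7, 8],
  [8, 7, 8, 8, 7, 8, 7, 8],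
  [8, 8, 7, 8, 7, 8, 8, 7],
  [7, 8, 7, 8, 7, 8, 8, 7, 8],
  [7, 8, 7, 8, 8, 7, 8, 7, 8],
  [7, 8, 8, 7, 8, 7, 8, 8, 7],
  [8, 7, 8, 7, 8, 8, 7, 8, 7],
  [8, 7, 8, 7, 8, 8, 7, 8, 8],
  [8, 7, 8, 8, 7, 8, 7, 8, 8],
  [8, 8, 7, 8, 7, 8, 8, 7, 8],
  [7, 8, 7, 8, 7, 8, 8, 7, 8, 7],
  [7, 8, 7, 8, 7, 8, 8, 7, 8, 8],
  [7, 8, 7, 8, 8, 7, 8, 7, 8, 8],
  [7, 8, 8, 7, 8, 7, 8, 8, 7, 8],
  [8, 7, 8, 8, 7, 8, 7, 8, 8, 7],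
  [8, 8, 7, 8, 7, 8, 8, 7, 8, 7],
  [7, 8, 7, 8, 8, 7, 8, 7, 8, 8, 7],
  [7, 8, 8, 7, 8, 7, 8, 8, 7, 8, 7],
  [8, 7, 8, 8, 7, 8, 7, 8, 8, 7, 8],
  [7, 8, 7, 8, 8, 7, 8, 7, 8, 8, 7, 8]]

def HW : List (List ℕ) := [[3, 0, 3],
  [3, 0, 2, 0, 3, 4, 3, 0, 2, 0, 3],
  [3, 1, 0, 2, 0, 2, 0, 1, 3],
  [4, 3, 0, 2, 1, 0, 3, 4, 3, 0, 1, 2, 0, 3, 4],
  [3, 2, 0, 3, 4, 3, 0, 2, 3],
  [3, 1, 0, 2, 1, 0, 1, 2, 0, 1, 3],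
  [0, 3, 1, 0, 3, 0, 2, 0, 2, 0, 3, 0, 1, 3, 0],
  [3, 4, 0, 2, 0, 3, 0, 3, 0, 2, 0, 4, 3],
  [4, 0, 2, 0, 3, 0, 3, 0, 2, 0, 4],
  [0, 3, 4, 1, 0, 2, 1, 0, 3, 0, 3, 0, 1, 2, 0, 1, 4, 3, 0],
  [1, 0, 3, 0, 3, 1, 0, 1, 3, 0, 3, 0, 1],
  [3, 0, 3, 0, 3, 1, 0, 1, 3, 0, 3, 0, 3],
  [0, 3, 2, 0, 2, 1, 0, 3, 0, 3, 0, 1, 2, 0, 2, 3, 0],
  [0, 3, 2, 0, 2, 0, 2, 0, 2, 3, 0],
  [3, 4, 0, 3, 0, 3, 1, 0, 1, 3, 0, 3, 0, 4, 3],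
  [],
  [3, 4, 3],
  [0, 3, 0, 2, 0, 3, 4, 3, 0, 2, 0, 3, 0],
  [3, 1, 0, 1, 3],
  [4, 3, 0, 2, 1, 0, 1, 2, 0, 3, 4],
  [4, 1, 0, 3, 0, 3, 0, 1, 4],
  [3, 2, 0, 2, 1, 0, 3, 4, 3, 0, 1, 2, 0, 2, 3],
  [3, 2, 0, 2, 0, 2, 0, 2, 3],
  [1, 0, 3, 0, 2, 0, 2, 0, 3, 0, 1],
  [4, 3, 0, 3, 0, 3, 0, 3, 0, 3, 0, 3, 4],
  [4, 1, 0, 2, 1, 0, 3, 0, 3, 0, 1, 2, 0, 1, 4],
  [2, 0, 2, 1, 0, 3, 0, 3, 0, 1, 2, 0, 2],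
  [2, 0, 3, 0, 3, 0, 2],
  [4, 2, 0, 2, 1, 0, 3, 0, 2, 0, 2, 0, 3, 0, 1, 2, 0, 2, 4],
  [3, 0, 3, 4, 3, 0, 3],
  [2, 0, 3, 2, 0, 3, 0, 3, 0, 3, 0, 3, 0, 2, 3, 0, 2],
  [4, 2, 0, 3, 0, 2, 0, 2, 0, 3, 0, 2, 4],
  [1, 0, 2, 1, 0, 3, 0, 2, 0, 2, 0, 3, 0, 1, 2, 0, 1],
  [0, 3, 2, 0, 2, 1, 0, 3, 2, 0, 2, 3, 0, 1, 2, 0, 2, 3, 0],
  [2, 0, 3, 2, 0, 2, 1, 0, 1, 2, 0, 2, 3, 0, 2],
  [0, 2, 0, 3, 1, 0, 3, 0, 3, 0, 1, 3, 0, 2, 0],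
  [2, 1, 0, 2, 0, 3, 0, 3, 0, 2, 0, 1, 2],
  [3, 0, 2, 0, 3, 0, 3, 0, 2, 0, 3],
  [0, 1, 0, 1, 0],
  [0, 2, 1, 0, 2, 0, 3, 4, 3, 0, 2, 0, 1, 2, 0],
  [4, 3, 0, 3, 4],
  [3, 1, 0, 2, 1, 0, 3, 4, 3, 0, 1, 2, 0, 1, 3],
  [3, 2, 0, 2, 3],
  [3, 0, 2, 1, 0, 3, 4, 3, 0, 1, 2, 0, 3],
  [0, 2, 0, 2, 1, 0, 3, 4, 3, 0, 1, 2, 0, 2, 0],
  [0, 2, 0, 2, 0, 2, 0, 2, 0],
  [3, 0, 2, 1, 0, 1, 2, 0, 3],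
  [4, 3, 0, 3, 4, 3, 0, 3, 4],
  [3, 2, 0, 2, 1, 0, 1, 2, 0, 2, 3],
  [3, 1, 0, 3, 4, 3, 0, 1, 3],
  [0],
  [1, 0, 3, 0, 3, 0, 1],
  [1, 0, 3, 1, 0, 1, 3, 0, 1],
  [4],
  [0, 2, 1, 0, 2, 1, 0, 1, 2, 0, 1, 2, 0],
  [3, 0, 2, 0, 2, 0, 3],
  [4, 3, 0, 2, 0, 2, 0, 3, 4],
  [3, 1, 0, 2, 0, 3, 4, 3, 0, 2, 0, 1, 3],
  [3, 2, 0, 2, 0, 3, 4, 3, 0, 2, 0, 2, 3],
  [3, 1, 0, 3, 0, 3, 0, 1, 3],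
  [4, 3, 0, 3, 0, 3, 0, 3, 4],
  [3, 2, 0, 3, 0, 3, 0, 2, 1, 0, 1, 2, 0, 3, 0, 3, 0, 2, 3],
  [3, 1, 0, 2, 1, 0, 3, 1, 0, 1, 3, 0, 1, 2, 0, 1, 3],
  [3, 0, 2, 1, 0, 3, 2, 0, 2, 3, 0, 1, 2, 0, 3],
  [2, 1, 0, 3, 0, 3, 2, 0, 2, 3, 0, 3, 0, 1, 2],
  [1, 0, 3, 1, 0, 3, 0, 3, 0, 1, 3, 0, 1],
  [4, 1, 0, 3, 0, 3, 0, 3, 0, 3, 0, 1, 4],
  [2, 0, 3, 2, 0, 2, 1, 0, 3, 2, 0, 2, 3, 0, 1, 2, 0, 2, 3, 0, 2],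
  [3, 2, 0, 3, 0, 2, 1, 0, 3, 0, 3, 0, 1, 2, 0, 3, 0, 2, 3],
  [2, 1, 0, 3, 2, 0, 3, 1, 0, 1, 3, 0, 2, 3, 0, 1, 2],
  [2, 1, 0, 3, 0, 3, 1, 0, 2, 0, 2, 0, 1, 3, 0, 3, 0, 1, 2],
  [2, 1, 0, 2, 0, 3, 4, 3, 0, 2, 0, 1, 2],
  [3, 0, 3, 0, 3, 0, 3],
  [2, 0, 3, 0, 3, 2, 0, 3, 4, 3, 0, 2, 3, 0, 3, 0, 2],
  [3, 0, 3, 2, 0, 3, 4, 3, 0, 2, 3, 0, 3],
  [3, 0, 3, 1, 0, 2, 0, 2, 0, 1, 3, 0, 3],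
  [4, 2, 0, 3, 0, 3, 0, 3, 0, 3, 0, 2, 4],
  [2, 1, 0, 2, 1, 0, 3, 4, 3, 0, 1, 2, 0, 1, 2],
  [2, 0, 3, 2, 0, 3, 2, 0, 2, 3, 0, 2, 3, 0, 2],
  [0, 2, 1, 0, 3, 2, 0, 2, 3, 0, 1, 2, 0],
  [1, 0, 3, 1, 0, 3, 4, 3, 0, 1, 3, 0, 1],
  [2, 1, 0, 3, 1, 0, 1, 3, 0, 1, 2],
  [2, 1, 0, 3, 0, 3, 4, 3, 0, 3, 0, 1, 2],
  [1, 0, 1],
  [3, 4, 1, 0, 2, 0, 3, 0, 3, 0, 2, 0, 1, 4, 3],
  [3, 2, 0, 2, 0, 3, 0, 3, 0, 2, 0, 2, 3],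
  [1, 0, 2, 1, 0, 3, 4, 3, 0, 1, 2, 0, 1],
  [0, 3, 2, 0, 2, 1, 0, 3, 4, 3, 0, 1, 2, 0, 2, 3, 0],
  [1, 0, 3, 2, 1, 0, 3, 0, 3, 4, 3, 0, 3, 0, 1, 2, 3, 0, 1],
  [0, 2, 1, 0, 3, 1, 0, 3, 4, 3, 0, 1, 3, 0, 1, 2, 0],
  [0, 3, 0, 3, 4, 3, 0, 3, 0],
  [3, 0, 3, 0, 2, 0, 2, 0, 3, 0, 3],
  [2, 0, 3, 2, 0, 2, 1, 0, 3, 4, 3, 0, 1, 2, 0, 2, 3, 0, 2],
  [3, 2, 0, 3, 0, 3, 4, 3, 0, 3, 0, 2, 3],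
  [3, 0, 3, 0, 2, 1, 0, 1, 2, 0, 3, 0, 3],
  [3, 0, 3, 1, 0, 1, 3, 0, 3],
  [2, 0, 2, 1, 0, 3, 4, 3, 0, 1, 2, 0, 2],
  [2, 1, 0, 3, 1, 0, 2, 1, 0, 3, 4, 3, 0, 1, 2, 0, 1, 3, 0, 1, 2],
  [0, 3, 2, 1, 0, 3, 0, 3, 4, 3, 0, 3, 0, 1, 2, 3, 0],
  [2, 0, 2, 1, 0, 3, 1, 0, 3, 4, 3, 0, 1, 3, 0, 1, 2, 0, 2],
  [2, 0, 2],
  [0, 3, 1, 0, 3, 1, 0, 1, 3, 0, 1, 3, 0],
  [0, 3, 2, 0, 3, 2, 0, 2, 3, 0, 2, 3, 0],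
  [3, 0, 3, 0, 3, 4, 3, 0, 3, 0, 3],
  [0, 3, 1, 0, 3, 0, 3, 0, 1, 3, 0],
  [3, 0, 3, 2, 0, 2, 3, 0, 3],
  [0, 2, 0, 3, 2, 0, 2, 3, 0, 2, 0],
  [1, 0, 3, 1, 0, 2, 1, 0, 3, 4, 3, 0, 1, 2, 0, 1, 3, 0, 1],
  [1, 0, 3, 0, 3, 4, 3, 0, 3, 0, 1],
  [0, 2, 1, 0, 3, 4, 3, 0, 1, 2, 0],
  [2, 0, 3, 0, 3, 4, 3, 0, 3, 0, 2],
  [0, 3, 2, 0, 2, 3, 0],
  [4, 3, 0, 2, 0, 3, 0, 3, 0, 2, 0, 3, 4],
  [2, 1, 0, 2, 1, 0, 3, 1, 0, 1, 3, 0, 1, 2, 0, 1, 2],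
  [2, 0, 3, 2, 0, 3, 4, 3, 0, 2, 3, 0, 2],
  [4, 0, 2, 1, 0, 3, 0, 3, 0, 1, 2, 0, 4],
  [4, 2, 0, 2, 0, 3, 0, 3, 0, 2, 0, 2, 4],
  [2, 0, 3, 2, 0, 3, 1, 0, 1, 3, 0, 2, 3, 0, 2],
  [2, 0, 3, 0, 3, 1, 0, 2, 0, 2, 0, 1, 3, 0, 3, 0, 2],
  [0, 3, 1, 0, 3, 2, 0, 2, 3, 0, 1, 3, 0],
  [0, 3, 4, 1, 0, 3, 0, 3, 0, 3, 0, 3, 0, 1, 4, 3, 0],
  [2, 0, 2, 0, 2, 0, 2],
  [2, 0, 2, 1, 0, 3, 2, 0, 2, 3, 0, 1, 2, 0, 2],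
  [4, 2, 0, 2, 1, 0, 3, 0, 3, 0, 1, 2, 0, 2, 4],
  [4, 0, 3, 0, 2, 0, 2, 0, 3, 0, 4],
  [0, 3, 0, 3, 2, 0, 3, 1, 0, 1, 3, 0, 2, 3, 0, 3, 0],
  [4, 3, 0, 3, 0, 3, 1, 0, 1, 3, 0, 3, 0, 3, 4],
  [3, 1, 0, 3, 0, 2, 0, 2, 0, 3, 0, 1, 3],
  [2, 0, 3, 0, 3, 0, 3, 0, 3, 0, 2],
  [0, 3, 2, 0, 3, 0, 3, 0, 3, 0, 3, 0, 2, 3, 0],
  [0, 2, 0, 3, 4, 3, 0, 2, 0],
  [3, 0, 3, 2, 0, 2, 0, 2, 0, 2, 3, 0, 3],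
  [0, 3, 1, 0, 3, 4, 3, 0, 1, 3, 0],
  [3, 4, 0, 3, 0, 3, 0, 4, 3],
  [1, 0, 3, 0, 3, 0, 3, 0, 3, 0, 1],
  [0, 3, 0, 3, 2, 0, 3, 4, 3, 0, 2, 3, 0, 3, 0],
  [2, 0, 3, 0, 3, 2, 0, 2, 3, 0, 3, 0, 2],
  [0, 3, 1, 0, 3, 1, 0, 2, 0, 2, 0, 1, 3, 0, 1, 3, 0],
  [3, 0, 2, 1, 0, 3, 1, 0, 1, 3, 0, 1, 2, 0, 3],
  [0, 3, 0, 2, 0, 2, 0, 3, 0],
  [3, 4, 0, 2, 1, 0, 3, 0, 3, 0, 1, 2, 0, 4, 3],
  [1, 0, 3, 0, 3, 1, 0, 2, 0, 2, 0, 1, 3, 0, 3, 0, 1],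
  [3, 4, 1, 0, 3, 0, 3, 0, 3, 0, 3, 0, 1, 4, 3],
  [3, 1, 0, 3, 2, 0, 2, 3, 0, 1, 3],
  [4, 3, 0, 3, 1, 0, 2, 0, 2, 0, 1, 3, 0, 3, 4],
  [4, 3, 0, 3, 0, 2, 0, 2, 0, 3, 0, 3, 4],
  [0, 2, 1, 0, 3, 0, 3, 0, 1, 2, 0],
  [3, 0, 3, 0, 3, 1, 0, 2, 0, 2, 0, 1, 3, 0, 3, 0, 3],
  [2, 0, 3, 1, 0, 1, 3, 0, 2],
  [2, 0, 3, 0, 2, 1, 0, 1, 2, 0, 3, 0, 2],
  [2, 0, 3, 0, 2, 0, 2, 0, 3, 0, 2],
  [3, 4, 1, 0, 3, 0, 3, 0, 1, 4, 3],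
  [3, 2, 1, 0, 3, 0, 3, 0, 1, 2, 3],
  [3, 0, 3, 0, 3, 0, 2, 1, 0, 1, 2, 0, 3, 0, 3, 0, 3],
  [3, 0, 2, 1, 0, 3, 0, 3, 0, 1, 2, 0, 3],
  [4, 2, 1, 0, 3, 0, 2, 0, 2, 0, 3, 0, 1, 2, 4],
  [0, 3, 0, 3, 1, 0, 2, 0, 2, 0, 1, 3, 0, 3, 0],
  [0, 2, 1, 0, 2, 0, 3, 0, 3, 0, 2, 0, 1, 2, 0],
  [4, 2, 1, 0, 2, 0, 3, 0, 3, 0, 2, 0, 1, 2, 4],
  [2, 0, 2, 1, 0, 3, 2, 0, 3, 1, 0, 1, 3, 0, 2, 3, 0, 1, 2, 0, 2],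
  [4, 0, 3, 1, 0, 3, 0, 3, 0, 1, 3, 0, 4],
  [3, 2, 0, 3, 0, 3, 1, 0, 2, 0, 2, 0, 1, 3, 0, 3, 0, 2, 3],
  [0, 2, 1, 0, 2, 1, 0, 3, 0, 3, 0, 1, 2, 0, 1, 2, 0],
  [4, 1, 0, 3, 0, 2, 0, 2, 0, 3, 0, 1, 4],
  [1, 0, 3, 2, 0, 2, 3, 0, 1],
  [0, 3, 0, 3, 0, 3, 0, 3, 0, 3, 0, 3, 0],
  [2, 1, 0, 2, 1, 0, 1, 2, 0, 1, 2],
  [3, 4, 0, 3, 0, 2, 1, 0, 3, 0, 3, 0, 1, 2, 0, 3, 0, 4, 3],
  [3, 0, 3, 2, 0, 3, 1, 0, 1, 3, 0, 2, 3, 0, 3],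
  [1, 0, 2, 0, 2, 0, 1],
  [1, 0, 2, 1, 0, 3, 1, 0, 1, 3, 0, 1, 2, 0, 1],
  [1, 0, 2, 1, 0, 3, 0, 3, 0, 1, 2, 0, 1],
  [2, 1, 0, 1, 2],
  [4, 2, 0, 3, 0, 3, 0, 2, 4],
  [2, 0, 3, 2, 0, 2, 3, 0, 2],
  [3, 4, 1, 0, 2, 1, 0, 3, 0, 3, 0, 1, 2, 0, 1, 4, 3],
  [2, 1, 0, 3, 0, 3, 0, 1, 2],
  [0, 3, 1, 0, 2, 1, 0, 3, 0, 3, 0, 1, 2, 0, 1, 3, 0],
  [2, 1, 0, 3, 0, 2, 0, 2, 0, 3, 0, 1, 2],
  [3, 0, 2, 1, 0, 2, 0, 3, 0, 3, 0, 2, 0, 1, 2, 0, 3],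
  [3, 1, 0, 3, 1, 0, 2, 0, 2, 0, 1, 3, 0, 1, 3],
  [1, 0, 2, 0, 3, 0, 3, 0, 2, 0, 1],
  [2, 1, 0, 2, 1, 0, 3, 0, 3, 0, 1, 2, 0, 1, 2],
  [1, 0, 3, 1, 0, 3, 2, 0, 2, 3, 0, 1, 3, 0, 1],
  [3, 2, 0, 2, 1, 0, 3, 0, 3, 0, 1, 2, 0, 2, 3],
  [1, 0, 2, 0, 3, 4, 3, 0, 2, 0, 1],
  [2, 0, 3, 0, 2, 1, 0, 3, 4, 3, 0, 1, 2, 0, 3, 0, 2],
  [4, 1, 0, 2, 0, 3, 0, 3, 0, 2, 0, 1, 4],
  [4, 0, 3, 0, 2, 1, 0, 3, 0, 3, 0, 1, 2, 0, 3, 0, 4],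
  [2, 0, 3, 1, 0, 2, 1, 0, 3, 4, 3, 0, 1, 2, 0, 1, 3, 0, 2],
  [2, 0, 3, 0, 2, 1, 0, 3, 0, 3, 0, 1, 2, 0, 3, 0, 2],
  [2, 1, 0, 3, 2, 0, 2, 3, 0, 1, 2],
  [0, 3, 1, 0, 2, 1, 0, 3, 0, 2, 0, 2, 0, 3, 0, 1, 2, 0, 1, 3, 0],
  [0, 3, 2, 0, 2, 0, 3, 0, 3, 0, 2, 0, 2, 3, 0],
  [1, 0, 2, 0, 3, 2, 0, 2, 3, 0, 2, 0, 1],
  [0, 2, 0, 3, 1, 0, 1, 3, 0, 2, 0],
  [2, 1, 0, 2, 0, 2, 0, 1, 2],
  [3, 0, 3, 0, 3, 0, 3, 0, 3, 0, 3],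
  [1, 0, 3, 0, 2, 1, 0, 1, 2, 0, 3, 0, 1],
  [3, 2, 1, 0, 2, 1, 0, 3, 0, 3, 0, 1, 2, 0, 1, 2, 3],
  [3, 2, 0, 3, 2, 0, 2, 3, 0, 2, 3],
  [3, 0, 2, 0, 3, 1, 0, 1, 3, 0, 2, 0, 3],
  [1, 0, 3, 0, 3, 0, 2, 1, 0, 1, 2, 0, 3, 0, 3, 0, 1],
  [0, 3, 0, 2, 1, 0, 3, 0, 3, 0, 1, 2, 0, 3, 0],
  [4, 2, 0, 3, 0, 2, 1, 0, 3, 0, 3, 0, 1, 2, 0, 3, 0, 2, 4],
  [4, 0, 3, 0, 2, 1, 0, 1, 2, 0, 3, 0, 4],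
  [4, 3, 0, 2, 1, 0, 3, 0, 3, 0, 1, 2, 0, 3, 4],
  [3, 2, 0, 3, 1, 0, 1, 3, 0, 2, 3],
  [2, 1, 0, 3, 0, 2, 1, 0, 3, 0, 3, 0, 1, 2, 0, 3, 0, 1, 2],
  [2, 0, 2, 0, 3, 4, 3, 0, 2, 0, 2],
  [2, 0, 2, 0, 3, 0, 3, 0, 2, 0, 2],
  [2, 1, 0, 3, 0, 2, 1, 0, 3, 4, 3, 0, 1, 2, 0, 3, 0, 1, 2],
  [4, 3, 1, 0, 2, 1, 0, 3, 0, 3, 0, 1, 2, 0, 1, 3, 4],
  [1, 0, 3, 2, 0, 2, 1, 0, 3, 4, 3, 0, 1, 2, 0, 2, 3, 0, 1],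
  [0, 2, 0, 2, 0],
  [4, 2, 0, 3, 0, 2, 1, 0, 1, 2, 0, 3, 0, 2, 4],
  [3, 4, 0, 3, 0, 3, 0, 3, 0, 3, 0, 4, 3],
  [0, 2, 1, 0, 1, 2, 0],
  [3, 0, 3, 1, 0, 3, 2, 0, 2, 3, 0, 1, 3, 0, 3],
  [3, 0, 3, 0, 2, 1, 0, 3, 0, 3, 0, 1, 2, 0, 3, 0, 3],
  [0, 3, 0, 3, 0],
  [4, 3, 0, 3, 1, 0, 1, 3, 0, 3, 4],
  [3, 1, 0, 3, 0, 3, 2, 0, 2, 3, 0, 3, 0, 1, 3],
  [4, 0, 3, 0, 3, 0, 4],
  [3, 1, 0, 2, 1, 0, 3, 0, 3, 0, 1, 2, 0, 1, 3],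
  [3, 0, 2, 1, 0, 3, 0, 2, 0, 2, 0, 3, 0, 1, 2, 0, 3],
  [0, 3, 4, 3, 0],
  [0, 3, 1, 0, 2, 0, 2, 0, 1, 3, 0],
  [3, 1, 0, 3, 2, 0, 3, 0, 3, 4, 3, 0, 3, 0, 2, 3, 0, 1, 3],
  [2, 1, 0, 3, 2, 0, 2, 1, 0, 3, 4, 3, 0, 1, 2, 0, 2, 3, 0, 1, 2],
  [4, 3, 0, 2, 0, 3, 1, 0, 1, 3, 0, 2, 0, 3, 4],
  [3, 1, 0, 3, 2, 0, 3, 1, 0, 1, 3, 0, 2, 3, 0, 1, 3],
  [2, 0, 3, 1, 0, 3, 0, 3, 0, 1, 3, 0, 2],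
  [4, 0, 2, 1, 0, 3, 0, 3, 0, 3, 0, 3, 0, 1, 2, 0, 4],
  [0, 3, 4, 0, 3, 0, 3, 0, 3, 0, 3, 0, 4, 3, 0],
  [0, 2, 0, 3, 0, 3, 0, 2, 0],
  [2, 0, 3, 0, 3, 0, 2, 1, 0, 1, 2, 0, 3, 0, 3, 0, 2],
  [0, 2, 1, 0, 3, 0, 2, 0, 2, 0, 3, 0, 1, 2, 0],
  [0, 3, 1, 0, 1, 3, 0],
  [4, 1, 0, 3, 0, 2, 1, 0, 3, 0, 3, 0, 1, 2, 0, 3, 0, 1, 4],
  [0, 2, 0, 3, 1, 0, 2, 1, 0, 3, 0, 3, 0, 1, 2, 0, 1, 3, 0, 2, 0],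
  [4, 0, 3, 0, 2, 0, 3, 1, 0, 1, 3, 0, 2, 0, 3, 0, 4],
  [4, 3, 1, 0, 3, 0, 3, 0, 1, 3, 4],
  [0, 3, 2, 0, 3, 0, 3, 0, 2, 3, 0],
  [2, 0, 2, 1, 0, 1, 2, 0, 2],
  [1, 0, 3, 2, 0, 2, 0, 2, 0, 2, 3, 0, 1],
  [1, 0, 3, 1, 0, 2, 0, 2, 0, 1, 3, 0, 1],
  [2, 0, 3, 4, 3, 0, 2],
  [0, 3, 0, 2, 1, 0, 3, 4, 3, 0, 1, 2, 0, 3, 0],
  [3, 2, 1, 0, 3, 0, 3, 4, 3, 0, 3, 0, 1, 2, 3],
  [2, 0, 3, 1, 0, 3, 4, 3, 0, 1, 3, 0, 2],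
  [3, 2, 0, 3, 0, 3, 2, 0, 2, 3, 0, 3, 0, 2, 3],
  [0, 3, 0, 3, 0, 3, 0, 3, 0],
  [2, 1, 0, 2, 1, 0, 3, 0, 2, 0, 2, 0, 3, 0, 1, 2, 0, 1, 2],
  [1, 0, 3, 4, 3, 0, 1],
  [3, 1, 0, 3, 0, 3, 4, 3, 0, 3, 0, 1, 3],
  [1, 0, 3, 0, 2, 1, 0, 3, 4, 3, 0, 1, 2, 0, 3, 0, 1],
  [1, 0, 3, 2, 0, 3, 4, 3, 0, 2, 3, 0, 1],
  [1, 0, 2, 1, 0, 1, 2, 0, 1],
  [0, 3, 0, 3, 1, 0, 1, 3, 0, 3, 0],
  [4, 0, 3, 0, 3, 1, 0, 1, 3, 0, 3, 0, 4],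
  [4, 2, 1, 0, 3, 0, 3, 0, 3, 0, 3, 0, 1, 2, 4],
  [4, 0, 2, 1, 0, 3, 0, 2, 0, 2, 0, 3, 0, 1, 2, 0, 4],
  [3, 0, 3, 0, 3, 2, 0, 2, 3, 0, 3, 0, 3],
  [3, 1, 0, 3, 0, 3, 1, 0, 1, 3, 0, 3, 0, 1, 3],
  [3, 1, 0, 3, 1, 0, 1, 3, 0, 1, 3],
  [0, 3, 2, 0, 2, 1, 0, 1, 2, 0, 2, 3, 0],
  [4, 2, 1, 0, 3, 0, 3, 0, 1, 2, 4],
  [0, 2, 0, 2, 1, 0, 3, 0, 3, 0, 1, 2, 0, 2, 0],
  [4, 3, 0, 3, 2, 0, 2, 3, 0, 3, 4],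
  [2, 1, 0, 3, 4, 3, 0, 1, 2],
  [0, 3, 0, 2, 1, 0, 1, 2, 0, 3, 0],
  [0, 3, 1, 0, 2, 1, 0, 3, 4, 3, 0, 1, 2, 0, 1, 3, 0],
  [0, 3, 0, 2, 0, 3, 1, 0, 1, 3, 0, 2, 0, 3, 0],
  [3, 1, 0, 3, 2, 1, 0, 3, 0, 3, 4, 3, 0, 3, 0, 1, 2, 3, 0, 1, 3],
  [0, 3, 0, 2, 0, 3, 0, 3, 0, 2, 0, 3, 0],
  [1, 0, 2, 0, 3, 1, 0, 1, 3, 0, 2, 0, 1],
  [4, 3, 0, 2, 1, 0, 3, 0, 2, 0, 2, 0, 3, 0, 1, 2, 0, 3, 4],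
  [0, 3, 0, 3, 2, 0, 2, 1, 0, 3, 2, 0, 2, 3, 0, 1, 2, 0, 2, 3, 0, 3, 0],
  [3, 2, 0, 3, 0, 2, 0, 2, 0, 3, 0, 2, 3],
  [4, 3, 0, 2, 1, 0, 3, 2, 0, 2, 3, 0, 1, 2, 0, 3, 4],
  [0, 2, 1, 0, 3, 0, 3, 0, 3, 0, 3, 0, 1, 2, 0],
  [3, 2, 0, 3, 0, 3, 0, 2, 3],
  [0, 3, 4, 1, 0, 3, 0, 3, 0, 1, 4, 3, 0],
  [3, 0, 2, 0, 3, 0, 2, 0, 2, 0, 3, 0, 2, 0, 3],
  [3, 0, 3, 2, 0, 2, 1, 0, 3, 2, 0, 2, 3, 0, 1, 2, 0, 2, 3, 0, 3],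
  [0, 3, 0, 3, 0, 2, 1, 0, 1, 2, 0, 3, 0, 3, 0],
  [1, 0, 3, 0, 2, 1, 0, 3, 0, 3, 0, 1, 2, 0, 3, 0, 1],
  [0, 3, 0, 3, 0, 3, 1, 0, 1, 3, 0, 3, 0, 3, 0],
  [1, 0, 2, 1, 0, 3, 2, 0, 2, 3, 0, 1, 2, 0, 1],
  [0, 2, 1, 0, 3, 2, 0, 3, 1, 0, 1, 3, 0, 2, 3, 0, 1, 2, 0],
  [2, 0, 2, 0, 3, 2, 0, 2, 3, 0, 2, 0, 2],
  [4, 0, 3, 1, 0, 2, 1, 0, 3, 0, 3, 0, 1, 2, 0, 1, 3, 0, 4],
  [0, 2, 1, 0, 3, 0, 2, 1, 0, 3, 0, 3, 0, 1, 2, 0, 3, 0, 1, 2, 0],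
  [0, 3, 2, 0, 3, 0, 3, 4, 3, 0, 3, 0, 2, 3, 0],
  [3, 0, 3, 2, 0, 3, 0, 3, 4, 3, 0, 3, 0, 2, 3, 0, 3],
  [2, 1, 0, 3, 1, 0, 3, 4, 3, 0, 1, 3, 0, 1, 2],
  [3, 2, 0, 2, 1, 0, 3, 0, 2, 0, 2, 0, 3, 0, 1, 2, 0, 2, 3],
  [1, 0, 2, 0, 3, 0, 2, 0, 2, 0, 3, 0, 2, 0, 1],
  [3, 2, 0, 2, 1, 0, 3, 1, 0, 1, 3, 0, 1, 2, 0, 2, 3],
  [3, 1, 0, 2, 1, 0, 3, 0, 2, 0, 2, 0, 3, 0, 1, 2, 0, 1, 3],
  [3, 2, 0, 3, 0, 3, 0, 3, 0, 3, 0, 2, 3],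
  [0, 3, 0, 3, 2, 0, 2, 3, 0, 3, 0],
  [2, 0, 3, 2, 0, 2, 0, 3, 0, 3, 0, 2, 0, 2, 3, 0, 2],
  [2, 0, 2, 0, 3, 1, 0, 1, 3, 0, 2, 0, 2],
  [4, 3, 0, 3, 0, 2, 1, 0, 1, 2, 0, 3, 0, 3, 4],
  [2, 0, 2, 1, 0, 3, 0, 2, 0, 2, 0, 3, 0, 1, 2, 0, 2],
  [2, 0, 2, 1, 0, 3, 1, 0, 1, 3, 0, 1, 2, 0, 2],
  [2, 0, 3, 0, 2, 0, 3, 1, 0, 1, 3, 0, 2, 0, 3, 0, 2],
  [2, 0, 3, 1, 0, 2, 1, 0, 3, 0, 3, 0, 1, 2, 0, 1, 3, 0, 2],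
  [0, 3, 2, 0, 3, 4, 3, 0, 2, 3, 0],
  [0, 3, 2, 0, 3, 1, 0, 1, 3, 0, 2, 3, 0],
  [3, 0, 3, 2, 1, 0, 3, 0, 3, 4, 3, 0, 3, 0, 1, 2, 3, 0, 3],
  [3, 2, 0, 2, 1, 0, 3, 2, 0, 2, 3, 0, 1, 2, 0, 2, 3],
  [1, 0, 3, 2, 0, 3, 0, 3, 4, 3, 0, 3, 0, 2, 3, 0, 1],
  [0, 3, 1, 0, 2, 1, 0, 1, 2, 0, 1, 3, 0],
  [1, 0, 3, 0, 3, 2, 0, 2, 3, 0, 3, 0, 1],
  [1, 0, 3, 1, 0, 2, 1, 0, 3, 0, 3, 0, 1, 2, 0, 1, 3, 0, 1],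
  [0, 2, 1, 0, 3, 1, 0, 1, 3, 0, 1, 2, 0],
  [4, 0, 3, 0, 3, 0, 3, 0, 3, 0, 4],
  [1, 0, 3, 2, 0, 3, 1, 0, 1, 3, 0, 2, 3, 0, 1],
  [2, 1, 0, 3, 0, 3, 0, 3, 0, 3, 0, 1, 2],
  [0, 2, 0, 3, 0, 2, 0, 2, 0, 3, 0, 2, 0],
  [2, 1, 0, 2, 1, 0, 3, 2, 0, 2, 3, 0, 1, 2, 0, 1, 2]]

def fxp : List ℕ := [0, 3, 11, 43, 68, 96, 330, 428, 657, 665, 740, 909, 983, 1144, 1426, 1433, 1823, 1871, 1903, 2052, 2096, 2154, 2259, 2316, 2387, 2741, 2743, 2755, 2757, 2965, 2980, 3098, 3155, 3166, 3363, 3397, 3408, 3496, 3613, 3650, 3686, 3731, 3801, 3821, 3971, 3984, 4020, 4143, 4212, 4260, 4406, 4520, 4672, 4689, 4732, 4888, 4897, 5095, 5294, 5315, 5401, 5416, 5437, 5506, 5626, 5644, 5710, 5835, 5938, 6021, 6037, 6062, 6076, 6087, 6134, 6153]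

noncomputable def xs : ℕ → G0 := locv df g

noncomputable def ck (u v : List ℕ) : Bool := T.chk2 [5, 2, 1, 0] (expand df u) (expand df v)

theorem hck (u v : List ℕ) (h : ck u v = true) : ev xs u = ev xs v := by
  rw [xs, ← ev_expand, ← ev_expand]
  exact hAM.chk2 htb.2 _ _ h

noncomputable def code (u : List ℕ) : ℕ :=
  Nat.add (Nat.mul (Nat.add (Nat.mul (Nat.add (Nat.mul (T.tr u 5) 8192) (T.tr u 2)) 8192) (T.tr u 1)) 8192)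
    (T.tr u 0)

theorem code_eq {u v : List ℕ} (hu : ∀ a ∈ u, a < T.G) (hv : ∀ a ∈ v, a < T.G) (e : ev g u = ev g v) :
    code u = code v := by
  have : ∀ b < T.N, T.tr u b = T.tr v b := fun b hb => by
    obtain ⟨a1, a2⟩ := hAM.tr hu b hb
    obtain ⟨a3, a4⟩ := hAM.tr hv b hb
    exact hinj _ a1 _ a3 (by rw [← a2, ← a4, e])
  rw [code, code, this 5 (by decide), this 2 (by decide), this 1 (by decide), this 0 (by decide)]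

theorem sm_exp (u : List ℕ) : ∀ a ∈ expand df u, a < T.G := by
  induction u with
  | nil => intro a h; cases h
  | cons c u ih =>
    intro a h
    rcases List.mem_append.1 (app_eq _ _ ▸ (show a ∈ app (gd [] df c) (expand df u) from h)) with h | h
    · rcases gd_cases [] df c with e | e
      · exact (by decide +kernel : ∀ w ∈ df, ∀ a ∈ w, a < 6) _ e a h
      · rw [e] at h; cases h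
    · exact ih a h

theorem ts_of {U : Tb} (H1 : U.tabChk ck 0 (2 ^ U.n) = true)
    (H2 : U.injChk (fun a => code (expand df (U.w a))) = true) : U.TS xs :=
  have h2 := Tb.tabChk_spec hck H1
  ⟨fun a ha => (h2 a (Nat.zero_le _) ha).2, fun a ha => (h2 a (Nat.zero_le _) ha).1,
    Tb.injChk_spec H2 fun a b e => code_eq (sm_exp _) (sm_exp _) (by rw [ev_expand, ev_expand]; exact e)⟩

theorem tS : TSy.TS xs := ts_of (by decide +kernel) (by decide +kernel)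
theorem tQ : TQ.TS xs := ts_of (by decide +kernel) (by decide +kernel)

theorem conj_z {t : G0} (h1 : t * t = 1) (h2 : t ≠ 1) : IsConj (g 0) t := by
  obtain ⟨k, -, a, ha, e⟩ := H14.exists_conj_mem_of_pow Nat.prime_two (K := ⊤) (P := tS.S) le_top
    (g := t) trivial (j := 1) (by simpa [pow_two] using h1) (n := 392445)
    (by rw [tS.card_S, card_top, hcard]; rfl) (by norm_num)
  have H : ∀ a < 128, TSy.mu a a = 0 → a = 0 ∨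
      T.chk2 [5, 2, 1, 0] (app (gd [] fw a) (expand df (TSy.w a))) (0 :: gd [] fw a) = true := by
    decide +kernel
  rcases H a ha (tS.inj _ (tS.mu_spec ha a).1 0 (by decide) (by
    rw [(tS.mu_spec ha a).2, Tb.E_zero, e, conj_mul, h1]; simp)) with rfl | H
  · rw [Tb.E_zero, eq_comm] at e
    exact absurd (by simpa using e) h2
  · have := hAM.chk2 htb.2 _ _ H
    rw [app_eq, ev_append, ev_expand, ev_cons] at this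
    refine (isConj_iff.2 ⟨ev g (gd [] fw a) * k, ?_⟩).symm
    rw [mul_inv_rev, ← mul_assoc, mul_inv_eq_iff_eq_mul, ← this, mul_assoc, mul_assoc, ← mul_assoc k, ← e]
    rfl

theorem card_C : Nat.card (centralizer ({g 0} : Set G0)) ≤ 1920 := by
  have h5 := (H23.card_conj_mem_eq_fixed (Lc j3l0.X0 g) (g 0)).symm.trans
    (H23.card_conj_mem_eq_cent (Lc j3l0.X0 g : Set G0) (g 0))
  rw [show Nat.card (Lc j3l0.X0 g) = 8160 from card1] at h5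
  have h1 : Nat.card (fixedBy (G0 ⧸ Lc j3l0.X0 g) (g 0)) ≤ 76 := by
    have ho := J3.orbit_of_OL hAM hinj htb.1 (by decide) (l := j3ch_0) (by decide +kernel) rfl
    rw [orbit_eq_univ] at ho
    have H : allRange (fun i => Bool.rec true (H14.anyL fxp (Nat.beq i)) (Nat.beq (T.tgt i 0) i)) 0 6156 = true := by
      decide +kernel
    rw [Nat.card_coe_set_eq]
    refine (Set.ncard_le_ncard (t := pt '' (fxp.toFinset : Set ℕ)) (fun q hq => ?_)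
      ((Finset.finite_toSet _).image _)).trans ((Set.ncard_image_le (Finset.finite_toSet _)).trans ?_)
    · obtain ⟨i, hi, rfl⟩ : q ∈ pt '' {i | i < T.N} := ho ▸ Set.mem_univ q
      obtain ⟨a1, a2⟩ := hAM i hi 0 (by decide)
      have := allRange_sound H i (Nat.zero_le _) hi
      rw [hinj _ a1 _ hi (by rw [← a2, inv_smul_eq_iff]; exact Eq.symm hq), Nat.beq_refl] at this
      obtain ⟨u, hu, e⟩ := H14.anyL_iff.1 this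
      exact ⟨i, by rw [Nat.eq_of_beq_eq_true e]; simpa using hu, rfl⟩
    · rw [Set.ncard_coe_finset]
      exact (List.toFinset_card_le _).trans (by decide +kernel)
  have h2 : 323 ≤ Nat.card {y : G0 // IsConj (g 0) y ∧ y ∈ (Lc j3l0.X0 g : Set G0)} := by
    have H : ∀ w ∈ HW, inM 31 w = true ∧ T.small w = true ∧ T.chk [5, 2, 1, 0] (app w w) = true := by
      decide +kernel
    haveI : IsTrans (List ℕ) fun u v => code u < code v := ⟨fun _ _ _ => lt_trans⟩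
    have H2 : HW.Pairwise fun u v => code u < code v :=
      List.IsChain.pairwise (by decide +kernel)
    have := len_le (x := g) (X := insert 1 {y : G0 | IsConj (g 0) y ∧ y ∈ (Lc j3l0.X0 g : Set G0)})
      (H2.imp_of_mem fun hu hv h e => h.ne (code_eq (T.small_sound (H _ hu).2.1) (T.small_sound (H _ hv).2.1) e))
      fun w hw => by
        have := hAM.chk htb.2 _ (H w hw).2.2
        rw [app_eq, ev_append] at this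
        exact (eq_or_ne _ 1).imp_right fun h => ⟨conj_z this h, ev_mem_Lc (H w hw).1 g⟩
    have h3 := this.trans (Set.ncard_insert_le _ _)
    rw [show HW.length = 323 + 1 by decide +kernel] at h3
    exact Nat.le_of_succ_le_succ h3
  have := (Nat.mul_le_mul_right _ h2).trans (h5.ge.trans (Nat.mul_le_mul_right _ h1))
  omega

def al (c : ℕ) : A5 :=
  if c = 7 then ⟨Equiv.swap 0 1 * Equiv.swap 2 3, Equiv.Perm.mem_alternatingGroup.2 (by decide)⟩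
  else ⟨Equiv.swap 0 2 * Equiv.swap 2 4, Equiv.Perm.mem_alternatingGroup.2 (by decide)⟩

theorem exD : ∃ f, D (g 0) tQ.S f := by
  have H : ∀ w ∈ WA, ∀ c ∈ [7, 8], ∃ v ∈ WA, ev al (w ++ [c]) = ev al v ∧ ck (w ++ [c]) v = true := by
    decide +kernel
  obtain ⟨f, h1, h2⟩ := hom_of_words al xs [7, 8] WA (by decide +kernel) (by decide +kernel)
    (by decide +kernel) (by decide +kernel) fun w hw c hc =>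
      (H w hw c hc).imp fun v hv => ⟨hv.1, hv.2.1, hck _ _ hv.2.2⟩
  have ez : TQ.E xs 16 = g 0 := by
    show xs 4 * 1 = _
    rw [mul_one]; exact mul_one _
  have inj : ∀ {a b}, a < 32 → b < 32 → TQ.E xs a = TQ.E xs b → a = b := fun ha hb => tQ.inj _ ha _ hb
  have ml : ∀ {a}, a < 32 → ∀ b, TQ.mu a b < 32 := fun ha b => (tQ.mu_spec ha b).1
  have mu : ∀ {a}, a < 32 → ∀ b, TQ.E xs a * TQ.E xs b = TQ.E xs (TQ.mu a b) :=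
    fun ha b => (tQ.mu_spec ha b).2.symm
  have e0 : (1 : G0) = TQ.E xs 0 := Tb.E_zero.symm
  obtain ⟨c1, c2⟩ := tQ.cen_spec (z := 16) (by decide +kernel)
  rw [ez] at c1 c2
  have cen : ∀ y ∈ tQ.S, y ∈ centralizer (tQ.S : Set G0) → y = 1 ∨ y = g 0 := fun y h1 h2 =>
    (eq_or_ne y 1).imp_right (c2 y h1 h2)
  have cz : ∀ c < 9, xs c ∈ centralizer ({g 0} : Set G0) := fun c hc => by
    have := hck [c, 4] [4, c] ((by decide +kernel : ∀ c < 9, ck [c, 4] [4, c] = true) c hc)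
    rw [← ez]
    exact mem_centralizer_singleton_iff.2 (by simpa [Tb.E, show TQ.w 16 = [4] from rfl] using this)
  refine ⟨f, ⟨⟨c1, ?_, ez ▸ tQ.E_mem 16, ?_, fun y h1 h2 _ => cen y h1 h2⟩, cen, fun h => ?_⟩, tQ.card_S, ?_,
    tQ.S_le fun j hj => cz j (hj.trans (by decide)), h2 _ fun c hc => cz c (by revert c; decide),
    h2 _ fun c hc => ?_, ⟨al 8, ?_⟩, card_C⟩
  · rw [← ez, mu (by decide), e0, show TQ.mu 16 16 = 0 by decide +kernel]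
  · rintro _ ⟨a, ha, rfl⟩
    rw [mu ha, ← ez, e0]
    exact ((by decide +kernel : ∀ a < 32, TQ.mu a a = 0 ∨ TQ.mu a a = 16) a ha).imp (congrArg _) (congrArg _)
  · have := cen _ (tQ.E_mem 1) (h (tQ.E_mem 1))
    rw [← ez, e0] at this
    exact absurd (this.imp (inj (by decide) (by decide)) (inj (by decide) (by decide))) (by decide)
  · rintro _ ⟨a, ha, rfl⟩ _ ⟨b, hb, rfl⟩ h1 h2 h3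
    rw [mu ha, e0] at h1
    rw [mu hb, e0] at h2
    rw [mu ha, mu hb] at h3
    rw [← ez, e0, mu ha]
    have H : ∀ a < 32, ∀ b < 32, TQ.mu a a = 0 → TQ.mu b b = 0 → TQ.mu a b = TQ.mu b a →
      a = 0 ∨ a = 16 ∨ b = 0 ∨ b = 16 ∨ b = a ∨ b = TQ.mu a 16 := by decide +kernel
    rcases H a ha b hb (inj (ml ha _) (by decide) h1) (inj (ml hb _) (by decide) h2)
      (inj (ml ha _) (ml hb _) h3) with h | h | h | h | h | h <;> simp [← h]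
  · have H : ∀ c ∈ [7, 8], ∀ j < 5, ∃ b < 32, ck ([c] ++ [j]) (TQ.w b ++ [c]) = true := by decide +kernel
    refine mem_normalizer_fintype fun y hy => ?_
    refine tQ.S_le (K := tQ.S.comap (MulAut.conj (xs c)).toMonoidHom) (fun j hj => ?_) hy
    obtain ⟨b, -, e⟩ := H c hc j hj
    have := hck _ _ e
    simp only [ev_append, ev_cons, ev_nil, mul_one] at this
    show xs c * xs j * (xs c)⁻¹ ∈ tQ.S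
    rw [this, mul_inv_cancel_right]
    exact tQ.E_mem b
  · rw [h1 8 (by simp)]
    rintro ⟨a, ha, e⟩
    have := code_eq (sm_exp (TQ.w a)) (sm_exp [8]) (by
      rw [ev_expand, ev_expand, ev_cons, ev_nil, mul_one]; exact e)
    exact (by decide +kernel : ∀ a < 32, code (expand df (TQ.w a)) ≠ code (expand df [8])) a ha this

end Cfsg.Agent.H18.JZ
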