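import Mathlib

/-! Splitting a permutation group along an invariant subset; induction over orbits. -/

set_option autoImplicit false

namespace Cfsg.Agent.H18.Pb

open Equiv Equiv.Perm

variable {α : Type}

/-- restriction to an invariant subset -/
def resH (N : Subgroup (Perm α)) (p : α → Prop) (h : ∀ g ∈ N, ∀ x, p (g x) ↔ p x) :
    N →* Perm {x // p x} where
  toFun g := g.1.subtypePerm (h g.1 g.2)
  map_one' := by ext x; simp
  map_mul' a b := by ext x; rfl

/-- the product of a group on a subset and a group on its complement -/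
def prodS (p : α → Prop) [DecidablePred p] (A : Subgroup (Perm {x // p x}))
    (B : Subgroup (Perm {x // ¬p x})) : Subgroup (Perm α) :=
  (A.prod B).map (subtypeCongrHom p)

theorem mem_prodS {p : α → Prop} [DecidablePred p] {A : Subgroup (Perm {x // p x})}
    {B : Subgroup (Perm {x // ¬p x})} {g : Perm α} :
    g ∈ prodS p A B ↔ ∃ a ∈ A, ∃ b ∈ B, Perm.subtypeCongr a b = g := by
  constructor
  · rintro ⟨⟨a, b⟩, ⟨ha, hb⟩, rfl⟩
    exact ⟨a, ha, b, hb, rfl⟩
  · rintro ⟨a, ha, b, hb, rfl⟩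
    exact ⟨(a, b), ⟨ha, hb⟩, rfl⟩

theorem card_prodS (p : α → Prop) [DecidablePred p] (A : Subgroup (Perm {x // p x}))
    (B : Subgroup (Perm {x // ¬p x})) : Nat.card (prodS p A B) = Nat.card A * Nat.card B := by
  rw [prodS, Subgroup.card_map_of_injective (subtypeCongrHom_injective p),
    Nat.card_congr (A.prodEquiv B).toEquiv, Nat.card_prod]

theorem le_prodS (N : Subgroup (Perm α)) (p : α → Prop) [DecidablePred p]
    (h : ∀ g ∈ N, ∀ x, p (g x) ↔ p x) :
    N ≤ prodS p (resH N p h).range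
      (resH N (fun x => ¬p x) fun g hg x => not_congr (h g hg x)).range := by
  intro g hg
  refine mem_prodS.2 ⟨_, ⟨⟨g, hg⟩, rfl⟩, _, ⟨⟨g, hg⟩, rfl⟩, ?_⟩
  ext x
  by_cases hx : p x
  · rw [Perm.subtypeCongr.left_apply _ _ hx]; rfl
  · rw [Perm.subtypeCongr.right_apply _ _ hx]; rfl

theorem even_of_prodS [Fintype α] [DecidableEq α] {p : α → Prop} [DecidablePred p]
    {A : Subgroup (Perm {x // p x})} {B : Subgroup (Perm {x // ¬p x})}
    (h : prodS p A B ≤ alternatingGroup α) :
    A ≤ alternatingGroup _ ∧ B ≤ alternatingGroup _ := by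
  constructor
  · intro a ha
    have := h (mem_prodS.2 ⟨a, ha, 1, B.one_mem, rfl⟩)
    rw [mem_alternatingGroup, sign_subtypeCongr] at this
    simpa [mem_alternatingGroup] using this
  · intro b hb
    have := h (mem_prodS.2 ⟨1, A.one_mem, b, hb, rfl⟩)
    rw [mem_alternatingGroup, sign_subtypeCongr] at this
    simpa [mem_alternatingGroup] using this

theorem eq_or_two_mul_le {G : Type} [Group G] [Finite G] {N M : Subgroup G} (h : N ≤ M) :
    N = M ∨ 2 * Nat.card N ≤ Nat.card M := by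
  obtain ⟨c, hc⟩ := Subgroup.card_dvd_of_le h
  have hM : 0 < Nat.card M := Nat.card_pos
  rcases Nat.lt_or_ge c 2 with h2 | h2
  · left
    interval_cases c
    · omega
    · exact Subgroup.eq_of_le_of_card_ge h (by omega)
  · right
    rw [hc, mul_comm]
    exact Nat.mul_le_mul_left _ h2

theorem card_sub_add [Fintype α] (p : α → Prop) [DecidablePred p] :
    Fintype.card {x // p x} + Fintype.card {x // ¬p x} = Fintype.card α := by
  rw [Fintype.card_subtype_compl]
  have := Fintype.card_subtype_le p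
  omega

/-- a class of groups closed under images -/
def ImCl (C : ∀ (G : Type) [Group G], Prop) : Prop :=
  ∀ (G H : Type) [Group G] [Group H] (f : G →* H), Function.Surjective f → C G → C H

/-- the two bounds -/
def Bd (F E : ℕ → ℕ) (β : Type) [Fintype β] [DecidableEq β] (N : Subgroup (Perm β)) : Prop :=
  Nat.card N ≤ F (Fintype.card β) ∧ (N ≤ alternatingGroup β → 2 * Nat.card N ≤ E (Fintype.card β))

theorem orbit_inv (N : Subgroup (Perm α)) (x : α) :
    ∀ g ∈ N, ∀ y, (∃ a ∈ N, a x = g y) ↔ ∃ a ∈ N, a x = y := by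
  intro g hg y
  constructor
  · rintro ⟨a, ha, h⟩
    exact ⟨g⁻¹ * a, N.mul_mem (N.inv_mem hg) ha, by simp [h]⟩
  · rintro ⟨a, ha, h⟩
    exact ⟨g * a, N.mul_mem hg ha, by simp [h]⟩

theorem bound_ind (C : ∀ (G : Type) [Group G], Prop) (hC : ImCl C) (F E : ℕ → ℕ)
    (hFF : ∀ a b, F a * F b ≤ F (a + b)) (hEE : ∀ a b, 0 < a → 0 < b → E a * E b ≤ 2 * E (a + b))
    (hFE : ∀ n, F n ≤ E n)
    (htr : ∀ (β : Type) [Fintype β] [DecidableEq β] (N : Subgroup (Perm β)), C N →
      (∀ x y, ∃ a ∈ N, a x = y) →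
      (∀ (γ : Type) [Fintype γ] [DecidableEq γ] (M : Subgroup (Perm γ)),
        Fintype.card γ < Fintype.card β → C M → Bd F E γ M) → Bd F E β N)
    (β : Type) [Fintype β] [DecidableEq β] (N : Subgroup (Perm β)) (hN : C N) : Bd F E β N := by
  generalize hn : Fintype.card β = n
  induction n using Nat.strong_induction_on generalizing β with
  | _ n ih =>
  by_cases ht : ∀ x y, ∃ a ∈ N, a x = y
  · exact htr β N hN ht fun γ _ _ M hγ hM => ih _ (hn ▸ hγ) γ M hM rfl
  push Not at ht
  obtain ⟨x, y, hxy⟩ := ht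
  classical
  let p : β → Prop := fun z => ∃ a ∈ N, a x = z
  have hle := le_prodS N p (orbit_inv N x)
  have hs := card_sub_add p
  have h1 : 0 < Fintype.card {z // p z} := Fintype.card_pos_iff.2 ⟨⟨x, 1, N.one_mem, rfl⟩⟩
  have h2 : 0 < Fintype.card {z // ¬p z} :=
    Fintype.card_pos_iff.2 ⟨⟨y, fun ⟨a, ha, h⟩ => hxy a ha h⟩⟩
  have hA := ih _ (by omega) {z // p z} _ (hC _ _ _ (resH N p (orbit_inv N x)).rangeRestrict_surjective hN) rfl
  have hB := ih _ (by omega) {z // ¬p z} _ (hC _ _ _ (resH N (fun x => ¬p x) fun g hg x =>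
    not_congr (orbit_inv N _ g hg x)).rangeRestrict_surjective hN) rfl
  have hc := card_prodS p (resH N p (orbit_inv N x)).range (resH N (fun x => ¬p x) fun g hg x =>
    not_congr (orbit_inv N _ g hg x)).range
  have hF : Nat.card (prodS p (resH N p (orbit_inv N x)).range (resH N (fun x => ¬p x) fun g hg x =>
    not_congr (orbit_inv N _ g hg x)).range) ≤ F (Fintype.card β) := by
    rw [hc, ← hs]
    exact (Nat.mul_le_mul hA.1 hB.1).trans (hFF _ _)
  refine ⟨(Subgroup.card_le_of_le hle).trans hF, fun he => ?_⟩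
  rcases eq_or_two_mul_le hle with h | h
  · obtain ⟨e1, e2⟩ := even_of_prodS (h ▸ he)
    have h3 := (Nat.mul_le_mul (hA.2 e1) (hB.2 e2)).trans (hEE _ _ h1 h2)
    rw [hs] at h3
    have h4 : Nat.card N = _ := (congrArg (fun K : Subgroup (Perm β) => Nat.card K) h).trans hc
    rw [h4]
    nlinarith
  · exact (h.trans hF).trans (hFE _)

/-- an abelian transitive group is regular -/
theorem card_le_of_comm [Fintype α] (A : Subgroup (Perm α)) (hA : IsMulCommutative A) (x : α)
    (h : ∀ y, ∃ a ∈ A, a x = y) : Nat.card A ≤ Fintype.card α := by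
  rw [← Nat.card_eq_fintype_card]
  refine Nat.card_le_card_of_injective (fun a : A => a.1 x) fun a b hab => ?_
  ext y
  obtain ⟨c, hc, rfl⟩ := h y
  have h1 : a.1 * c = c * a.1 := congrArg Subtype.val (hA.is_comm.comm a ⟨c, hc⟩)
  have h2 : b.1 * c = c * b.1 := congrArg Subtype.val (hA.is_comm.comm b ⟨c, hc⟩)
  have h3 : a.1 x = b.1 x := hab
  rw [← Perm.mul_apply, h1, ← Perm.mul_apply b.1, h2, Perm.mul_apply, Perm.mul_apply, h3]

end Cfsg.Agent.H18.Pb
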