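import Cfsg.Agent.H18.Pb1

/-! Largest abelian subgroups of symmetric and alternating groups: the orders. -/

set_option autoImplicit false

namespace Cfsg.Agent.H18.Pb

open Equiv Equiv.Perm

/-- largest order of an abelian subgroup of `S_n` -/
def fS : ℕ → ℕ
  | 0 => 1 | 1 => 1 | 2 => 2 | 3 => 3 | 4 => 4
  | n + 5 => 3 * fS (n + 2)

/-- largest order of an abelian subgroup of `A_n` -/
def fA : ℕ → ℕ
  | 0 => 1 | 1 => 1 | 2 => 1 | 3 => 3 | 4 => 4 | 5 => 5 | 6 => 9 | 7 => 12 | 8 => 16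
  | n + 9 => 3 * fA (n + 6)

theorem fS_step {n : ℕ} (h : 2 ≤ n) : fS (n + 3) = 3 * fS n := by
  obtain ⟨m, rfl⟩ := Nat.exists_eq_add_of_le' h
  rfl

theorem fA_step {n : ℕ} (h : 6 ≤ n) : fA (n + 3) = 3 * fA n := by
  obtain ⟨m, rfl⟩ := Nat.exists_eq_add_of_le' h
  rfl

theorem fS_mul (a b : ℕ) : fS a * fS b ≤ fS (a + b) := by
  induction a using Nat.strong_induction_on generalizing b with
  | _ a iha =>
  by_cases ha : 5 ≤ a
  · obtain ⟨m, rfl⟩ : ∃ m, a = m + 3 := ⟨a - 3, by omega⟩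
    rw [fS_step (by omega), show m + 3 + b = m + b + 3 by ring, fS_step (by omega), mul_assoc]
    exact Nat.mul_le_mul_left _ (iha m (by omega) b)
  induction b using Nat.strong_induction_on with
  | _ b ihb =>
  by_cases hb : 5 ≤ b
  · obtain ⟨m, rfl⟩ : ∃ m, b = m + 3 := ⟨b - 3, by omega⟩
    rw [fS_step (by omega), ← add_assoc, fS_step (by omega), mul_left_comm]
    exact Nat.mul_le_mul_left _ (ihb m (by omega))
  have ha' : a < 5 := by omega
  have hb' : b < 5 := by omega
  interval_cases a <;> interval_cases b <;> decide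

theorem fA_mul (a b : ℕ) : fA a * fA b ≤ fA (a + b) := by
  induction a using Nat.strong_induction_on generalizing b with
  | _ a iha =>
  by_cases ha : 9 ≤ a
  · obtain ⟨m, rfl⟩ : ∃ m, a = m + 3 := ⟨a - 3, by omega⟩
    rw [fA_step (by omega), show m + 3 + b = m + b + 3 by ring, fA_step (by omega), mul_assoc]
    exact Nat.mul_le_mul_left _ (iha m (by omega) b)
  induction b using Nat.strong_induction_on with
  | _ b ihb =>
  by_cases hb : 9 ≤ b
  · obtain ⟨m, rfl⟩ : ∃ m, b = m + 3 := ⟨b - 3, by omega⟩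
    rw [fA_step (by omega), ← add_assoc, fA_step (by omega), mul_left_comm]
    exact Nat.mul_le_mul_left _ (ihb m (by omega))
  have ha' : a < 9 := by omega
  have hb' : b < 9 := by omega
  interval_cases a <;> interval_cases b <;> decide

theorem fS_lt {n : ℕ} (h : n ≠ 2) : fS n < 2 * fA n := by
  induction n using Nat.strong_induction_on with
  | _ n ih =>
  by_cases hn : 9 ≤ n
  · obtain ⟨m, rfl⟩ : ∃ m, n = m + 3 := ⟨n - 3, by omega⟩
    rw [fA_step (by omega), fS_step (by omega)]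
    have := ih m (by omega) (by omega)
    omega
  have hn' : n < 9 := by omega
  interval_cases n <;> first | decide | omega

theorem fS_le (n : ℕ) : fS n ≤ 2 * fA n := by
  by_cases h : n = 2
  · subst h; decide
  · exact (fS_lt h).le

theorem le_fA {n : ℕ} (h : n ≠ 2) : n ≤ fA n := by
  induction n using Nat.strong_induction_on with
  | _ n ih =>
  by_cases hn : 9 ≤ n
  · obtain ⟨m, rfl⟩ : ∃ m, n = m + 3 := ⟨n - 3, by omega⟩
    rw [fA_step (by omega)]
    have := ih m (by omega) (by omega)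
    omega
  have hn' : n < 9 := by omega
  interval_cases n <;> first | decide | omega

theorem lt_fA {n : ℕ} (h : 6 ≤ n) : n < fA n := by
  induction n using Nat.strong_induction_on with
  | _ n ih =>
  by_cases hn : 9 ≤ n
  · obtain ⟨m, rfl⟩ : ∃ m, n = m + 3 := ⟨n - 3, by omega⟩
    rw [fA_step (by omega)]
    have := ih m (by omega) (by omega)
    omega
  have hn' : n < 9 := by omega
  interval_cases n <;> decide

theorem le_fS (n : ℕ) : n ≤ fS n := by
  induction n using Nat.strong_induction_on with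
  | _ n ih =>
  by_cases hn : 5 ≤ n
  · obtain ⟨m, rfl⟩ : ∃ m, n = m + 3 := ⟨n - 3, by omega⟩
    rw [fS_step (by omega)]
    have := ih m (by omega)
    omega
  have hn' : n < 5 := by omega
  interval_cases n <;> decide

theorem fA_pos (n : ℕ) : 0 < fA n := by
  rcases Nat.lt_or_ge n 3 with h | h
  · interval_cases n <;> decide
  · have := le_fA (n := n) (by omega); omega

theorem imCl_comm : ImCl fun G _ => IsMulCommutative G := by
  intro G H _ _ f hf hG
  refine ⟨⟨fun a b => ?_⟩⟩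
  obtain ⟨a, rfl⟩ := hf a
  obtain ⟨b, rfl⟩ := hf b
  rw [← map_mul, ← map_mul, hG.is_comm.comm]

theorem card_le_alt {β : Type} [Fintype β] [DecidableEq β] {N : Subgroup (Perm β)}
    (h : N ≤ alternatingGroup β) (h2 : 2 ≤ Fintype.card β) :
    2 * Nat.card N ∣ (Fintype.card β).factorial := by
  haveI : Nontrivial β := Fintype.one_lt_card_iff_nontrivial.1 h2
  have h1 := two_mul_nat_card_alternatingGroup (α := β)
  rw [Nat.card_eq_fintype_card (α := Perm β), Fintype.card_perm] at h1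
  rw [← h1]
  exact Nat.mul_dvd_mul_left 2 (Subgroup.card_dvd_of_le h)

theorem card_dvd_fact {β : Type} [Fintype β] [DecidableEq β] (N : Subgroup (Perm β)) :
    Nat.card N ∣ (Fintype.card β).factorial := by
  rw [← Fintype.card_perm, ← Nat.card_eq_fintype_card]
  exact N.card_subgroup_dvd_card

theorem comm_bd (β : Type) [Fintype β] [DecidableEq β] (N : Subgroup (Perm β))
    (hN : IsMulCommutative N) : Bd fS (fun n => 2 * fA n) β N := by
  refine bound_ind _ imCl_comm _ _ fS_mul (fun a b _ _ => ?_) fS_le ?_ β N hN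
  · have := fA_mul a b
    nlinarith
  intro γ _ _ M hM ht _
  rcases isEmpty_or_nonempty γ with h0 | ⟨⟨x⟩⟩
  · have h1 := Nat.le_of_dvd (Nat.factorial_pos _) (card_dvd_fact M)
    simp only [Bd, Fintype.card_eq_zero] at h1 ⊢
    exact ⟨h1, fun _ => Nat.mul_le_mul_left 2 h1⟩
  have h1 := card_le_of_comm M hM x (ht x)
  refine ⟨h1.trans (le_fS _), fun he => ?_⟩
  by_cases h2 : Fintype.card γ = 2
  · have h3 := card_le_alt he h2.ge
    rw [h2] at h3 ⊢
    exact Nat.le_of_dvd (by decide) h3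
  · exact Nat.mul_le_mul_left 2 (h1.trans (le_fA h2))

/-- there is an abelian (even if `ev`) permutation group of order `c` on `n` points -/
def Ex (ev : Prop) (n c : ℕ) : Prop :=
  ∀ (β : Type) [Fintype β] [DecidableEq β], Fintype.card β = n →
    ∃ A : Subgroup (Perm β), IsMulCommutative A ∧ (ev → A ≤ alternatingGroup β) ∧ Nat.card A = c

theorem Ex.of_one {ev : Prop} {γ : Type} [Fintype γ] [DecidableEq γ] (A : Subgroup (Perm γ))
    (h1 : IsMulCommutative A) (h2 : ev → A ≤ alternatingGroup γ) :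
    Ex ev (Fintype.card γ) (Nat.card A) := by
  intro β _ _ hβ
  let e : γ ≃ β := Fintype.equivOfCardEq hβ.symm
  refine ⟨A.map e.permCongrHom.toMonoidHom, ?_, fun h => ?_, ?_⟩
  · exact imCl_comm _ _ (e.permCongrHom.toMonoidHom.subgroupMap A)
      (MonoidHom.subgroupMap_surjective _ _) h1
  · rintro _ ⟨a, ha, rfl⟩
    have := h2 h ha
    rw [mem_alternatingGroup] at this ⊢
    simpa using this
  · exact Subgroup.card_map_of_injective e.permCongrHom.injective

theorem comm_prodS {α : Type} {p : α → Prop} [DecidablePred p] {A : Subgroup (Perm {x // p x})}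
    {B : Subgroup (Perm {x // ¬p x})} (hA : IsMulCommutative A) (hB : IsMulCommutative B) :
    IsMulCommutative (prodS p A B) := by
  refine ⟨⟨?_⟩⟩
  rintro ⟨_, ⟨⟨a, b⟩, ⟨ha, hb⟩, rfl⟩⟩ ⟨_, ⟨⟨c, d⟩, ⟨hc, hd⟩, rfl⟩⟩
  ext1
  change subtypeCongrHom p (a, b) * subtypeCongrHom p (c, d) =
    subtypeCongrHom p (c, d) * subtypeCongrHom p (a, b)
  have h1 : a * c = c * a := congrArg Subtype.val (hA.is_comm.comm ⟨a, ha⟩ ⟨c, hc⟩)
  have h2 : b * d = d * b := congrArg Subtype.val (hB.is_comm.comm ⟨b, hb⟩ ⟨d, hd⟩)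
  rw [← map_mul, ← map_mul, Prod.mk_mul_mk, Prod.mk_mul_mk, h1, h2]

theorem prodS_even {α : Type} [Fintype α] [DecidableEq α] {p : α → Prop} [DecidablePred p]
    {A : Subgroup (Perm {x // p x})} {B : Subgroup (Perm {x // ¬p x})}
    (hA : A ≤ alternatingGroup _) (hB : B ≤ alternatingGroup _) :
    prodS p A B ≤ alternatingGroup α := by
  intro g hg
  obtain ⟨a, ha, b, hb, rfl⟩ := mem_prodS.1 hg
  rw [mem_alternatingGroup, sign_subtypeCongr, mem_alternatingGroup.1 (hA ha),
    mem_alternatingGroup.1 (hB hb), mul_one]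

theorem exists_pred (β : Type) [Fintype β] [DecidableEq β] {m : ℕ} (h : m ≤ Fintype.card β) :
    ∃ (p : β → Prop) (_ : DecidablePred p), Fintype.card {x // p x} = m := by
  obtain ⟨S, -, hS⟩ := Finset.exists_subset_card_eq (s := (Finset.univ : Finset β)) (n := m)
    (by rw [Finset.card_univ]; omega)
  exact ⟨(· ∈ S), inferInstance, by simpa using hS⟩

theorem Ex.add {ev : Prop} {m n c d : ℕ} (h1 : Ex ev m c) (h2 : Ex ev n d) :
    Ex ev (m + n) (c * d) := by
  intro β _ _ hβ
  obtain ⟨p, _, h3⟩ := exists_pred β (m := m) (by omega)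
  have h4 := card_sub_add p
  obtain ⟨A, hA1, hA2, hA3⟩ := h1 {x // p x} h3
  obtain ⟨B, hB1, hB2, hB3⟩ := h2 {x // ¬ p x} (by omega)
  exact ⟨prodS p A B, comm_prodS hA1 hB1, fun h => prodS_even (hA2 h) (hB2 h),
    by rw [card_prodS, hA3, hB3]⟩

theorem Ex.reg {ev : Prop} (G : Type) [CommGroup G] [Fintype G] [DecidableEq G]
    (h : ev → ∀ g : G, sign (MulAction.toPerm g : Perm G) = 1) :
    Ex ev (Fintype.card G) (Fintype.card G) := by
  have := Ex.of_one (ev := ev) (MulAction.toPermHom G G).range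
    (imCl_comm _ _ _ (MulAction.toPermHom G G).rangeRestrict_surjective inferInstance)
    (by rintro hev _ ⟨g, rfl⟩; exact h hev g)
  rwa [← Nat.card_congr (MonoidHom.ofInjective MulAction.toPerm_injective).toEquiv,
    Nat.card_eq_fintype_card] at this

theorem Ex.triv {ev : Prop} (n : ℕ) : Ex ev n 1 := fun β _ _ _ =>
  ⟨⊥, inferInstance, fun _ => bot_le, Subgroup.card_bot⟩

theorem ex2 : Ex False 2 2 := by
  simpa using Ex.reg (ev := False) (Multiplicative (ZMod 2)) False.elim

theorem ex3 (ev : Prop) : Ex ev 3 3 := by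
  simpa using Ex.reg (ev := ev) (Multiplicative (ZMod 3)) fun _ => by decide

theorem ex4 (ev : Prop) : Ex ev 4 4 := by
  simpa using Ex.reg (ev := ev) (Multiplicative (ZMod 2 × ZMod 2)) fun _ => by decide

theorem ex5 (ev : Prop) : Ex ev 5 5 := by
  simpa using Ex.reg (ev := ev) (Multiplicative (ZMod 5)) fun _ => by decide

theorem ex_fS (n : ℕ) : Ex False n (fS n) := by
  induction n using Nat.strong_induction_on with
  | _ n ih =>
  by_cases hn : 5 ≤ n
  · obtain ⟨m, rfl⟩ : ∃ m, n = m + 3 := ⟨n - 3, by omega⟩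
    rw [fS_step (by omega), mul_comm]
    exact (ih m (by omega)).add (ex3 _)
  have hn' : n < 5 := by omega
  interval_cases n
  exacts [Ex.triv _, Ex.triv _, ex2, ex3 _, ex4 _]

theorem ex_fA (n : ℕ) : Ex True n (fA n) := by
  induction n using Nat.strong_induction_on with
  | _ n ih =>
  by_cases hn : 9 ≤ n
  · obtain ⟨m, rfl⟩ : ∃ m, n = m + 3 := ⟨n - 3, by omega⟩
    rw [fA_step (by omega), mul_comm]
    exact (ih m (by omega)).add (ex3 _)
  have hn' : n < 9 := by omega
  interval_cases n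
  exacts [Ex.triv _, Ex.triv _, Ex.triv _, ex3 _, ex4 _, ex5 _, (ex3 _).add (ex3 _),
    (ex3 _).add (ex4 _), (ex4 _).add (ex4 _)]

theorem sym_greatest (n : ℕ) :
    IsGreatest {c : ℕ | ∃ A : Subgroup (Perm (Fin n)), IsMulCommutative A ∧ Nat.card A = c}
      (fS n) := by
  constructor
  · obtain ⟨A, h1, -, h2⟩ := ex_fS n (Fin n) (by simp)
    exact ⟨A, h1, h2⟩
  · rintro c ⟨A, h1, rfl⟩
    simpa using (comm_bd _ A h1).1

theorem comm_map_alt {β : Type} [Fintype β] [DecidableEq β] {A : Subgroup (alternatingGroup β)}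
    (h : IsMulCommutative A) : IsMulCommutative (A.map (alternatingGroup β).subtype) :=
  imCl_comm _ _ ((alternatingGroup β).subtype.subgroupMap A) (MonoidHom.subgroupMap_surjective _ _) h

theorem alt_greatest (n : ℕ) :
    IsGreatest {c : ℕ | ∃ A : Subgroup (alternatingGroup (Fin n)), IsMulCommutative A ∧
      Nat.card A = c} (fA n) := by
  constructor
  · obtain ⟨A, h1, h3, h2⟩ := ex_fA n (Fin n) (by simp)
    have e := Subgroup.subgroupOfEquivOfLe (h3 trivial)
    exact ⟨A.subgroupOf _, imCl_comm _ _ e.symm.toMonoidHom e.symm.surjective h1,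
      (Nat.card_congr e.toEquiv).trans h2⟩
  · rintro c ⟨A, h1, rfl⟩
    have := (comm_bd _ _ (comm_map_alt h1)).2 (Subgroup.map_subtype_le A)
    rw [Subgroup.card_map_of_injective (Subgroup.subtype_injective _)] at this
    simpa using this

theorem fS_val (k : ℕ) : fS (3 * (k + 1)) = 3 ^ (k + 1) ∧ fS (3 * (k + 1) + 1) = 4 * 3 ^ k ∧
    fS (3 * (k + 1) + 2) = 2 * 3 ^ (k + 1) := by
  induction k with
  | zero => decide
  | succ k ih =>
    obtain ⟨h1, h2, h3⟩ := ih
    refine ⟨?_, ?_, ?_⟩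
    · rw [show 3 * (k + 1 + 1) = 3 * (k + 1) + 3 by ring, fS_step (by omega), h1]; ring
    · rw [show 3 * (k + 1 + 1) + 1 = 3 * (k + 1) + 1 + 3 by ring, fS_step (by omega), h2]; ring
    · rw [show 3 * (k + 1 + 1) + 2 = 3 * (k + 1) + 2 + 3 by ring, fS_step (by omega), h3]; ring

theorem fA_val (k : ℕ) : fA (3 * (k + 2)) = 3 ^ (k + 2) ∧ fA (3 * (k + 2) + 1) = 4 * 3 ^ (k + 1) ∧
    fA (3 * (k + 2) + 2) = 16 * 3 ^ k := by
  induction k with
  | zero => decide
  | succ k ih =>
    obtain ⟨h1, h2, h3⟩ := ih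
    refine ⟨?_, ?_, ?_⟩
    · rw [show 3 * (k + 1 + 2) = 3 * (k + 2) + 3 by ring, fA_step (by omega), h1]; ring
    · rw [show 3 * (k + 1 + 2) + 1 = 3 * (k + 2) + 1 + 3 by ring, fA_step (by omega), h2]; ring
    · rw [show 3 * (k + 1 + 2) + 2 = 3 * (k + 2) + 2 + 3 by ring, fA_step (by omega), h3]; ring

end Cfsg.Agent.H18.Pb
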