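import Cfsg.Agent.H18.Pb2

/-! Largest abelian subgroups of alternating groups: conjugacy. -/

set_option autoImplicit false

namespace Cfsg.Agent.H18.Pb

open Equiv Equiv.Perm
open scoped Pointwise

theorem syl_conj {G : Type} [Group G] [Finite G] (p : ℕ) [Fact p.Prime] {A B : Subgroup G}
    (hA : Nat.card A = p ^ (Nat.card G).factorization p)
    (hB : Nat.card B = p ^ (Nat.card G).factorization p) : ∃ g : G, B = MulAut.conj g • A := by
  obtain ⟨g, hg⟩ := MulAction.exists_smul_eq G (Sylow.ofCard A hA) (Sylow.ofCard B hB)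
  exact ⟨g, by rw [← Sylow.coe_ofCard B hB, ← hg, Sylow.coe_subgroup_smul, Sylow.coe_ofCard]⟩

/-- an abelian even group of the largest order -/
structure Mx (β : Type) [Fintype β] [DecidableEq β] (A : Subgroup (Perm β)) : Prop where
  comm : IsMulCommutative A
  even : A ≤ alternatingGroup β
  card : Nat.card A = fA (Fintype.card β)

/-- `e` carries `A` to `B` -/
def Cj {α β : Type} (e : α ≃ β) (A : Subgroup (Perm α)) (B : Subgroup (Perm β)) : Prop :=
  ∀ σ, σ ∈ A ↔ e.permCongr σ ∈ B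

theorem Cj.trans {α β γ : Type} {e : α ≃ β} {f : β ≃ γ} {A : Subgroup (Perm α)}
    {B : Subgroup (Perm β)} {C : Subgroup (Perm γ)} (h : Cj e A B) (h' : Cj f B C) :
    Cj (e.trans f) A C := fun σ => (h σ).trans (h' _)

theorem cj_map {α β : Type} (e : α ≃ β) (A : Subgroup (Perm α)) :
    Cj e A (A.map e.permCongrHom.toMonoidHom) := fun _ =>
  (Subgroup.mem_map_iff_mem (f := e.permCongrHom.toMonoidHom) e.permCongrHom.injective).symm

variable {α β : Type} [Fintype α] [DecidableEq α] [Fintype β] [DecidableEq β]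

theorem Mx.map {A : Subgroup (Perm α)} (h : Mx α A) (e : α ≃ β) :
    Mx β (A.map e.permCongrHom.toMonoidHom) := by
  refine ⟨imCl_comm _ _ (e.permCongrHom.toMonoidHom.subgroupMap A)
      (MonoidHom.subgroupMap_surjective _ _) h.comm, ?_, ?_⟩
  · rintro _ ⟨a, ha, rfl⟩
    have := h.even ha
    rw [mem_alternatingGroup] at this ⊢
    simpa using this
  · rw [Subgroup.card_map_of_injective e.permCongrHom.injective, h.card, Fintype.card_congr e]

theorem card_alt (h2 : 2 ≤ Fintype.card β) :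
    2 * Nat.card (alternatingGroup β) = (Fintype.card β).factorial := by
  haveI : Nontrivial β := Fintype.one_lt_card_iff_nontrivial.1 h2
  have h1 := two_mul_nat_card_alternatingGroup (α := β)
  rwa [Nat.card_eq_fintype_card (α := Perm β), Fintype.card_perm] at h1

theorem cj_of_alt {A B : Subgroup (Perm β)} (hA : A ≤ alternatingGroup β)
    (hB : B ≤ alternatingGroup β) (g : alternatingGroup β)
    (h : B.subgroupOf (alternatingGroup β) = MulAut.conj g • A.subgroupOf (alternatingGroup β)) :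
    Cj (g : Perm β) A B := by
  intro σ
  have h1 : (g : Perm β).permCongr σ = g * σ * (g : Perm β)⁻¹ := rfl
  rw [h1]
  constructor
  · intro hσ
    have : g * ⟨σ, hA hσ⟩ * g⁻¹ ∈ B.subgroupOf (alternatingGroup β) := by
      rw [h]; exact Subgroup.smul_mem_pointwise_smul _ (MulAut.conj g) _ hσ
    exact this
  · intro hσ
    have h2 : (⟨_, hB hσ⟩ : alternatingGroup β) ∈ B.subgroupOf (alternatingGroup β) := hσ
    rw [h, Subgroup.mem_pointwise_smul_iff_inv_smul_mem] at h2
    have h3 : (g : Perm β)⁻¹ * (g * σ * (g : Perm β)⁻¹) * g ∈ A := by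
      simpa [Subgroup.mem_subgroupOf] using h2
    simpa [mul_assoc] using h3

theorem small {A B : Subgroup (Perm β)} (h5 : Fintype.card β ≤ 5) (hA : Mx β A) (hB : Mx β B) :
    ∃ g : Perm β, sign g = 1 ∧ Cj g A B := by
  have h1 := hA.card
  have h2 := hB.card
  by_cases h3 : Fintype.card β ≤ 2
  · have h4 : fA (Fintype.card β) = 1 := by interval_cases (Fintype.card β) <;> rfl
    rw [h4, Subgroup.card_eq_one] at h1 h2
    exact ⟨1, by simp, fun σ => by subst h1 h2; rfl⟩
  have h4 := card_alt (β := β) (by omega)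
  rw [← Nat.card_congr (Subgroup.subgroupOfEquivOfLe hA.even).toEquiv] at h1
  rw [← Nat.card_congr (Subgroup.subgroupOfEquivOfLe hB.even).toEquiv] at h2
  have key : ∀ p : ℕ, p.Prime →
      fA (Fintype.card β) = p ^ (Nat.card (alternatingGroup β)).factorization p →
      ∃ g : Perm β, sign g = 1 ∧ Cj g A B := fun p hp h => by
    haveI := Fact.mk hp
    obtain ⟨g, hg⟩ := syl_conj p (h1.trans h) (h2.trans h)
    exact ⟨g, g.2, cj_of_alt hA.even hB.even g hg⟩
  have h6 : Fintype.card β = 3 ∨ Fintype.card β = 4 ∨ Fintype.card β = 5 := by omega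
  rcases h6 with h | h | h <;> rw [h] at h4 key
  · refine key 3 (by norm_num) ?_
    rw [show Nat.card (alternatingGroup β) = 3 by simp [Nat.factorial] at h4 ⊢; omega]
    simp [fA, Nat.Prime.factorization_self Nat.prime_three]
  · refine key 2 (by norm_num) ?_
    rw [show Nat.card (alternatingGroup β) = 12 by simp [Nat.factorial] at h4 ⊢; omega,
      Nat.factorization_def _ Nat.prime_two, show padicValNat 2 12 = 2 by
        rw [show 12 = 2 ^ 2 * 3 by norm_num, padicValNat.mul (by norm_num) (by norm_num),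
          padicValNat.prime_pow, padicValNat.eq_zero_of_not_dvd (by norm_num)]]
    rfl
  · haveI := Fact.mk Nat.prime_five
    refine key 5 (by norm_num) ?_
    rw [show Nat.card (alternatingGroup β) = 60 by simp [Nat.factorial] at h4 ⊢; omega,
      Nat.factorization_def _ Nat.prime_five, show padicValNat 5 60 = 1 by
        rw [show 60 = 5 ^ 1 * 12 by norm_num, padicValNat.mul (by norm_num) (by norm_num),
          padicValNat.prime_pow, padicValNat.eq_zero_of_not_dvd (by norm_num)]]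
    rfl

theorem small' {A : Subgroup (Perm α)} {B : Subgroup (Perm β)} (h5 : Fintype.card β ≤ 5)
    (hc : Fintype.card α = Fintype.card β) (hA : Mx α A) (hB : Mx β B) : ∃ e : α ≃ β, Cj e A B := by
  let e := Fintype.equivOfCardEq hc
  obtain ⟨g, -, hg⟩ := small h5 (hA.map e) hB
  exact ⟨e.trans g, (cj_map e A).trans hg⟩

theorem small_odd {A : Subgroup (Perm β)} (h2 : 2 ≤ Fintype.card β) (h5 : Fintype.card β ≤ 5)
    (hA : Mx β A) : ∃ g : Perm β, sign g = -1 ∧ Cj g A A := by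
  haveI : Nontrivial β := Fintype.one_lt_card_iff_nontrivial.1 h2
  obtain ⟨x, y, hxy⟩ := exists_pair_ne β
  obtain ⟨g, h1, hg⟩ := small h5 (hA.map (swap x y)) hA
  refine ⟨(swap x y).trans g, ?_, (cj_map _ A).trans hg⟩
  rw [show (swap x y).trans g = g * swap x y from rfl, map_mul, h1, sign_swap hxy, one_mul]

theorem Mx.split {A : Subgroup (Perm β)} (hA : Mx β A) (h2 : Fintype.card β ≠ 2) (p : β → Prop)
    [DecidablePred p] (h : ∀ g ∈ A, ∀ x, p (g x) ↔ p x) :
    ∃ (A₁ : Subgroup (Perm {x // p x})) (A₂ : Subgroup (Perm {x // ¬p x})), A = prodS p A₁ A₂ ∧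
      IsMulCommutative A₁ ∧ IsMulCommutative A₂ ∧ A₁ ≤ alternatingGroup _ ∧
      A₂ ≤ alternatingGroup _ := by
  have hle := le_prodS A p h
  have c1 := imCl_comm _ _ _ (resH A p h).rangeRestrict_surjective hA.comm
  have c2 := imCl_comm _ _ _ (resH A (fun x => ¬p x) fun g hg x =>
    not_congr (h g hg x)).rangeRestrict_surjective hA.comm
  rcases eq_or_two_mul_le hle with e | e
  · obtain ⟨e1, e2⟩ := even_of_prodS (e ▸ hA.even)
    exact ⟨_, _, e, c1, c2, e1, e2⟩
  · have h3 := (comm_bd _ _ (comm_prodS c1 c2)).1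
    have h4 := fS_lt h2
    have h5 := hA.card
    omega

theorem Mx.split' {A : Subgroup (Perm β)} (hA : Mx β A) (h2 : Fintype.card β ≠ 2) (p : β → Prop)
    [DecidablePred p] (h : ∀ g ∈ A, ∀ x, p (g x) ↔ p x)
    (he : fA (Fintype.card β) = fA (Fintype.card {x // p x}) * fA (Fintype.card {x // ¬p x})) :
    ∃ (A₁ : Subgroup (Perm {x // p x})) (A₂ : Subgroup (Perm {x // ¬p x})), A = prodS p A₁ A₂ ∧
      Mx _ A₁ ∧ Mx _ A₂ := by
  obtain ⟨A₁, A₂, e, c1, c2, e1, e2⟩ := hA.split h2 p h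
  have h1 := (comm_bd _ _ c1).2 e1
  have h3 := (comm_bd _ _ c2).2 e2
  have h4 := hA.card
  rw [e, card_prodS, he] at h4
  have p1 := fA_pos (Fintype.card {x // p x})
  have p2 := fA_pos (Fintype.card {x // ¬p x})
  simp only at h1 h3
  refine ⟨A₁, A₂, e, ⟨c1, e1, ?_⟩, ⟨c2, e2, ?_⟩⟩ <;> nlinarith

theorem fA_ar1 (b : ℕ) : (5 ≤ b → fA b < fA (1 + b)) ∧ (4 ≤ b → fA b < fA (2 + b)) ∧
    (1 ≤ b → 5 * fA b < fA (5 + b)) := by
  induction b using Nat.strong_induction_on with
  | _ b ih =>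
  by_cases hb : 9 ≤ b
  · obtain ⟨m, rfl⟩ : ∃ m, b = m + 3 := ⟨b - 3, by omega⟩
    obtain ⟨h1, h2, h3⟩ := ih m (by omega)
    simp only [← add_assoc]
    rw [fA_step (by omega), fA_step (by omega), fA_step (by omega), fA_step (by omega)]
    have := h1 (by omega); have := h2 (by omega); have := h3 (by omega)
    omega
  have hb' : b < 9 := by omega
  interval_cases b <;> decide

theorem fA_ar {a b c : ℕ} (ha : 0 < a) (hb : 0 < b) (h6 : 6 ≤ a + b) (h1 : c ≤ a) (h2 : c ≤ fA a)
    (h : fA (a + b) ≤ c * fA b) : a = 3 ∨ a = 4 := by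
  obtain ⟨k1, k2, k3⟩ := fA_ar1 b
  have p := fA_pos b
  by_contra hn
  rcases Nat.lt_or_ge a 6 with h7 | h7
  · interval_cases a
    · have := k1 (by omega); nlinarith
    · have := k2 (by omega); simp only [fA] at h2; nlinarith
    · omega
    · omega
    · have := k3 (by omega); nlinarith
  · have := lt_fA h7
    have := fA_mul a b
    nlinarith

/-- an invariant subset of size `d` -/
def Inv (A : Subgroup (Perm β)) (d : ℕ) : Prop :=
  ∃ (p : β → Prop) (_ : DecidablePred p), Fintype.card {x // p x} = d ∧ ∀ g ∈ A, ∀ x, p (g x) ↔ p x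

theorem Mx.orbit {A : Subgroup (Perm β)} (hA : Mx β A) (h6 : 6 ≤ Fintype.card β) :
    ∃ d, (d = 3 ∨ d = 4) ∧ Inv A d ∧ fA (Fintype.card β) = fA d * fA (Fintype.card β - d) := by
  classical
  obtain ⟨x⟩ : Nonempty β := Fintype.card_pos_iff.1 (by omega)
  let p : β → Prop := fun z => ∃ a ∈ A, a x = z
  obtain ⟨A₁, A₂, e, c1, c2, e1, e2⟩ := hA.split (by omega) p (orbit_inv A x)
  have hx : p x := ⟨1, A.one_mem, rfl⟩
  have h1 := card_le_of_comm A₁ c1 ⟨x, hx⟩ (by
    rintro ⟨y, a, ha, rfl⟩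
    obtain ⟨u, hu, v, hv, h⟩ := mem_prodS.1 (e ▸ ha)
    refine ⟨u, hu, Subtype.ext ?_⟩
    rw [← Perm.subtypeCongr.left_apply u v hx, h])
  have h2 := (comm_bd _ _ c1).2 e1
  have h3 := (comm_bd _ _ c2).2 e2
  have h4 := hA.card
  have hs := card_sub_add p
  have h5 : 0 < Fintype.card {z // p z} := Fintype.card_pos_iff.2 ⟨⟨x, hx⟩⟩
  rw [e, card_prodS] at h4
  simp only at h2 h3
  have h7 : 0 < Fintype.card {z // ¬p z} := by
    by_contra h0
    have h8 : Fintype.card {z // ¬p z} = 0 := by omega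
    have := lt_fA h6
    rw [h8] at h3
    simp only [fA] at h3
    nlinarith
  have h8 : fA (Fintype.card β) ≤ Nat.card A₁ * fA (Fintype.card {z // ¬p z}) := by
    rw [← h4]; exact Nat.mul_le_mul_left _ (by omega)
  refine ⟨_, fA_ar h5 h7 (by omega) h1 (by omega) (hs ▸ h8), ⟨p, inferInstance, rfl, orbit_inv A x⟩, ?_⟩
  have h9 := fA_mul (Fintype.card {z // p z}) (Fintype.card {z // ¬p z})
  rw [show Fintype.card β - Fintype.card {z // p z} = Fintype.card {z // ¬p z} by omega]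
  rw [hs] at h9
  have : Nat.card A₁ * fA (Fintype.card {z // ¬p z}) ≤
    fA (Fintype.card {z // p z}) * fA (Fintype.card {z // ¬p z}) := Nat.mul_le_mul_right _ (by omega)
  omega

theorem inv_prodS {p : β → Prop} [DecidablePred p] (A₁ : Subgroup (Perm {x // p x}))
    {A₂ : Subgroup (Perm {x // ¬p x})} {d : ℕ} (h : Inv A₂ d) : Inv (prodS p A₁ A₂) d := by
  classical
  obtain ⟨q, _, h1, h2⟩ := h
  refine ⟨fun x => ∃ hx : ¬p x, q ⟨x, hx⟩, inferInstance, ?_, fun g hg x => ?_⟩
  · rw [← h1]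
    exact (Fintype.card_congr (Equiv.subtypeSubtypeEquivSubtypeExists (fun x => ¬p x) q)).symm
  · obtain ⟨a, ha, b, hb, rfl⟩ := mem_prodS.1 hg
    by_cases hx : p x
    · rw [Perm.subtypeCongr.left_apply _ _ hx]
      simp [hx, (a ⟨x, hx⟩).2]
    · rw [Perm.subtypeCongr.right_apply _ _ hx]
      simp [hx, (b ⟨x, hx⟩).2, h2 b hb]

theorem Mx.inv3 {A : Subgroup (Perm β)} (hA : Mx β A)
    (h : Fintype.card β = 3 ∨ Fintype.card β = 6 ∨ Fintype.card β = 7 ∨ 9 ≤ Fintype.card β) :
    Inv A 3 := by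
  generalize hn : Fintype.card β = n at h
  induction n using Nat.strong_induction_on generalizing β with
  | _ n ih =>
  by_cases h3 : n = 3
  · exact ⟨fun _ => True, inferInstance, by simp [hn, h3], by simp⟩
  obtain ⟨d, rfl | rfl, ⟨p, _, h1, h2⟩, h4⟩ := hA.orbit (by omega)
  · exact ⟨p, _, h1, h2⟩
  have hs := card_sub_add p
  obtain ⟨A₁, A₂, e, -, m2⟩ := hA.split' (by omega) p h2 (by rw [h4, h1]; congr 2; omega)
  rw [e]
  refine inv_prodS _ (ih (n - 4) (by omega) m2 (by omega) ?_)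
  rw [hn] at h4
  by_contra hc
  have h5 : n = 6 ∨ n = 9 ∨ n = 12 := by omega
  rcases h5 with rfl | rfl | rfl <;> exact absurd h4 (by decide)

theorem Mx.dec {A : Subgroup (Perm β)} (hA : Mx β A) (h6 : 6 ≤ Fintype.card β) :
    ∃ (p : β → Prop) (_ : DecidablePred p) (A₁ : Subgroup (Perm {x // p x}))
      (A₂ : Subgroup (Perm {x // ¬p x})), Fintype.card {x // p x} =
        (if Fintype.card β = 8 then 4 else 3) ∧ A = prodS p A₁ A₂ ∧ Mx _ A₁ ∧ Mx _ A₂ := by
  by_cases h8 : Fintype.card β = 8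
  · obtain ⟨d, rfl | rfl, ⟨p, _, h1, h2⟩, h4⟩ := hA.orbit h6
    · rw [h8] at h4; exact absurd h4 (by decide)
    have hs := card_sub_add p
    obtain ⟨A₁, A₂, e, m1, m2⟩ := hA.split' (by omega) p h2 (by rw [h4, h1]; congr 2; omega)
    exact ⟨p, _, A₁, A₂, by simp [h8, h1], e, m1, m2⟩
  · obtain ⟨p, _, h1, h2⟩ := hA.inv3 (by omega)
    have hs := card_sub_add p
    obtain ⟨A₁, A₂, e, m1, m2⟩ := hA.split' (by omega) p h2 (by
      rw [← hs, h1]
      generalize Fintype.card {x // ¬p x} = m at *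
      rcases Nat.lt_or_ge m 6 with h | h
      · have h9 : m = 3 ∨ m = 4 := by omega
        rcases h9 with rfl | rfl <;> rfl
      · rw [add_comm, fA_step h]; rfl)
    exact ⟨p, _, A₁, A₂, by simp [h8, h1], e, m1, m2⟩

omit [Fintype α] [DecidableEq α] [Fintype β] [DecidableEq β] in
theorem cj_prodS {p : α → Prop} [DecidablePred p] {q : β → Prop} [DecidablePred q]
    {A₁ : Subgroup (Perm {x // p x})} {A₂ : Subgroup (Perm {x // ¬p x})}
    {B₁ : Subgroup (Perm {x // q x})} {B₂ : Subgroup (Perm {x // ¬q x})}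
    {e₁ : {x // p x} ≃ {x // q x}} {e₂ : {x // ¬p x} ≃ {x // ¬q x}} (h1 : Cj e₁ A₁ B₁)
    (h2 : Cj e₂ A₂ B₂) :
    Cj ((sumCompl p).symm.trans ((e₁.sumCongr e₂).trans (sumCompl q))) (prodS p A₁ A₂)
      (prodS q B₁ B₂) := by
  have key : ∀ a b, ((sumCompl p).symm.trans ((e₁.sumCongr e₂).trans (sumCompl q))).permCongr
      (Perm.subtypeCongr a b) = Perm.subtypeCongr (e₁.permCongr a) (e₂.permCongr b) := by
    intro a b
    ext x
    by_cases hx : q x
    · rw [Perm.subtypeCongr.left_apply _ _ hx]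
      simp [Equiv.sumCompl_symm_apply_of_pos hx]
    · rw [Perm.subtypeCongr.right_apply _ _ hx]
      simp [Equiv.sumCompl_symm_apply_of_neg hx]
  intro σ
  constructor
  · intro h
    obtain ⟨a, ha, b, hb, rfl⟩ := mem_prodS.1 h
    exact mem_prodS.2 ⟨_, (h1 a).1 ha, _, (h2 b).1 hb, (key a b).symm⟩
  · intro h
    obtain ⟨a, ha, b, hb, h3⟩ := mem_prodS.1 h
    obtain ⟨a, rfl⟩ := e₁.permCongr.surjective a
    obtain ⟨b, rfl⟩ := e₂.permCongr.surjective b
    rw [← key] at h3
    exact mem_prodS.2 ⟨a, (h1 a).2 ha, b, (h2 b).2 hb, (Equiv.injective _ h3)⟩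

theorem Mx.cj {A : Subgroup (Perm α)} {B : Subgroup (Perm β)} (hA : Mx α A) (hB : Mx β B)
    (hc : Fintype.card α = Fintype.card β) : ∃ e : α ≃ β, Cj e A B := by
  generalize hn : Fintype.card β = n at hc
  induction n using Nat.strong_induction_on generalizing α β with
  | _ n ih =>
  by_cases h5 : n ≤ 5
  · exact small' (by omega) (by omega) hA hB
  obtain ⟨p, _, A₁, A₂, h1, rfl, m1, m2⟩ := hA.dec (by omega)
  obtain ⟨q, _, B₁, B₂, h2, rfl, k1, k2⟩ := hB.dec (by omega)
  have s1 := card_sub_add p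
  have s2 := card_sub_add q
  rw [hc] at h1
  rw [hn] at h2
  have h3 : 3 ≤ Fintype.card {x // q x} ∧ Fintype.card {x // q x} ≤ 4 := by
    rw [h2]; split_ifs <;> omega
  obtain ⟨e₁, c1⟩ := small' (by omega) (h1.trans h2.symm) m1 k1
  obtain ⟨e₂, c2⟩ := ih _ (by omega) m2 k2 rfl (by omega)
  exact ⟨_, cj_prodS c1 c2⟩

theorem Mx.odd {A : Subgroup (Perm β)} (hA : Mx β A) (h6 : 6 ≤ Fintype.card β) :
    ∃ g : Perm β, sign g = -1 ∧ Cj g A A := by
  obtain ⟨p, _, A₁, A₂, h1, rfl, m1, m2⟩ := hA.dec h6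
  have h3 : 3 ≤ Fintype.card {x // p x} ∧ Fintype.card {x // p x} ≤ 4 := by
    rw [h1]; split_ifs <;> omega
  obtain ⟨g, hg, c⟩ := small_odd (by omega) (by omega) m1
  refine ⟨Perm.subtypeCongr g 1, by simp [hg], ?_⟩
  exact cj_prodS (e₂ := Equiv.refl _) c fun σ => Iff.rfl

theorem Mx.cj_even {A B : Subgroup (Perm β)} (hA : Mx β A) (hB : Mx β B) :
    ∃ g : Perm β, sign g = 1 ∧ Cj g A B := by
  by_cases h5 : Fintype.card β ≤ 5
  · exact small h5 hA hB
  obtain ⟨e, he⟩ := hA.cj hB rfl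
  rcases Int.units_eq_one_or (sign (e : Perm β)) with h | h
  · exact ⟨e, h, he⟩
  · obtain ⟨g, hg, c⟩ := hA.odd (by omega)
    refine ⟨g.trans e, ?_, c.trans he⟩
    rw [show g.trans e = (e : Perm β) * g from rfl, map_mul, h, hg]
    simp

theorem alt_of_cj {A B : Subgroup (alternatingGroup β)} (g : alternatingGroup β)
    (h : Cj (g : Perm β) (A.map (alternatingGroup β).subtype) (B.map (alternatingGroup β).subtype)) :
    B = MulAut.conj g • A := by
  ext σ
  rw [Subgroup.mem_pointwise_smul_iff_inv_smul_mem,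
    ← Subgroup.mem_map_iff_mem (K := A) (Subgroup.subtype_injective _), h,
    ← Subgroup.mem_map_iff_mem (K := B) (Subgroup.subtype_injective _)]
  have : (g : Perm β).permCongr ((alternatingGroup β).subtype ((MulAut.conj g)⁻¹ • σ)) =
      (alternatingGroup β).subtype σ := by
    ext x
    simp
  rw [this]

theorem alt_conj (n : ℕ) (A B : Subgroup (alternatingGroup (Fin n))) (hA : IsMulCommutative A)
    (hB : IsMulCommutative B)
    (hAmax : ∀ C : Subgroup (alternatingGroup (Fin n)), IsMulCommutative C → Nat.card C ≤ Nat.card A)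
    (hBmax : ∀ C : Subgroup (alternatingGroup (Fin n)), IsMulCommutative C → Nat.card C ≤ Nat.card B) :
    ∃ g : alternatingGroup (Fin n), B = MulAut.conj g • A := by
  obtain ⟨⟨C, hC, h1⟩, h2⟩ := alt_greatest n
  have mA : Mx _ (A.map (alternatingGroup (Fin n)).subtype) := ⟨comm_map_alt hA,
    Subgroup.map_subtype_le A, by
      rw [Subgroup.card_map_of_injective (Subgroup.subtype_injective _), Fintype.card_fin]
      exact le_antisymm (h2 ⟨A, hA, rfl⟩) (h1 ▸ hAmax C hC)⟩
  have mB : Mx _ (B.map (alternatingGroup (Fin n)).subtype) := ⟨comm_map_alt hB,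
    Subgroup.map_subtype_le B, by
      rw [Subgroup.card_map_of_injective (Subgroup.subtype_injective _), Fintype.card_fin]
      exact le_antisymm (h2 ⟨B, hB, rfl⟩) (h1 ▸ hBmax C hC)⟩
  obtain ⟨g, hg, c⟩ := mA.cj_even mB
  exact ⟨⟨g, hg⟩, alt_of_cj _ c⟩

end Cfsg.Agent.H18.Pb
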