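import Mathlib
import Cfsg.Agent.H18.Sparse
import Cfsg.Agent.H18.Transfer

/-! Retraction of the fixed points of a subgroup of coprime index onto the fixed points of the
whole group, and its consequences for the centre of a saturated fusion system. -/

set_option autoImplicit false

namespace Cfsg.Agent.H18

open Cfsg Cfsg.FusionSystem Cfsg.Agent.H17

universe u

theorem exists_retract {Γ A : Type*} [Group Γ] [CommGroup A] [Finite A] (act : Γ →* MulAut A)
    (T : Subgroup Γ) [T.FiniteIndex] (hc : (Nat.card A).Coprime T.index) :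
    ∃ π : A →* A, (∀ z, (∀ t ∈ T, act t z = z) → ∀ g, act g (π z) = π z) ∧
      (∀ Y : Subgroup A, ∀ z, (∀ g, act g z / z ∈ Y) → π z / z ∈ Y) := by
  classical
  haveI : Fintype (Γ ⧸ T) := Fintype.ofFinite _
  obtain ⟨c, hc1⟩ : ∃ c : ℕ, ∀ z : A, z ^ (T.index * c) = z := by
    rcases Nat.eq_zero_or_pos (Nat.card A - 1) with h | h
    · have h1 : Nat.card A = 1 := by have := Nat.card_pos (α := A); omega
      haveI := (Nat.card_eq_one_iff_unique.1 h1).1
      exact ⟨0, fun z => Subsingleton.elim _ _⟩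
    · obtain ⟨c, -, hc'⟩ := Nat.exists_mul_mod_eq_one_of_coprime hc.symm (by omega)
      refine ⟨c, fun z => ?_⟩
      rw [← pow_mod_natCard, hc', pow_one]
  let N : A →* A := ∏ q : Γ ⧸ T, (act q.out).toMonoidHom
  have hN : ∀ z, N z = ∏ q : Γ ⧸ T, act q.out z := fun z => by
    simp [N, MonoidHom.finsetProd_apply]
  refine ⟨(powMonoidHom c).comp N, fun z hz g => ?_, fun Y z hz => ?_⟩
  · simp only [MonoidHom.comp_apply, powMonoidHom_apply, map_pow]
    congr 1
    rw [hN, map_prod]
    refine Fintype.prod_equiv (MulAction.toPerm g) _ _ fun q => ?_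
    have h1 : (g * q.out)⁻¹ * (g • q).out ∈ T := by
      rw [← QuotientGroup.eq, QuotientGroup.out_eq']
      conv_rhs => rw [← QuotientGroup.out_eq' q]
      rfl
    have h2 : (g • q).out = g * q.out * ((g * q.out)⁻¹ * (g • q).out) := by group
    show _ = act (g • q).out z
    rw [h2, map_mul, map_mul, MulAut.mul_apply, MulAut.mul_apply, hz _ h1]
  · have h1 : N z / z ^ T.index ∈ Y := by
      rw [hN, Subgroup.index_eq_card, Nat.card_eq_fintype_card, ← Finset.card_univ,
        ← Finset.prod_const, ← Finset.prod_div_distrib]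
      exact Subgroup.prod_mem _ fun q _ => hz _
    have h2 := Subgroup.pow_mem _ h1 c
    rwa [div_pow, ← pow_mul, hc1] at h2

variable {Ω : Type*} [Group Ω] {S : Subgroup Ω} [Finite S] {F : FusionSystem S} {p : ℕ}
  [Fact p.Prime] {A : Subgroup Ω}

/-- An element of a normal subgroup fixed by its automizer is central. -/
theorem mem_center_of_fix (hS : IsPGroup p S) (hF : F.IsSaturated p) (hA : F.IsNormal A) {z : Ω}
    (hz : z ∈ A) (h : ∀ f, Mor F A f → f z = z) : z ∈ F.center := by
  refine (mem_center_iff hS hF).2 ⟨hA.1 hz, fun P f hf hP => ?_⟩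
  obtain ⟨g, hg, h1, -⟩ := (normal_iff.1 hA).2 P f hf
  rw [← h1 z hP]
  exact h g (hg.mono le_sup_right)

theorem exists_center_retract (hS : IsPGroup p S) (hF : F.IsSaturated p) (hA : F.IsNormal A)
    (hc : A ≤ Subgroup.centralizer (A : Set Ω)) :
    ∃ π : Ω → Ω, HomOn A π ∧ (∀ z ∈ A, π z ∈ A) ∧
      (∀ z ∈ A, z ∈ Subgroup.centralizer (S : Set Ω) → π z ∈ F.center) ∧
      (∀ z ∈ A, z ∈ F.center → π z = z) ∧ (∀ z ∈ A, z⁻¹ * π z ∈ F.focalSubgroup) := by
  haveI := H17.finite_of_le hA.1
  letI : CommGroup A := { (inferInstance : Group A) with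
    mul_comm := fun a b => Subtype.ext ((hc b.2) a a.2) }
  have hi : ¬ p ∣ ((autInducedBy S A).subgroupOf (F.autGroup A)).index := by
    have := sat_not_dvd hS hF (fn_of_sc (normal_sc hA))
    rwa [AutS, AutF, relIndex_lift] at this
  have hcop : (Nat.card A).Coprime ((autInducedBy S A).subgroupOf (F.autGroup A)).index := by
    obtain ⟨k, hk⟩ := IsPGroup.iff_card.1 (hS.to_le hA.1)
    rw [hk]
    exact Nat.Coprime.pow_left _ ((Nat.Prime.coprime_iff_not_dvd Fact.out).2 hi)
  obtain ⟨π, h1, h2⟩ := exists_retract (F.autGroup A).subtype _ hcop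
  have hm : ∀ g : F.autGroup A, Mor F A (extF (A.subtype.comp (g : MulAut A).toMonoidHom)) :=
    fun g => (mem_autGroup hA.1 fun x => by rw [extF_coe]; rfl).1 g.2
  refine ⟨extF (A.subtype.comp π), homOn_extF _, fun z hz => ?_, fun z hz hzS => ?_,
    fun z hz hzF => ?_, fun z hz => ?_⟩
  · rw [extF_of_mem _ hz]; exact (π ⟨z, hz⟩).2
  · rw [extF_of_mem _ hz]
    refine mem_center_of_fix hS hF hA (π ⟨z, hz⟩).2 fun f hf => ?_
    obtain ⟨α, hα, e⟩ := hf.exists_aut (wc_img_eq (normal_wc hA) hf le_rfl)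
    have := h1 ⟨z, hz⟩ (fun t ht => ?_) ⟨α, hα⟩
    · show f (π ⟨z, hz⟩ : A) = _
      rw [← e]
      exact congrArg Subtype.val this
    · obtain ⟨g, hg, e'⟩ := mem_autInducedBy.1 (Subgroup.mem_subgroupOf.1 ht)
      refine Subtype.ext ((e' _).trans ?_)
      show g * z * g⁻¹ = z
      rw [hzS g hg]; group
  · rw [extF_of_mem _ hz]
    have := h2 ⊥ ⟨z, hz⟩ fun g => ?_
    · rw [Subgroup.mem_bot, div_eq_one] at this
      exact congrArg Subtype.val this
    · rw [Subgroup.mem_bot, div_eq_one]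
      refine Subtype.ext ?_
      have := central_apply (central_center F) (hm g) hz hzF
      rwa [extF_of_mem _ hz] at this
  · rw [extF_of_mem _ hz]
    have := h2 (F.focalSubgroup.subgroupOf A) ⟨z, hz⟩ fun g => ?_
    · rw [div_eq_inv_mul] at this
      exact this
    · rw [div_eq_inv_mul]
      have := mem_focal (hm g) hz
      rwa [extF_of_mem _ hz] at this

theorem center_le_centerS (F : FusionSystem S) : F.center ≤ centralizerIn S S :=
  le_inf (center_le F) (central_le_centralizer (central_center F))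

theorem center_factor_of_le_core (hS : IsPGroup p S) (hF : F.IsSaturated p)
    (hZ : centralizerIn S S ≤ F.core) :
    ∃ K, K ≤ centralizerIn S S ∧ F.center ⊓ K = ⊥ ∧ F.center ⊔ K = centralizerIn S S := by
  have hA : F.IsNormal (ucs F.core 1) := normal_of_char (normal_core F) ucs_le ucs_char
  have hZA : centralizerIn S S ≤ ucs F.core 1 := fun z hz =>
    mem_ucs_one.2 ⟨hZ hz, Subgroup.centralizer_le (core_le F) hz.2⟩
  obtain ⟨π, h0, h1, h2, h3, -⟩ := exists_center_retract hS hF hA fun z hz =>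
    Subgroup.centralizer_le ucs_le (mem_ucs_one.1 hz).2
  have h0' := h0.mono hZA
  have hK : ∀ {z}, z ∈ h0'.toHom.ker.map (centralizerIn S S).subtype ↔
      z ∈ centralizerIn S S ∧ π z = 1 := by
    intro z
    constructor
    · rintro ⟨y, hy, rfl⟩
      exact ⟨y.2, hy⟩
    · rintro ⟨a, b⟩
      exact ⟨⟨z, a⟩, b, rfl⟩
  refine ⟨h0'.toHom.ker.map (centralizerIn S S).subtype, fun z hz => (hK.1 hz).1, ?_, ?_⟩
  · rw [eq_bot_iff]
    rintro z ⟨a, b⟩
    rw [Subgroup.mem_bot, ← h3 z (hZA (hK.1 b).1) a]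
    exact (hK.1 b).2
  · refine le_antisymm (sup_le (center_le_centerS F) fun z hz => (hK.1 hz).1) fun z hz => ?_
    have a := h2 z (hZA hz) hz.2
    have a' := center_le_centerS F a
    have : z = π z * ((π z)⁻¹ * z) := by group
    rw [this]
    refine Subgroup.mul_mem_sup a (hK.2 ⟨Subgroup.mul_mem _ (Subgroup.inv_mem _ a') hz, ?_⟩)
    rw [h0'.map_mul (Subgroup.inv_mem _ a') hz, h0'.map_inv a', h3 _ (hZA a') a, inv_mul_cancel]

theorem center_focal_of_comm (hS : IsPGroup p S) (hF : F.IsSaturated p)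
    (hc : S ≤ Subgroup.centralizer (S : Set Ω)) :
    F.center ⊓ F.focalSubgroup = ⊥ ∧ F.center ⊔ F.focalSubgroup = S := by
  have hA : F.IsNormal S := normal_of_sc_comm hS hF (sc_top F) fun x hx y hy => hc hy x hx
  obtain ⟨π, -, h1, h2, -, h4⟩ := exists_center_retract hS hF hA hc
  refine ⟨?_, le_antisymm (sup_le (center_le F) (focal_le F)) fun z hz => ?_⟩
  · rw [inf_comm, focal_inf_center hS hF, Subgroup.commutator_eq_bot_iff_le_centralizer.2 hc,
      bot_inf_eq]
  · have h5 := h4 z⁻¹ (Subgroup.inv_mem _ hz)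
    have h6 := h2 z⁻¹ (Subgroup.inv_mem _ hz) (hc (Subgroup.inv_mem _ hz))
    have : z = (z⁻¹⁻¹ * π z⁻¹) * (π z⁻¹)⁻¹ := by group
    rw [this, sup_comm]
    exact Subgroup.mul_mem_sup h5 (Subgroup.inv_mem _ h6)

theorem center_factor_of_odd {Ω : Type u} [Group Ω] {S : Subgroup Ω} [Finite S]
    {F : FusionSystem S} (hS : IsPGroup p S) (hF : F.IsSaturated p) (h4 : S4Free p F) :
    ∃ K, K ≤ centralizerIn S S ∧ F.center ⊓ K = ⊥ ∧ F.center ⊔ K = centralizerIn S S := by
  obtain ⟨E, hE⟩ := exists_nsys_top F (thompsonAOf_le S) (le_normalizer_thompsonA hS)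
  have hEs := hE.saturated hS hF (fn_of_normal F (thompsonAOf_le S) (le_normalizer_thompsonA hS))
  have hc : E.center = F.center := by
    refine le_antisymm (fun z hz => ?_) fun z hz => ?_
    · refine center_thompsonA hS hF h4 (center_le E hz) fun P f hf hP => ?_
      exact central_apply (central_center E) ((hE P f).2 hf) hP hz
    · refine (mem_center_iff hS hEs).2 ⟨center_le F hz, fun P f hf hP => ?_⟩
      exact central_apply (central_center F) (H18.Mor.of_sub hE.sub hf) hP hz
  rw [← hc]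
  refine center_factor_of_le_core hS hEs (le_trans ?_ (le_core hE.normal))
  exact centralizerIn_self_le_WOf (W := fun (Q : Type u) [Group Q] => thompsonSubgroupA Q)
    (fun Q _ _ _ => center_le_thompsonA) hS

end Cfsg.Agent.H18
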