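import Mathlib
import Cfsg.Agent.H18.Small
import Cfsg.Agent.H17.Prod2
import Cfsg.Agent.H3.Frattini

/-! Tate's theorem for fusion systems. -/

set_option autoImplicit false

namespace Cfsg.Agent.H18

open Cfsg Cfsg.FusionSystem Cfsg.Agent.H17
open scoped IsMulCommutative commutatorElement

universe u

variable {Ω : Type*} [Group Ω] {S T : Subgroup Ω} [Finite S] {F E : FusionSystem S}
  {P Q R A D W : Subgroup Ω} {p : ℕ} [hp : Fact p.Prime] {σ τ : Equiv.Perm Ω} {f : Ω → Ω}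

/-- The pairs of elements of `S` congruent modulo `U`. -/
def pairs (S U : Subgroup Ω) (h : S ≤ Subgroup.normalizer (U : Set Ω)) : Subgroup (Ω × Ω) where
  carrier := {x | x.1 ∈ S ∧ x.2 ∈ S ∧ x.1⁻¹ * x.2 ∈ U}
  one_mem' := ⟨S.one_mem, S.one_mem, by simp⟩
  mul_mem' := fun {a b} ha hb => ⟨S.mul_mem ha.1 hb.1, S.mul_mem ha.2.1 hb.2.1, by
    simpa [mul_assoc] using U.mul_mem (conj_mem_of_mem_normalizer' (h hb.1) ha.2.2) hb.2.2⟩
  inv_mem' := fun {a} ha => ⟨S.inv_mem ha.1, S.inv_mem ha.2.1, by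
    simpa [mul_assoc] using conj_mem_of_mem_normalizer (h ha.1) (U.inv_mem ha.2.2)⟩

theorem tate_core (hS : IsPGroup p S) (hF : F.IsSaturated p) (hW : W ≤ F.hyperfocalSubgroup p)
    (hc : ⁅F.hyperfocalSubgroup p, S⁆ ≤ W) : ∃ D ≤ S, ⁅S, S⁆ ≤ D ∧ W ≤ D ∧
      D ⊓ F.hyperfocalSubgroup p ≤ W ∧ S ≤ D ⊔ F.hyperfocalSubgroup p := by
  set U := F.hyperfocalSubgroup p with hU
  have hUS : U ≤ S := hyp_le F
  haveI := H17.finite_of_le hUS
  have hN : S ≤ Subgroup.normalizer (U : Set Ω) := le_normalizer_hyp F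
  have hcj : ∀ u ∈ U, ∀ s ∈ S, u⁻¹ * (s * u * s⁻¹) ∈ W := fun u hu s hs => by
    simpa [commutatorElement_def, mul_assoc] using
      hc (Subgroup.commutator_mem_commutator (U.inv_mem hu) hs)
  haveI : (W.subgroupOf U).Normal := ⟨fun w hw g => by
    simpa [Subgroup.mem_subgroupOf, mul_assoc] using W.mul_mem hw (hcj w w.2 g (hUS g.2))⟩
  haveI : IsMulCommutative (U ⧸ W.subgroupOf U) := by
    rw [Subgroup.Normal.quotient_commutative_iff_commutator_le, _root_.commutator_def,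
      Subgroup.commutator_le]
    exact fun a _ b _ => hc (Subgroup.commutator_mem_commutator a.2 (hUS b.2))
  have hπ : ∀ u v : U, ∀ s ∈ S, (v : Ω) = s * u * s⁻¹ →
      (v : U ⧸ W.subgroupOf U) = u := fun u v s hs e => by
    rw [eq_comm, QuotientGroup.eq, Subgroup.mem_subgroupOf]
    simpa [e] using hcj u u.2 s hs
  obtain ⟨E₀, hE₀⟩ := exists_prod F (innerFusionSystem S)
  have hS₀ := isPGroup_prod hS hS
  have hE₀s := prod_saturated hS hS hF (inner_saturated hS) hE₀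
  have hX : pairs S U hN ≤ S.prod S := fun x hx => ⟨hx.1, hx.2.1⟩
  haveI := H17.finite_of_le hX
  have m1 : Morph E₀ F (MonoidHom.fst Ω Ω) := ⟨homOn_hom _ _, fun x hx => hx.1, fun P f hf => by
    obtain ⟨f₁, f₂, h1, -, h3⟩ := ((hE₀ P f).1 hf).proj
    exact ⟨f₁, by rwa [img_hom], fun x hx => by simp [h3 x hx]⟩⟩
  have m2 : Morph E₀ (innerFusionSystem S) (MonoidHom.snd Ω Ω) :=
    ⟨homOn_hom _ _, fun x hx => hx.2, fun P f hf => by
      obtain ⟨f₁, f₂, -, h2, h3⟩ := ((hE₀ P f).1 hf).proj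
      exact ⟨f₂, by rwa [img_hom], fun x hx => by simp [h3 x hx]⟩⟩
  have m3 : Morph F E₀ (MonoidHom.inl Ω Ω) :=
    ⟨homOn_hom _ _, fun x hx => ⟨hx, S.one_mem⟩, fun P f hf =>
      ⟨Prod.map f id, ((hE₀ _ _).2 (pMor_map hf (mor_id _ bot_le))).mono
        (img_le_iff.2 fun x hx => ⟨hx, rfl⟩), fun x hx => rfl⟩⟩
  have h1 : E₀.hyperfocalSubgroup p ≤ pairs S U hN := fun x hx => by
    have a1 := (m1.hom.mem_pre.1 (m1.hyp_le hx)).2
    have a2 := (m2.hom.mem_pre.1 (m2.hyp_le hx)).2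
    rw [hyp_inner hS, Subgroup.mem_bot] at a2
    exact ⟨(hyp_le _ hx).1, (hyp_le _ hx).2, by
      rw [show x.2 = 1 from a2, mul_one]; exact U.inv_mem a1⟩
  obtain ⟨E, hEs, hE⟩ := exists_ppow hS₀ hE₀s _ hX h1
  let l : pairs S U hN →* U ⧸ W.subgroupOf U := MonoidHom.mk' (fun x => (⟨_, x.2.2.2⟩ : U))
    fun a b => by
      rw [← hπ ⟨_, a.2.2.2⟩ ⟨_, conj_mem_of_mem_normalizer' (hN b.2.1) a.2.2.2⟩ _
        (S.inv_mem b.2.1) (by simp), ← QuotientGroup.mk_mul]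
      congr 1
      exact Subtype.ext (by simp [mul_assoc])
  obtain ⟨d⟩ := exists_tData (hS₀.to_le hX) hEs l
  let Δ : S →* pairs S U hN := (S.subtype.prod S.subtype).codRestrict _ fun s =>
    ⟨s.2, s.2, by simp⟩
  have hθ : ∀ u : U, d.t (Δ ⟨u, hUS u.2⟩) = (u : U ⧸ W.subgroupOf U) ^ d.m := fun u => by
    let a : pairs S U hN := ⟨(u, 1), hUS u.2, S.one_mem, by simp⟩
    let b : pairs S U hN := ⟨(1, u), S.one_mem, hUS u.2, by simp⟩
    have ha : d.t a = 1 := d.fInv.apply_eq_one (hyp_le_focal (p := p) E (by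
      rw [hyp_eq_of_ppow hS₀ hE₀s hEs hE]
      exact (m3.hom.mem_pre.1 (m3.hyp_le u.2)).2))
    have hb : l b = u := hπ u _ 1 S.one_mem (by simp [b])
    rw [show Δ ⟨u, hUS u.2⟩ = a * b from Subtype.ext (by
      change ((u : Ω), (u : Ω)) = _; simp [a, b]), map_mul, ha, one_mul,
      ← hb]
    refine d.map_t_of b (MonoidHom.id _) fun k y hy => ?_
    obtain ⟨g, hg, rfl⟩ := isConjElt_iff.1 hy
    obtain ⟨f₁, f₂, g1, g2, g3⟩ := ((hE₀ _ _).1 (H18.Mor.of_sub hE.1 hg)).proj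
    obtain ⟨-, s, hs, g4⟩ := mor_inner.1 g2
    have g5 := g3 _ (Subgroup.mem_zpowers _)
    rw [g4 ((b : Ω × Ω) ^ k).2 ⟨_, Subgroup.mem_zpowers _, rfl⟩] at g5
    rw [MonoidHom.id_apply, MonoidHom.id_apply, hb, extF_of_mem l (hg.mem (Subgroup.mem_zpowers _)),
      ← QuotientGroup.mk_pow]
    refine hπ _ _ s hs ?_
    change (g ((b : Ω × Ω) ^ k)).1⁻¹ * (g ((b : Ω × Ω) ^ k)).2 = _
    rw [g5]
    simp [b, g1.homOn.map_one]
  obtain ⟨n, hn⟩ := IsPGroup.iff_card.1 ((hS.to_le hUS).to_quotient (W.subgroupOf U))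
  have hcop : IsCoprime d.m (Nat.card (U ⧸ W.subgroupOf U) : ℤ) := by
    rw [hn, Nat.cast_pow]
    exact (((Nat.prime_iff_prime_int.1 hp.out).irreducible.coprime_iff_not_dvd.2
      d.not_dvd_m).symm).pow_right
  refine ⟨(d.t.comp Δ).ker.map S.subtype, Subgroup.map_subtype_le _, ?_, fun w hw => ?_, ?_,
    fun s hs => ?_⟩
  · rw [← Subgroup.map_subtype_commutator]
    exact Subgroup.map_mono (Abelianization.commutator_subset_ker _)
  · refine ⟨⟨w, hUS (hW hw)⟩, (hθ ⟨w, hW hw⟩).trans ?_, rfl⟩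
    rw [(QuotientGroup.eq_one_iff _).2 (by exact hw), one_zpow]
  · rintro _ ⟨⟨y, hy, rfl⟩, hx⟩
    have h2 := (hθ ⟨y, hx⟩).symm.trans hy
    exact (QuotientGroup.eq_one_iff (⟨y, hx⟩ : U)).1 (eq_one_of_zpow_eq_one (p := p) (k := n)
      (by rw [← hn, pow_card_eq_one']) d.not_dvd_m h2)
  · obtain ⟨a, b, hab⟩ := hcop
    obtain ⟨u, hu⟩ := QuotientGroup.mk_surjective (d.t (Δ ⟨s, hs⟩) ^ a)
    rw [show s = s * (u : Ω)⁻¹ * u by group]
    refine Subgroup.mul_mem _ (Subgroup.mem_sup_left ⟨⟨s, hs⟩ * (⟨u, hUS u.2⟩ : S)⁻¹, ?_, rfl⟩)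
      (Subgroup.mem_sup_right u.2)
    rw [SetLike.mem_coe, MonoidHom.mem_ker, map_mul, map_inv, MonoidHom.comp_apply,
      MonoidHom.comp_apply, hθ, hu, ← zpow_mul, mul_inv_eq_one, ← sub_eq_iff_eq_add.2 hab.symm,
      zpow_sub, zpow_one, mul_comm b, zpow_mul, zpow_natCast, pow_card_eq_one', one_zpow]
    simp

theorem le_of_le_comm_sup (hS : IsPGroup p S) (hQ : Q ≤ S)
    (hN : S ≤ Subgroup.normalizer (R : Set Ω)) (h : Q ≤ ⁅Q, S⁆ ⊔ R) : Q ≤ R := by
  obtain ⟨n, hn⟩ := exists_ucs_eq hS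
  suffices ∀ i, Q ≤ ucs S i ⊔ R → Q ≤ R from this n (hQ.trans (hn.ge.trans le_sup_left))
  intro i
  induction i with
  | zero => rw [ucs_zero, bot_sup_eq]; exact id
  | succ i ih =>
    refine fun h1 => ih (h.trans (sup_le (Subgroup.commutator_le.2 fun x hx s hs => ?_) le_sup_right))
    obtain ⟨a, ha, b, hb, rfl⟩ := (mem_sup_of_le_normalizer (ucs_le.trans hN)).1 (h1 hx)
    rw [show ⁅a * b, s⁆ = a * (b * (s * b⁻¹ * s⁻¹)) * a⁻¹ * ⁅a, s⁆ by
      simp only [commutatorElement_def]; group]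
    exact Subgroup.mul_mem _ (Subgroup.mem_sup_right (conj_mem_of_mem_normalizer (hN (ucs_le ha))
      (R.mul_mem hb (conj_mem_of_mem_normalizer (hN hs) (R.inv_mem hb)))))
      (Subgroup.mem_sup_left (commutator_ucs_le (Subgroup.commutator_mem_commutator ha hs)))

omit hp in
theorem commutator_le_of_normal (hN : S ≤ Subgroup.normalizer (R : Set Ω)) : ⁅R, S⁆ ≤ R :=
  Subgroup.commutator_le.2 fun x hx s hs => by
    simpa [commutatorElement_def, mul_assoc] using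
      R.mul_mem hx (conj_mem_of_mem_normalizer (hN hs) (R.inv_mem hx))

/-- Tate's theorem. -/
theorem tate (hS : IsPGroup p S) (hF : F.IsSaturated p) (hR : R ≤ F.hyperfocalSubgroup p)
    (hN : S ≤ Subgroup.normalizer (R : Set Ω))
    (h : F.hyperfocalSubgroup p ≤ (frattini S).map S.subtype ⊔ R) :
    F.hyperfocalSubgroup p = R := by
  obtain ⟨D, d1, -, d3, d4, d5⟩ := tate_core hS hF (W := ⁅F.hyperfocalSubgroup p, S⁆ ⊔ R)
    (sup_le (commutator_le_of_normal (le_normalizer_hyp F)) hR) le_sup_left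
  have := H3.eq_of_le_sup_map_frattini d1 (d5.trans (sup_le le_sup_left (h.trans (sup_le le_sup_right
    ((le_sup_right.trans d3).trans le_sup_left)))))
  exact le_antisymm (le_of_le_comm_sup hS (hyp_le F) hN
    ((le_inf ((hyp_le F).trans this.ge) le_rfl).trans d4)) hR

theorem inner_of_hyp_le_frattini (hS : IsPGroup p S) (hF : F.IsSaturated p)
    (h : F.hyperfocalSubgroup p ≤ (frattini S).map S.subtype) : IsInner F :=
  isInner_iff_eq.2 (eq_inner_of_hyp hS hF (tate hS hF bot_le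
    (sc_le_normalizer (sc_bot F)) (h.trans le_sup_left)))

theorem tate_iff (hS : IsPGroup p S) (hF : F.IsSaturated p) (hE : E.IsSaturated p)
    (h : E.IsSubsystemOf F) :
    ((frattini S).map S.subtype ⊔ F.focalSubgroup = (frattini S).map S.subtype ⊔ E.focalSubgroup ↔
      F.focalSubgroup = E.focalSubgroup) ∧
    (F.focalSubgroup = E.focalSubgroup ↔ F.hyperfocalSubgroup p = E.hyperfocalSubgroup p) := by
  have h1 : (frattini S).map S.subtype ⊔ F.focalSubgroup =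
      (frattini S).map S.subtype ⊔ E.focalSubgroup →
      F.hyperfocalSubgroup p = E.hyperfocalSubgroup p := fun e =>
    tate hS hF (hyp_mono h) (le_normalizer_hyp E) (((hyp_le_focal F).trans (le_sup_right.trans
      e.le)).trans (sup_le le_sup_left (by
        rw [focal_eq hS hE]
        exact sup_le le_sup_right ((H3.commutator_le_map_frattini hS).trans le_sup_left))))
  have h2 : F.hyperfocalSubgroup p = E.hyperfocalSubgroup p → F.focalSubgroup = E.focalSubgroup :=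
    fun e => by rw [focal_eq hS hF, focal_eq hS hE, e]
  exact ⟨⟨fun e => h2 (h1 e), fun e => by rw [e]⟩, fun e => h1 (by rw [e]), h2⟩

theorem NInn.ppr_fix (hS : IsPGroup p S) (h : NInn F Q) (hQ : Q ≤ P) (hP : P ≤ normalizerIn S Q)
    (hσ : σ ∈ AutF F P) (h1 : PPr p P σ) (h2 : img σ Q = Q) : σ ∈ H17.Fix P := by
  obtain ⟨s, hs, e⟩ := h P σ (nmor_of_mor (AutF.mor (hP.trans normalizerIn_le) hσ) hQ
    (hP.trans inf_le_right) h2)
  obtain ⟨k, hk⟩ := AutS_pmod hS _ (mem_AutS_of_Stab (AutF_le_Stab hσ) hs e)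
  exact h1.mem_of_pow le_rfl hk

theorem hyp_le_of_sc_comm (hS : IsPGroup p S) (hF : F.IsSaturated p) (hQ : F.StronglyClosed Q)
    (h : ⁅S, S⁆ ≤ Q) (hA : NInn F S) : F.hyperfocalSubgroup p ≤ Q := by
  obtain ⟨Ω', _, S', _, F', a, ha, hk, hS', hF'⟩ := exists_surj_quot hS hF hQ
  have h1 : F'.IsNormal S' := normal_of_sc_comm hS' hF' (sc_top F') fun x hx' y hy' => by
    obtain ⟨x, hx, rfl⟩ := ha.exists_mem hx'
    obtain ⟨y, hy, rfl⟩ := ha.exists_mem hy'
    rw [← commutatorElement_eq_one_iff_mul_comm, ← ha.hom.map_commutatorElement hx hy]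
    exact (ha.hom.mem_ker.1 (hk.ge (h (Subgroup.commutator_mem_commutator hx hy)))).2
  have h2 := eq_inner_of_ppr hS' hF' fun R hR σ hσ hσp => by
    obtain rfl : R = S' := hR.resolve_right (not_ess_of_normal_top hS' hF' h1)
    obtain ⟨τ, t1, t2, t3⟩ := ha.pull_ppr le_rfl hσ hσp
    rw [ha.pre_top] at t1 t2 t3
    have := hA.ppr_fix hS le_rfl (le_normalizerIn le_rfl) t1 t2 (AutF.img_eq t1)
    refine mem_Fix.2 fun x hx' => ?_
    obtain ⟨x, hx, rfl⟩ := ha.exists_mem hx'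
    rw [t3 x hx, mem_Fix.1 this x hx]
  have h3 := ha.hyp_le (p := p)
  rwa [h2, hyp_inner hS', hk] at h3

theorem nInn_of_le_frattini (hS : IsPGroup p S) (hF : F.IsSaturated p) (hA : NInn F S)
    (h1 : ⁅S, S⁆ ≤ Q) (h2 : Q ≤ (frattini S).map S.subtype) : NInn F Q := by
  have hQ : Q ≤ S := h2.trans (Subgroup.map_subtype_le _)
  have hN : S ≤ Subgroup.normalizer (Q : Set Ω) := le_normalizer_of_conj_mem fun s hs x hx => by
    simpa [commutatorElement_def, mul_assoc] using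
      Q.mul_mem (h1 (Subgroup.commutator_mem_commutator hs (hQ hx))) hx
  obtain ⟨N, hN'⟩ := exists_nsys_top F hQ hN
  have := hN'.saturated hS hF (fn_of_normal F hQ hN)
  exact hN'.nInn (inner_of_hyp_le_frattini hS this ((hyp_le_of_sc_comm hS this
    (normal_sc hN'.normal) h1 (hA.sub hN'.sub)).trans h2))

omit [Finite S] hp in
theorem IsInner.sc (h : IsInner F) (hQ : Q ≤ S) (hN : S ≤ Subgroup.normalizer (Q : Set Ω)) :
    F.StronglyClosed Q := stronglyClosed_iff.2 ⟨hQ, fun R f hf x hx hxQ => by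
  obtain ⟨s, hs, e⟩ := h R f hf
  rw [e x hx]
  exact conj_mem_of_mem_normalizer (hN hs) hxQ⟩

theorem inner_iff_frattini (hS : IsPGroup p S) (hF : F.IsSaturated p) :
    IsInner F ↔ NInn F S ∧ F.StronglyClosed ((frattini S).map S.subtype) := by
  refine ⟨fun h => ⟨h.nInn S, h.sc (Subgroup.map_subtype_le _) ?_⟩, fun h =>
    inner_of_hyp_le_frattini hS hF (hyp_le_of_sc_comm hS hF h.2
      (H3.commutator_le_map_frattini hS) h.1)⟩
  intro s hs
  exact Subgroup.le_normalizer_map _ ⟨⟨s, hs⟩, (Subgroup.normalizer_eq_top _).ge trivial, rfl⟩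

theorem exists_card_between (hR : IsPGroup p R) [Finite R] (hQ : Q ≤ R) {k : ℕ}
    (h1 : Nat.card Q ≤ p ^ k) (h2 : p ^ k ≤ Nat.card R) :
    ∃ D, Q ≤ D ∧ D ≤ R ∧ Nat.card D = p ^ k := by
  haveI := H17.finite_of_le hQ
  obtain ⟨m, hm⟩ := IsPGroup.iff_card.1 hR
  obtain ⟨n, hn⟩ := IsPGroup.iff_card.1 (hR.to_le hQ)
  rw [hm, Nat.pow_le_pow_iff_right hp.out.one_lt] at h2
  rw [hn, Nat.pow_le_pow_iff_right hp.out.one_lt] at h1
  obtain ⟨K, k1, k2⟩ := Sylow.exists_subgroup_card_pow_prime_le p (hm ▸ pow_dvd_pow p h2)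
    (Q.subgroupOf R) ((Nat.card_congr (Subgroup.subgroupOfEquivOfLe hQ).toEquiv).trans hn) h1
  exact ⟨K.map R.subtype, fun x hx => ⟨⟨x, hQ hx⟩, k2 hx, rfl⟩, Subgroup.map_subtype_le _,
    (Subgroup.card_map_of_injective R.subtype_injective).trans k1⟩

omit [Finite S] hp in
theorem sup_inf_of_le (hP : F.StronglyClosed P) (hQ : Q ≤ R) (hR : R ≤ S) :
    (Q ⊔ P) ⊓ R = Q ⊔ P ⊓ R := by
  refine le_antisymm (fun x hx => ?_) (sup_le (le_inf le_sup_left hQ) (inf_le_inf le_sup_right le_rfl))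
  obtain ⟨a, ha, b, hb, rfl⟩ := (mem_sup_of_le_normalizer ((hQ.trans hR).trans
    (sc_le_normalizer hP))).1 hx.1
  exact Subgroup.mul_mem _ (Subgroup.mem_sup_left ha) (Subgroup.mem_sup_right
    ⟨hb, (R.mul_mem_cancel_left (hQ ha)).1 hx.2⟩)

theorem normal_top_of_hyp_central (hS : IsPGroup p S) (hF : F.IsSaturated p)
    (h : F.hyperfocalSubgroup p ≤ Subgroup.centralizer (S : Set Ω)) : F.IsNormal S :=
  normal_top_of_OpF hS hF fun _ d1 _ s hs => Fix_le_OpF (cj_mem_Fix.2 fun x hx =>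
    (h (d1 hx) s hs.1).symm)

theorem exists_fix_card (hσ : σ ∈ Stab S) (hT : T ≤ S) (h : ∀ x ∈ S, x⁻¹ * σ x ∈ T) :
    ∃ C ≤ S, σ ∈ H17.Fix C ∧ Nat.card S ≤ Nat.card T * Nat.card C := by
  haveI := H17.finite_of_le hT
  have h0 := Stab.homOn hσ
  let C : Subgroup S := MonoidHom.eqLocus h0.toHom S.subtype
  refine ⟨C.map S.subtype, Subgroup.map_subtype_le _, mem_Fix.2 ?_, ?_⟩
  · rintro _ ⟨x, hx, rfl⟩
    exact hx
  rw [Subgroup.card_map_of_injective S.subtype_injective, ← C.index_mul_card]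
  refine Nat.mul_le_mul_right _ (Nat.card_le_card_of_injective (fun q : S ⧸ C =>
    (⟨_, h _ (S.inv_mem q.out.2)⟩ : T)) fun a b e => ?_)
  rw [← a.out_eq, ← b.out_eq]
  refine QuotientGroup.eq.2 ?_
  have e' := congrArg Subtype.val e
  simp only [inv_inv, h0.map_inv a.out.2, h0.map_inv b.out.2] at e'
  change σ ((a.out : Ω)⁻¹ * b.out) = (a.out : Ω)⁻¹ * b.out
  rw [h0.map_mul (S.inv_mem a.out.2) b.out.2, h0.map_inv a.out.2, ← inv_mul_cancel_left
    (a.out : Ω) (σ a.out)⁻¹, e']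
  group

theorem hyp_eq_bot_of_embedded (n : ℕ) : ∀ (Ω : Type u) [Group Ω] (S : Subgroup Ω) [Finite S]
    (F : FusionSystem S) (k : ℕ), Nat.card S = n → IsPGroup p S → F.IsSaturated p →
    p ^ k < Nat.card S → (∀ Q ≤ S, Nat.card Q = p ^ k → ∃ P, F.StronglyClosed P ∧
      F.StronglyClosed (Q ⊔ P) ∧ F.StronglyClosed (Q ⊓ P)) →
    (∀ P ≤ S, ∀ σ ∈ AutF F P, PPr p P σ → ∀ H ≤ P, Nat.card H = p ^ k → img σ H = H →
      σ ∈ H17.Fix P) → F.hyperfocalSubgroup p = ⊥ := by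
  induction n using Nat.strong_induction_on with
  | _ n ih =>
  intro Ω _ S _ F k hn hS hF hk h1 h2
  by_contra h0
  have hin : ¬ ∀ R, (R = S ∨ F.IsEssential p R) → ∀ σ ∈ AutF F R, PPr p R σ → σ ∈ H17.Fix R :=
    fun h => h0 (by rw [eq_inner_of_ppr hS hF h, hyp_inner hS])
  have hk0 : k ≠ 0 := by
    rintro rfl
    exact hin fun R hR σ hσ h => h2 R (ess_le hR) σ hσ h ⊥ bot_le (by simp)
      (Stab.homOn (AutF_le_Stab hσ)).img_bot
  have hne : ∀ {Q : Subgroup Ω}, Nat.card Q = p ^ k → Q ≠ ⊥ := fun h e => by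
    rw [e, Subgroup.card_bot] at h
    exact (Nat.one_lt_pow hk0 hp.out.one_lt).ne h
  have s1 : ∀ K, F.StronglyClosed K → K ≠ ⊥ → Nat.card K ≤ p ^ k → F.hyperfocalSubgroup p ≤ K := by
    intro K hK hK0 hKk
    obtain ⟨Ω', _, S', _, F', a, ha, hk', hS', hF'⟩ := exists_surj_quot hS hF hK
    haveI := H17.finite_of_le hK.1
    obtain ⟨j, hj⟩ := IsPGroup.iff_card.1 (hS.to_le hK.1)
    rw [hj, Nat.pow_le_pow_iff_right hp.out.one_lt] at hKk
    have hc : ∀ Q' ≤ S', Nat.card (pre S a Q') = Nat.card Q' * p ^ j := fun Q' hQ' => by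
      rw [card_eq_card_img_mul (ha.hom.mono pre_le), ha.img_pre hQ', ha.hom.pre_restrict pre_le,
        inf_eq_right.2 (pre_mono bot_le), hk', hj]
    have hc' : ∀ Q' ≤ S', Nat.card Q' = p ^ (k - j) → Nat.card (pre S a Q') = p ^ k :=
      fun Q' hQ' e => by rw [hc Q' hQ', e, ← pow_add, Nat.sub_add_cancel hKk]
    have := ih _ (hn ▸ surj_card_lt ha (hk' ▸ hK0)) Ω' S' F' (k - j) rfl hS' hF' ?_
      (fun Q' hQ' e => ?_) fun P' hP' σ hσ hσp H hH e1 e2 => ?_
    · have h3 := ha.hyp_le (p := p)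
      rwa [this, hk'] at h3
    · have := hc S' le_rfl
      rw [ha.pre_top] at this
      refine Nat.lt_of_mul_lt_mul_right (a := p ^ j) ?_
      rwa [← this, ← pow_add, Nat.sub_add_cancel hKk]
    · obtain ⟨P, p1, p2, p3⟩ := h1 _ pre_le (hc' Q' hQ' e)
      refine ⟨img a P, ha.sc_img p1, ?_, ?_⟩
      · have := ha.sc_img p2
        rwa [(ha.hom.mono p2.1).img_sup, ha.img_pre hQ'] at this
      · have := ha.sc_img p3
        rwa [show img a (pre S a Q' ⊓ P) = Q' ⊓ img a P from le_antisymm (le_inf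
          ((img_mono a inf_le_left).trans ha.hom.img_pre_le) (img_mono a inf_le_right))
          fun y hy => by
            obtain ⟨x, hx, rfl⟩ := (ha.hom.mono p1.1).mem_img.1 hy.2
            exact mem_img_of_mem a ⟨ha.hom.mem_pre.2 ⟨p1.1 hx, hy.1⟩, hx⟩] at this
    · obtain ⟨τ, t1, t2, t3⟩ := ha.pull_ppr hP' hσ hσp
      have t4 := h2 _ pre_le τ t1 t2 _ (pre_mono hH) (hc' H (hH.trans hP') e1)
        ((AutF.mor pre_le t1).img_eq_of_le (pre_mono hH) fun x hx => ha.hom.mem_pre.2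
          ⟨(AutF.mor pre_le t1).mem (pre_mono hH hx), by
            rw [← t3 x (pre_mono hH hx), ← e2]
            exact mem_img_of_mem _ (ha.hom.mem_pre.1 hx).2⟩)
      refine mem_Fix.2 fun y hy => ?_
      obtain ⟨x, hx, rfl⟩ := ha.exists_pre hP' hy
      rw [t3 x hx, mem_Fix.1 t4 x hx]
  have s2 : ∀ m, ∀ K, F.StronglyClosed K → K ≠ ⊥ → Nat.card K = m →
      F.hyperfocalSubgroup p ≤ K ∧ Nat.card (F.hyperfocalSubgroup p) ≤ p ^ k := by
    intro m
    induction m using Nat.strong_induction_on with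
    | _ m ih' =>
    intro K hK hK0 hm
    haveI := H17.finite_of_le hK.1
    rcases le_or_gt (Nat.card K) (p ^ k) with h | h
    · exact ⟨s1 K hK hK0 h, (card_le_of_le (s1 K hK hK0 h)).trans h⟩
    obtain ⟨Q, -, q1, q2⟩ := exists_card_between (hS.to_le hK.1) bot_le
      (by simpa using Nat.one_le_pow _ _ hp.out.pos) h.le
    obtain ⟨P, p1, p2, p3⟩ := h1 Q (q1.trans hK.1) q2
    have key : ∀ L, F.StronglyClosed L → L ≠ ⊥ → L < K →
        F.hyperfocalSubgroup p ≤ K ∧ Nat.card (F.hyperfocalSubgroup p) ≤ p ^ k :=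
      fun L l1 l2 l3 => (ih' _ (hm ▸ card_lt_of_lt l3) L l1 l2 rfl).imp_left (·.trans l3.le)
    have q3 : Q < K := lt_of_le_of_ne q1 fun e => h.ne (e ▸ q2).symm
    by_cases e1 : P ⊓ K = ⊥
    · have := sc_inf p2 hK
      rw [sup_inf_of_le p1 q1 hK.1, e1, sup_bot_eq] at this
      exact key Q this (hne q2) q3
    by_cases e2 : K ≤ P
    · rw [inf_eq_left.2 (q1.trans e2)] at p3
      exact key Q p3 (hne q2) q3
    · exact key _ (sc_inf p1 hK) e1 (lt_of_le_of_ne inf_le_right fun e => e2 (e.ge.trans inf_le_left))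
  have hT := sc_hyp hS hF
  set T := F.hyperfocalSubgroup p with hTe
  haveI := H17.finite_of_le hT.1
  obtain ⟨x, hx, hxΦ⟩ := SetLike.not_le_iff_exists.1 fun h => h0 (tate hS hF bot_le
    (sc_le_normalizer (sc_bot F)) (h.trans le_sup_left))
  obtain ⟨M, m1, m2, m3⟩ := H3.exists_index_p_not_mem (frattini S) (H3.commutator_le_frattini hS)
    (H3.pow_mem_frattini hS) (x := ⟨x, hT.1 hx⟩) fun h => hxΦ ⟨_, h, rfl⟩
  have hM : M.map S.subtype ≤ S := Subgroup.map_subtype_le _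
  haveI := H17.finite_of_le hM
  have hxM : x ∉ M.map S.subtype := fun ⟨y, hy, e⟩ => m2 ((Subtype.ext e : y = ⟨x, _⟩) ▸ hy)
  have hMc : p * Nat.card (M.map S.subtype) = Nat.card S := by
    rw [Subgroup.card_map_of_injective S.subtype_injective, ← m3, M.index_mul_card]
  obtain ⟨s, hs⟩ := IsPGroup.iff_card.1 hS
  have hks : p * p ^ k ≤ Nat.card S := by
    rw [hs, Nat.pow_lt_pow_iff_right hp.out.one_lt] at hk
    rw [hs, ← pow_succ']
    exact Nat.pow_le_pow_right hp.out.pos hk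
  have hTM : T ⊓ M.map S.subtype = ⊥ := by
    obtain ⟨Q, q1, q2, q3⟩ := exists_card_between (hS.to_le hM) (Q := T ⊓ M.map S.subtype)
      inf_le_right ((card_le_of_le inf_le_left).trans (s2 _ T hT h0 rfl).2)
      (Nat.le_of_mul_le_mul_left (hMc ▸ hks) hp.out.pos)
    obtain ⟨P, p1, p2, p3⟩ := h1 Q (q2.trans hM) q3
    have e1 : Q ⊓ P = ⊥ := by
      by_contra e
      exact hxM (q2 ((s2 _ _ p3 e rfl).1 hx).1)
    have e2 : P ≠ ⊥ := by
      rintro rfl
      rw [sup_bot_eq] at p2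
      exact hxM (q2 ((s2 _ _ p2 (hne q3) rfl).1 hx))
    exact eq_bot_iff.2 (e1 ▸ le_inf q1 (inf_le_left.trans (s2 _ _ p1 e2 rfl).1))
  have hΦ : ⁅S, S⁆ ≤ M.map S.subtype :=
    (H3.commutator_le_map_frattini hS).trans (Subgroup.map_mono m1)
  have hTZ : T ≤ Subgroup.centralizer (S : Set Ω) := fun t ht s hs => by
    have : ⁅s, t⁆ ∈ T ⊓ M.map S.subtype := ⟨T.mul_mem (sc_conj_mem hT hs ht) (T.inv_mem ht),
      hΦ (Subgroup.commutator_mem_commutator hs (hT.1 ht))⟩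
    rwa [hTM, Subgroup.mem_bot, commutatorElement_eq_one_iff_mul_comm] at this
  have hTc : Nat.card T ≤ p := by
    have h3 := Subgroup.relIndex_le_of_le_right (H := M.map S.subtype) hT.1 (by
      rw [Subgroup.relIndex, Subgroup.subgroupOf,
        Subgroup.comap_map_eq_self_of_injective S.subtype_injective, m3]; exact hp.out.ne_zero)
    rwa [← Subgroup.inf_relIndex_right, inf_comm, hTM, Subgroup.relIndex_bot_left,
      Subgroup.relIndex, Subgroup.subgroupOf,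
      Subgroup.comap_map_eq_self_of_injective S.subtype_injective, m3] at h3
  refine hin fun R hR σ hσ hσp => ?_
  obtain rfl : R = S := hR.resolve_right (not_ess_of_normal_top hS hF
    (normal_top_of_hyp_central hS hF hTZ))
  obtain ⟨C, c1, c2, c3⟩ := exists_fix_card (AutF_le_Stab hσ) hT.1
    fun x hx => mem_hyp_of_ppr le_rfl hσ hσp hx
  haveI := H17.finite_of_le c1
  obtain ⟨H, -, q1, q2⟩ := exists_card_between (hS.to_le c1) bot_le
    (by simpa using Nat.one_le_pow _ _ hp.out.pos) (Nat.le_of_mul_le_mul_left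
      (hks.trans (c3.trans (Nat.mul_le_mul_right _ hTc))) hp.out.pos)
  exact h2 R le_rfl σ hσ hσp H (q1.trans c1) q2
    (img_eq_self_of_eq fun x hx => mem_Fix.1 c2 x (q1 hx))

theorem ppr_fix_of_nInn (hS : IsPGroup p S) (hF : F.IsSaturated p) (hP : P ≤ S) (hQ : Q ≤ P)
    (h : ∀ H, F.IsFullyNormalized H → Nat.card H = Nat.card Q → NInn F H)
    (hσ : σ ∈ AutF F P) (h1 : PPr p P σ) (h2 : img σ Q = Q) : σ ∈ H17.Fix P := by
  haveI := H17.finite_of_le hP
  obtain ⟨α, hα, hn⟩ := sat_exists_fn hS hF (hQ.trans hP)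
  have hU : normalizerIn P Q ≤ normalizerIn S Q := inf_le_inf hP le_rfl
  have hQU : Q ≤ normalizerIn P Q := le_normalizerIn hQ
  have hσQ := Stab_of_le (Stab.homOn (AutF_le_Stab hσ)) hQ h2
  have hσU := AutF.restrict hP hσ normalizerIn_le (Stab.normalizerIn (AutF_le_Stab hσ) hσQ hQ)
  have hαU := hα.mono hU
  have h3 := (h _ hn (hαU.card_img hQU)).ppr_fix hS (img_mono α hQU)
    (hαU.img_le_normalizerIn hQU le_rfl inf_le_right) (conj_mem_AutF hαU hσU)
    ((h1.mono normalizerIn_le).conj hαU.homOn)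
    (Stab.img_eq (conj_mem_Stab (hαU.homOn.mono hQU) hσQ))
  rw [← conjS_Fix hαU.homOn, conj_mem_conjS] at h3
  exact ppr_fix_of_selfcent hS hP (AutF_le_Stab hσ) h1 _ normalizerIn_le
    ((centralizerIn_anti hQU).trans centralizerIn_le_normalizerIn) h3

theorem inner_iff_embedded (hS : IsPGroup p S) (hF : F.IsSaturated p) (hc : p ^ 2 ≤ Nat.card S) :
    IsInner F ↔ ∃ D : Subgroup Ω, ⊥ < D ∧ D < S ∧ (∀ Q : Subgroup Ω, Q ≤ S → Nat.card Q = Nat.card D →
      ∃ P, F.StronglyClosed P ∧ F.StronglyClosed (Q ⊔ P) ∧ F.StronglyClosed (Q ⊓ P)) ∧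
      ∀ H, F.IsFullyNormalized H → Nat.card H = Nat.card D → NInn F H := by
  constructor
  · intro h
    obtain ⟨s, hs⟩ := IsPGroup.iff_card.1 hS
    rw [hs, Nat.pow_le_pow_iff_right hp.out.one_lt] at hc
    obtain ⟨k, rfl⟩ : ∃ k, s = k + 1 := ⟨s - 1, by omega⟩
    have hlt : p ^ k < Nat.card S := hs ▸ Nat.pow_lt_pow_right hp.out.one_lt k.lt_succ_self
    obtain ⟨D, -, d1, d2⟩ := exists_card_between hS bot_le
      (by simpa using Nat.one_le_pow _ _ hp.out.pos) hlt.le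
    refine ⟨D, bot_lt_iff_ne_bot.2 fun e => ?_, lt_of_le_of_ne d1 fun e => hlt.ne' (e ▸ d2),
      fun Q hQ e => ⟨⊥, sc_bot F, ?_, (inf_bot_eq Q).symm ▸ sc_bot F⟩, fun H _ _ => h.nInn H⟩
    · rw [e, Subgroup.card_bot] at d2
      exact (Nat.one_lt_pow (by omega) hp.out.one_lt).ne d2
    · rw [sup_bot_eq]
      have h1 := lt_normalizerIn hS (lt_of_le_of_ne hQ fun e' => hlt.ne' (e' ▸ e.trans d2))
      haveI := H17.finite_of_le (normalizerIn_le (S := S) (P := Q))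
      obtain ⟨m, hm⟩ := IsPGroup.iff_card.1 (hS.to_le (normalizerIn_le (P := Q)))
      have h2 := card_lt_of_lt h1
      rw [e, d2, hm, Nat.pow_lt_pow_iff_right hp.out.one_lt] at h2
      exact h.sc hQ ((eq_of_le_of_card_le normalizerIn_le (by
        rw [hs, hm]; exact Nat.pow_le_pow_right hp.out.pos h2)).ge.trans inf_le_right)
  · rintro ⟨D, -, d2, d3, d4⟩
    haveI := H17.finite_of_le d2.le
    obtain ⟨k, hk⟩ := IsPGroup.iff_card.1 (hS.to_le d2.le)
    rw [hk] at d3 d4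
    exact isInner_iff_eq.2 (eq_inner_of_hyp hS hF (hyp_eq_bot_of_embedded _ Ω S F k rfl hS hF
      (hk ▸ card_lt_of_lt d2) d3 fun P hP σ hσ h1 H hH e h2 =>
        ppr_fix_of_nInn hS hF hP hH (fun H' a b => d4 H' a (b.trans e)) hσ h1 h2))

end Cfsg.Agent.H18
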