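import Mathlib
import Cfsg.Agent.H18.Tate

/-! Yoshida's theorem for fusion systems. -/

set_option autoImplicit false

namespace Cfsg.Agent.H18

open Cfsg Cfsg.FusionSystem Cfsg.Agent.H17

/-- `G` maps onto the wreath product `C_p ≀ C_p`. -/
def WrQuot (p : ℕ) (G : Type*) [Group G] : Prop :=
  ∃ (W : Sylow p (Equiv.Perm (Fin (p ^ 2)))) (f : G →* (W : Subgroup (Equiv.Perm (Fin (p ^ 2))))),
    Function.Surjective f

section Grp

variable {G : Type*} [Group G] [Finite G] {p : ℕ} [hp : Fact p.Prime]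

theorem submodule_eq_top_of_shift {X : Type*} [Fintype X] (π : Equiv.Perm X) (h1 : π ^ p = 1)
    (h2 : ∀ c c' : X, ∃ k : ℕ, (π ^ k) c = c') (V : Submodule (ZMod p) (X → ZMod p))
    (hV : ∀ v ∈ V, v ∘ π ∈ V) {v : X → ZMod p} (hv : v ∈ V) (h0 : ∑ c, v c ≠ 0) : V = ⊤ := by
  classical
  obtain ⟨c₀, -⟩ := Finset.nonempty_of_sum_ne_zero h0
  haveI : Nonempty X := ⟨c₀⟩
  let T : Module.End (ZMod p) (X → ZMod p) := LinearMap.funLeft _ _ π
  have hT : ∀ (k : ℕ) w, (T ^ k) w = w ∘ ⇑(π ^ k) := fun k => by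
    induction k with
    | zero => exact fun _ => rfl
    | succ k ih => exact fun w => by rw [pow_succ, Module.End.mul_apply, ih, pow_succ']; rfl
  haveI : CharP (Module.End (ZMod p) (X → ZMod p)) p := charP_of_injective_algebraMap' (ZMod p) p
  have hD : (T - 1) ^ p = 0 := by
    rw [sub_pow_char_of_commute _ (Commute.one_right T), one_pow, sub_eq_zero]
    exact LinearMap.ext fun w => by rw [hT, h1]; rfl
  have a1 : ∀ (k : ℕ) w, (T ^ k) w - w ∈ LinearMap.range (T - 1) := fun k w => by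
    induction k with
    | zero => simp
    | succ k ih =>
      rw [← sub_add_sub_cancel _ ((T ^ k) w)]
      exact add_mem ⟨(T ^ k) w, by rw [pow_succ', Module.End.mul_apply]; rfl⟩ ih
  have a2 : ∀ w : X → ZMod p, w - Pi.single c₀ (∑ c, w c) ∈ LinearMap.range (T - 1) := fun w => by
    have : w - Pi.single c₀ (∑ c, w c) = ∑ c, (Pi.single c (w c) - Pi.single c₀ (w c)) := by
      rw [Finset.sum_sub_distrib, Finset.univ_sum_single]
      congr 1
      exact map_sum (AddMonoidHom.single (fun _ => ZMod p) c₀) _ _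
    rw [this]
    refine sum_mem fun c _ => ?_
    obtain ⟨k, rfl⟩ := h2 c c₀
    convert a1 k _ using 2
    rw [hT]
    ext d
    simp [Pi.single_apply]
  have a3 : ∀ w, ∃ v ∈ V, ∃ w', w = v + (T - 1) w' := fun w => by
    obtain ⟨w', e⟩ := sub_mem (a2 w) (Submodule.smul_mem _ ((∑ c, w c) / ∑ c, v c) (a2 v))
    refine ⟨((∑ c, w c) / ∑ c, v c) • v, V.smul_mem _ hv, w', ?_⟩
    rw [e, smul_sub, ← Pi.single_smul', smul_eq_mul, div_mul_cancel₀ _ h0]
    abel
  have a4 : ∀ k : ℕ, ∀ w, ∃ v ∈ V, ∃ w', w = v + ((T - 1) ^ k) w' := fun k => by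
    induction k with
    | zero => exact fun w => ⟨0, V.zero_mem, w, by simp⟩
    | succ k ih =>
      intro w
      obtain ⟨v, hv, w', rfl⟩ := a3 w
      obtain ⟨v', hv', w'', rfl⟩ := ih w'
      exact ⟨v + (T - 1) v', V.add_mem hv (V.sub_mem (hV v' hv') hv'), w'', by
        rw [map_add, pow_succ', Module.End.mul_apply, add_assoc]⟩
  refine eq_top_iff.2 fun w _ => ?_
  obtain ⟨v, hv, w', e⟩ := a4 p w
  rwa [e, hD, LinearMap.zero_apply, add_zero]

theorem wrQuot_of_cocycle (hG : IsPGroup p G) {R : Subgroup G} [R.Normal] [Fintype (G ⧸ R)]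
    (hR : R.index = p) (ψ : G → G ⧸ R → ZMod p)
    (hψ : ∀ g h c, ψ (g * h) c = ψ g (h • c) + ψ h c) {x : G} (hx : x ∈ R)
    (h0 : ∑ c, ψ x c ≠ 0) : WrQuot p G := by
  have hs : ∀ (g : G) (c : G ⧸ R), g • c = (g : G ⧸ R) * c := fun g c => by
    obtain ⟨c, rfl⟩ := QuotientGroup.mk_surjective c
    rfl
  have hr : ∀ r ∈ R, ∀ c : G ⧸ R, r • c = c := fun r hr c => by
    rw [hs, (QuotientGroup.eq_one_iff r).2 hr, one_mul]
  have h1 : ∀ c, ψ 1 c = 0 := fun c => by simpa using hψ 1 1 c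
  letI : MulAction G (ZMod p × G ⧸ R) :=
    { smul := fun g y => (ψ g y.2 + y.1, g • y.2)
      one_smul := fun y => Prod.ext (by change ψ 1 y.2 + y.1 = _; rw [h1, zero_add]) (one_smul _ _)
      mul_smul := fun g h y => Prod.ext (by
        change ψ (g * h) y.2 + y.1 = ψ g (h • y.2) + (ψ h y.2 + y.1)
        rw [hψ, add_assoc]) (mul_smul _ _ _) }
  have hsm : ∀ (g : G) (y : ZMod p × G ⧸ R), g • y = (ψ g y.2 + y.1, g • y.2) := fun _ _ => rfl
  obtain ⟨u, hu⟩ : ∃ u, u ∉ R := by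
    by_contra h
    push Not at h
    rw [(Subgroup.eq_top_iff' R).2 h, Subgroup.index_top] at hR
    exact hp.out.one_lt.ne hR
  let V : AddSubgroup (G ⧸ R → ZMod p) :=
    { carrier := ψ '' R
      zero_mem' := ⟨1, R.one_mem, funext h1⟩
      add_mem' := by
        rintro _ _ ⟨a, ha, rfl⟩ ⟨b, hb, rfl⟩
        exact ⟨a * b, R.mul_mem ha hb, funext fun c => by rw [hψ, hr b hb]; rfl⟩
      neg_mem' := by
        rintro _ ⟨a, ha, rfl⟩
        refine ⟨a⁻¹, R.inv_mem ha, funext fun c => eq_neg_of_add_eq_zero_left ?_⟩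
        have := hψ a⁻¹ a c
        rwa [inv_mul_cancel, h1, hr a ha, eq_comm] at this }
  have hV : AddSubgroup.toZModSubmodule p V = ⊤ := by
    refine submodule_eq_top_of_shift (MulAction.toPermHom G (G ⧸ R) u) ?_ (fun c c' => ?_) _ ?_
      (v := ψ x) ⟨x, hx, rfl⟩ h0
    · rw [← map_pow]
      exact Equiv.ext (hr _ (hR ▸ R.pow_index_mem u))
    · obtain ⟨k, hk⟩ := mem_powers_of_prime_card (G := G ⧸ R) hR
        (mt (QuotientGroup.eq_one_iff u).1 hu) (g' := c' * c⁻¹)
      refine ⟨k, ?_⟩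
      rw [← map_pow, MulAction.toPermHom_apply, MulAction.toPerm_apply, hs, QuotientGroup.mk_pow]
      exact (eq_mul_inv_iff_mul_eq.1 hk)
    · rintro _ ⟨a, ha, rfl⟩
      refine ⟨u⁻¹ * (a * u), by
        simpa [mul_assoc] using ‹R.Normal›.conj_mem' a ha u, funext fun c => ?_⟩
      have := hψ u⁻¹ u c
      rw [inv_mul_cancel, h1] at this
      rw [hψ, hψ, mul_smul, hr a ha, add_left_comm, ← this, add_zero]
      rfl
  have hV' : ∀ w, ∃ r ∈ R, ψ r = w := fun w => hV.ge (Submodule.mem_top (x := w))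
  choose r r1 r2 using hV'
  have hc : Nat.card (ZMod p × G ⧸ R) = p ^ 2 := by
    rw [Nat.card_prod, Nat.card_zmod, pow_two]; exact congrArg _ hR
  let e := Finite.equivFinOfCardEq hc
  let ρ := e.permCongrHom.toMonoidHom.comp (MulAction.toPermHom G (ZMod p × G ⧸ R))
  obtain ⟨W, hW⟩ := (hG.of_surjective _ ρ.rangeRestrict_surjective).exists_le_sylow
  have hWc : Nat.card W = p ^ (p + 1) := by
    rw [W.card_eq_multiplicity, Nat.card_perm, Nat.card_fin,
      ← Nat.multiplicity_eq_factorization hp.out (p ^ 2).factorial_ne_zero,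
      Nat.Prime.multiplicity_factorial_pow hp.out]
    simp [Finset.sum_range_succ, add_comm]
  have hle : p ^ (p + 1) ≤ Nat.card ρ.range := by
    have : Nat.card ((G ⧸ R → ZMod p) × (G ⧸ R)) = p ^ (p + 1) := by
      rw [Nat.card_prod, Nat.card_fun, Nat.card_zmod, pow_succ]
      exact congrArg₂ (fun a b => p ^ a * b) hR hR
    rw [← this]
    refine Nat.card_le_card_of_injective (fun y => ⟨ρ (y.2.out * r y.1), _, rfl⟩) fun a b h => ?_
    have h2 : ∀ y : ZMod p × G ⧸ R, (a.2.out * r a.1) • y = (b.2.out * r b.1) • y := fun y =>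
      congrArg (fun σ : Equiv.Perm _ => σ y) (e.permCongrHom.injective (congrArg Subtype.val h))
    have h3 : a.2 = b.2 := by
      have := congrArg Prod.snd (h2 (0, 1))
      simp only [hsm, mul_smul, hr _ (r1 _)] at this
      simpa [hs] using this
    refine Prod.ext (funext fun c => ?_) h3
    have := h2 (0, c)
    rw [mul_smul, mul_smul, h3, smul_left_cancel_iff, hsm, hsm, r2, r2] at this
    simpa using congrArg Prod.fst this
  have hE : ρ.range = W := Subgroup.eq_of_le_of_card_ge hW (hWc ▸ hle)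
  exact ⟨W, ρ.codRestrict _ fun g => hW ⟨g, rfl⟩, fun w => by
    obtain ⟨g, hg⟩ := hE.ge w.2
    exact ⟨g, Subtype.ext hg⟩⟩

theorem transfer_eq_prod_out {A : Type*} [CommGroup A] {Q : Subgroup G} [Fintype (G ⧸ Q)]
    (μ : Q →* A) (s : G ⧸ Q → G) (hs : ∀ q, (s q : G ⧸ Q) = q) (g : G) :
    MonoidHom.transfer μ g = ∏ q, extF μ ((s (g • q))⁻¹ * g * s q) := by
  obtain rfl : ‹Fintype (G ⧸ Q)› = Q.fintypeQuotientOfFiniteIndex := Subsingleton.elim _ _
  letI := Q.fintypeQuotientOfFiniteIndex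
  rw [MonoidHom.transfer_def μ ⟨_, Subgroup.isComplement_range_left hs⟩,
    Subgroup.leftTransversals.diff, ← Equiv.prod_comp (MulAction.toPerm g)]
  refine Finset.prod_congr rfl fun q _ => ?_
  rw [← extF_coe μ]
  simp only [Subgroup.smul_apply_eq_smul_apply_inv_smul,
    Subgroup.IsComplement.leftQuotientEquiv_apply hs, MulAction.toPerm_apply, inv_smul_smul,
    smul_eq_mul, mul_assoc]

theorem wrQuot_of_transfer (hG : IsPGroup p G) {Q R : Subgroup G} [R.Normal] (hR : R.index = p)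
    (hQ : Q ≤ R) {A : Type*} [CommGroup A] (hA : Nat.card A = p) (μ : Q →* A) {x : G} (hx : x ∈ R)
    (h0 : MonoidHom.transfer μ x ≠ 1) : WrQuot p G := by
  classical
  haveI := Fintype.ofFinite (G ⧸ R)
  haveI := Fintype.ofFinite (G ⧸ Q)
  let e : A ≃* Multiplicative (ZMod p) := mulEquivOfPrimeCardEq hA (by simp)
  let κ : G → G ⧸ Q → ZMod p := fun g q => (e (extF μ ((g • q).out⁻¹ * g * q.out))).toAdd
  have hm : ∀ (g : G) (q : G ⧸ Q), (g • q).out⁻¹ * g * q.out ∈ Q := fun g q => by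
    rw [mul_assoc, ← QuotientGroup.eq, QuotientGroup.out_eq', ← smul_eq_mul,
      ← MulAction.Quotient.smul_mk, QuotientGroup.out_eq']
  have hκ : ∀ g h q, κ (g * h) q = κ g (h • q) + κ h q := fun g h q => by
    simp only [κ]
    rw [← toAdd_mul, ← map_mul, ← (homOn_extF μ).map_mul (hm _ _) (hm _ _), mul_smul]
    congr 3
    group
  let π := Subgroup.quotientMapOfLE hQ
  have hπ : ∀ (g : G) q, π (g • q) = g • π q := fun g q => by
    obtain ⟨q, rfl⟩ := QuotientGroup.mk_surjective q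
    rfl
  refine wrQuot_of_cocycle hG hR (fun g c => ∑ q with π q = c, κ g q) (fun g h c => ?_) hx ?_
  · simp only [hκ, Finset.sum_add_distrib, add_left_inj]
    exact Finset.sum_equiv (MulAction.toPerm h) (fun q => by simp [hπ]) fun _ _ => rfl
  · rw [Finset.sum_fiberwise, ← toAdd_prod, ← map_prod,
      ← transfer_eq_prod_out μ Quotient.out QuotientGroup.out_eq']
    simpa using h0

end Grp

variable {Ω : Type*} [Group Ω] {S : Subgroup Ω} [Finite S] {F : FusionSystem S} {p : ℕ}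
  [hp : Fact p.Prime]

theorem wrQuot_of_hom (hS : IsPGroup p S) (hF : F.IsSaturated p) {A : Type*} [CommGroup A]
    (hA : Nat.card A = p) (l : S →* A) (h1 : ∀ f, Mor F S f → ∀ x ∈ S, extF l (f x) = extF l x)
    (h2 : ¬ FInv F l) : WrQuot p S := by
  by_contra hn
  haveI : Finite A := Nat.finite_of_card_ne_zero (hA ▸ hp.out.ne_zero)
  have hAp : ∀ a : A, a ^ p = 1 := fun a => hA ▸ pow_card_eq_one'
  obtain ⟨D⟩ := exists_tData hS hF l
  refine h2 (fInv_of_focal fun x => ?_)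
  induction hn' : orderOf x using Nat.strong_induction_on generalizing x with
  | _ n ih =>
  intro hx
  refine eq_one_of_zpow_eq_one (k := 1) (by rw [pow_one, hAp]) D.not_dvd_m
    ((D.map_t (MonoidHom.id A) fun i => ?_).symm.trans (D.fInv.apply_eq_one hx))
  rw [MonoidHom.id_comp]
  by_cases h : D.Q i = ⊤
  · refine transfer_eq_pow_index _ _ _ fun k t ht => ?_
    have h3 := D.mor i
    rw [h, ← MonoidHom.range_eq_map, Subgroup.range_subtype] at h3
    rw [D.extF_ν i ht, h1 _ h3 _ (Subtype.prop _), extF_coe]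
    simp
  obtain ⟨R, r1, r2, r3⟩ := H3.exists_index_p_ge hS h
  obtain ⟨j, hj⟩ := r3 ▸ Subgroup.index_dvd_of_le r1
  rw [hj, pow_mul, hAp, one_pow]
  by_cases hxR : x ∈ R
  · by_contra h0
    exact hn (wrQuot_of_transfer hS r3 r1 hA _ hxR h0)
  rw [← one_pow (D.Q i).index]
  refine transfer_eq_pow_index _ _ _ fun k t ht => ?_
  have hm := D.mor i
  have ht' : ((t⁻¹ * x ^ k * t : S) : Ω) ∈ (D.Q i).map S.subtype := ⟨_, ht, rfl⟩
  rw [D.extF_ν i ht, one_pow, extF_of_mem l (hm.mem ht')]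
  have hsc := sc_of_focal_le (le_refl F.focalSubgroup) (focal_le F)
  refine ih _ ?_ _ rfl (sc_mem hsc hm ht' (by
    simpa using sc_conj_mem hsc (S.inv_mem t.2) (Subgroup.pow_mem _ hx k)))
  rw [← hn', ← Subgroup.orderOf_coe, hm.orderOf_eq ht', Subgroup.orderOf_coe,
    show t⁻¹ * x ^ k * t = MulAut.conj t⁻¹ (x ^ k) by simp, MulEquiv.orderOf_eq]
  refine lt_of_le_of_ne (Nat.le_of_dvd (orderOf_pos x) (orderOf_pow_dvd k)) fun e => hxR ?_
  have h4 : Subgroup.zpowers (x ^ k) = Subgroup.zpowers x := Subgroup.eq_of_le_of_card_ge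
    (Subgroup.zpowers_le.2 (Subgroup.pow_mem _ (Subgroup.mem_zpowers x) k))
    (by rw [Nat.card_zpowers, Nat.card_zpowers, e])
  refine Subgroup.zpowers_le.1 (h4.ge.trans (Subgroup.zpowers_le.2 ?_))
  simpa [mul_assoc] using r2.conj_mem _ (r1 ht) t

theorem yoshida (hS : IsPGroup p S) (hF : F.IsSaturated p) {T : Subgroup Ω} {N : FusionSystem T}
    (hN : NSys F S N) (h : N.focalSubgroup ≠ F.focalSubgroup) : WrQuot p S := by
  obtain rfl : T = S := hN.eq.trans normalizerIn_self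
  have hN' := hN.saturated hS hF (fn_top F)
  have h1 : ¬ F.focalSubgroup ≤ (frattini T).map T.subtype ⊔ N.focalSubgroup := fun h1 =>
    h ((tate_iff hS hF hN' hN.sub).1.1 (le_antisymm (sup_le le_sup_left h1)
      (sup_le_sup_left (focal_mono hN.sub) _))).symm
  obtain ⟨x, hx, hx'⟩ := SetLike.not_le_iff_exists.1 h1
  obtain ⟨M, m1, m2, m3⟩ := H3.exists_index_p_not_mem
    (((frattini T).map T.subtype ⊔ N.focalSubgroup).subgroupOf T)
    (fun y hy => Subgroup.mem_sup_left ⟨y, H3.commutator_le_frattini hS hy, rfl⟩)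
    (fun y => Subgroup.mem_sup_left ⟨_, H3.pow_mem_frattini hS y, rfl⟩)
    (x := ⟨x, focal_le F hx⟩) hx'
  haveI := H3.normal_of_index_eq_p hS m3
  haveI : IsCyclic (T ⧸ M) := isCyclic_of_prime_card m3
  letI := IsCyclic.commGroup (α := T ⧸ M)
  have h2 : FInv N (QuotientGroup.mk' M) := fInv_of_focal fun y hy =>
    (QuotientGroup.eq_one_iff y).2 (m1 (Subgroup.mem_sup_right hy))
  exact wrQuot_of_hom hS hF m3 (QuotientGroup.mk' M) (fun f hf => h2 _ _
    ((hN.mor_iff le_rfl le_rfl).2 ⟨hf, hf.img_eq_top⟩)) fun h3 =>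
      m2 ((QuotientGroup.eq_one_iff _).1 (h3.apply_eq_one hx))

end Cfsg.Agent.H18
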